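import Groth.Agent.CohLib.Objects
import Mathlib.Algebra.Category.Grp.EpiMono

/-!
# Sections as morphisms out of free sheaves; short exact sequences and sections
-/

universe u

open CategoryTheory CategoryTheory.Limits Opposite CategoryTheory.Abelian

namespace CohLib

variable {C : Type u} [SmallCategory C] {J : GrothendieckTopology C}

/-- Maps of presheaves out of the free presheaf on a presheaf of sets. -/
noncomputable def freePshEquiv (L : Cᵒᵖ ⥤ Type u) (P : Cᵒᵖ ⥤ AddCommGrpCat.{u}) :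
    (L ⋙ AddCommGrpCat.free.{u} ⟶ P) ≃ (L ⟶ P ⋙ forget AddCommGrpCat.{u}) :=
  (AddCommGrpCat.adj.{u}.whiskerRight Cᵒᵖ).homEquiv L P

/-- Sections are morphisms out of the free sheaf on the representable presheaf. -/
noncomputable def secEquiv (U : C) (F : Sheaf J AddCommGrpCat.{u}) :
    ((presheafToSheaf J AddCommGrpCat.{u}).obj (yoneda.obj U ⋙ AddCommGrpCat.free.{u}) ⟶ F) ≃
      F.obj.obj (op U) :=
  (((sheafificationAdjunction J AddCommGrpCat.{u}).homEquiv _ _).trans
    (freePshEquiv _ _)).trans yonedaEquiv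

lemma secEquiv_comp (U : C) {F G : Sheaf J AddCommGrpCat.{u}} (φ : F ⟶ G)
    (t : (presheafToSheaf J AddCommGrpCat.{u}).obj (yoneda.obj U ⋙ AddCommGrpCat.free.{u}) ⟶ F) :
    secEquiv U G (t ≫ φ) = φ.hom.app (op U) (secEquiv U F t) := by
  change yonedaEquiv (freePshEquiv _ _ ((sheafificationAdjunction J _).homEquiv _ _ (t ≫ φ))) = _
  rw [Adjunction.homEquiv_naturality_right]
  unfold freePshEquiv
  erw [Adjunction.homEquiv_naturality_right, yonedaEquiv_comp]

/-- Surjectivity on sections from vanishing of the first cohomology of the kernel. -/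
lemma surjective_sections_of_HU {S : ShortComplex (Sheaf J AddCommGrpCat.{u})} (hS : S.ShortExact)
    (U : C) [Subsingleton (CohSite.HU S.X₁ 1 U)] : Function.Surjective (S.g.hom.app (op U)) := by
  intro s
  haveI : Subsingleton (Ext ((presheafToSheaf J AddCommGrpCat.{u}).obj
      (yoneda.obj U ⋙ AddCommGrpCat.free.{u})) S.X₁ 1) := ‹Subsingleton (CohSite.HU S.X₁ 1 U)›
  obtain ⟨t, ht⟩ := exists_lift_of_subsingleton_ext_one hS ((secEquiv U S.X₃).symm s)
  exact ⟨secEquiv U S.X₂ t, by rw [← secEquiv_comp, ht, Equiv.apply_symm_apply]⟩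

lemma subsingleton_HU_one_of_surjective {S : ShortComplex (Sheaf J AddCommGrpCat.{u})}
    (hS : S.ShortExact) (U : C) [Subsingleton (CohSite.HU S.X₂ 1 U)]
    (h : Function.Surjective (S.g.hom.app (op U))) : Subsingleton (CohSite.HU S.X₁ 1 U) := by
  haveI : Subsingleton (Ext ((presheafToSheaf J AddCommGrpCat.{u}).obj
      (yoneda.obj U ⋙ AddCommGrpCat.free.{u})) S.X₂ 1) := ‹Subsingleton (CohSite.HU S.X₂ 1 U)›
  refine subsingleton_ext_one_of_lift hS (X := (presheafToSheaf J AddCommGrpCat.{u}).obj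
    (yoneda.obj U ⋙ AddCommGrpCat.free.{u})) fun s => ?_
  obtain ⟨t, ht⟩ := h (secEquiv U S.X₃ s)
  refine ⟨(secEquiv U S.X₂).symm t, (secEquiv U S.X₃).injective ?_⟩
  rw [secEquiv_comp, Equiv.apply_symm_apply, ht]

lemma epi_of_surjective_sections {F G : Sheaf J AddCommGrpCat.{u}} (φ : F ⟶ G)
    (h : ∀ U, Function.Surjective (φ.hom.app (op U))) : Epi φ := by
  haveI : Sheaf.IsLocallySurjective φ :=
    Presheaf.isLocallySurjective_of_surjective J φ.hom fun U => h U.unop
  exact (Sheaf.isLocallySurjective_iff_epi' AddCommGrpCat.{u} φ).1 inferInstance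

end CohLib
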