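import Groth.Agent.CohLib.Push
import Groth.Agent.CohLib.Sections

/-!
# Direct images of sheaves acyclic on objects
-/

universe u

open CategoryTheory CategoryTheory.Limits Opposite CategoryTheory.Abelian

namespace CohLib

variable {C D : Type u} [SmallCategory C] [SmallCategory D] (J : GrothendieckTopology C)
  (K : GrothendieckTopology D) (u : D ⥤ C) [u.IsContinuous K J]
  [∀ m, PreservesLimitsOfShape (WidePullbackShape (Fin (m + 1))) (u.sheafPullback (Type u) K J)]

theorem subsingleton_HU_push (V : D) (q : ℕ) : ∀ (F : Sheaf J AddCommGrpCat.{u}),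
    (∀ (U : C) (q : ℕ), Subsingleton (CohSite.HU F (q + 1) U)) →
      Subsingleton (CohSite.HU ((CohSite.push J K u).obj F) (q + 1) V) := by
  induction q with
  | zero =>
    intro F hF
    have hS := injSC_shortExact F
    haveI := hS.mono_f
    haveI := fun U => hF U 0
    haveI : PreservesLimitsOfSize.{0, 0} (CohSite.push J K u) :=
      (u.sheafAdjunctionContinuous AddCommGrpCat.{u} K J).rightAdjoint_preservesLimits
    have hS' : ((injSC F).map (CohSite.push J K u)).ShortExact :=
      { exact := hS.exact.map_of_mono_of_preservesKernel _ ‹_› inferInstance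
        mono_f := (CohSite.push J K u).map_mono (injSC F).f
        epi_g := epi_of_surjective_sections _ fun W => surjective_sections_of_HU hS (u.obj W) }
    haveI : Subsingleton (CohSite.HU ((injSC F).map (CohSite.push J K u)).X₂ 1 V) :=
      subsingleton_HU _ (isTotallyAcyclic_push J K u (isTotallyAcyclic_injective (Injective.under F)))
        V 0
    exact subsingleton_HU_one_of_surjective hS' V (surjective_sections_of_HU hS (u.obj V))
  | succ q ih =>
    intro F hF
    have hS := injSC_shortExact F
    haveI := hS.mono_f
    haveI := fun U => hF U 0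
    haveI : PreservesLimitsOfSize.{0, 0} (CohSite.push J K u) :=
      (u.sheafAdjunctionContinuous AddCommGrpCat.{u} K J).rightAdjoint_preservesLimits
    have hS' : ((injSC F).map (CohSite.push J K u)).ShortExact :=
      { exact := hS.exact.map_of_mono_of_preservesKernel _ ‹_› inferInstance
        mono_f := (CohSite.push J K u).map_mono (injSC F).f
        epi_g := epi_of_surjective_sections _ fun W => surjective_sections_of_HU hS (u.obj W) }
    let Xv := (presheafToSheaf K AddCommGrpCat.{u}).obj (yoneda.obj V ⋙ AddCommGrpCat.free.{u})
    haveI : Subsingleton (Ext Xv ((injSC F).map (CohSite.push J K u)).X₂ (q + 1 + 1)) :=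
      subsingleton_HU _ (isTotallyAcyclic_push J K u (isTotallyAcyclic_injective (Injective.under F)))
        V (q + 1)
    haveI : Subsingleton (Ext Xv ((injSC F).map (CohSite.push J K u)).X₃ (q + 1)) :=
      ih _ fun U p => by
        let Xu := (presheafToSheaf J AddCommGrpCat.{u}).obj (yoneda.obj U ⋙ AddCommGrpCat.free.{u})
        haveI : Subsingleton (Ext Xu (injSC F).X₂ (p + 1)) :=
          subsingleton_ext_injective _ (Injective.under F) p
        haveI : Subsingleton (Ext Xu (injSC F).X₁ (p + 1 + 1)) := hF U (p + 1)
        exact subsingleton_ext_of_shift' hS (X := Xu) (n := p + 1)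
    exact subsingleton_ext_of_shift hS' (X := Xv) (n := q + 1)

end CohLib
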