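import Groth.Agent.CohLib.OverCoh
import Groth.Agent.CohLib.PushObjects
import Groth.Agent.SpSeqLib.Grothendieck
import Mathlib.CategoryTheory.Preadditive.Yoneda.Limits

/-!
# Derived direct images and the Leray spectral sequences
-/

universe u v

set_option linter.style.haveILetI false

open CategoryTheory CategoryTheory.Limits Opposite CategoryTheory.Abelian

namespace CohLib

section

variable {A : Type v} [Category.{u} A] [Abelian A] [HasExt.{u} A] [HasInjectiveResolutions A]

/-- The right derived functors of `Hom(Z, -)` are the Ext groups. -/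
theorem nonempty_rightDerived_coyoneda_iso_ext (Z F : A) (p : ℕ) :
    Nonempty (((preadditiveCoyoneda.obj (op Z)).rightDerived p).obj F ≅
      AddCommGrpCat.of (Ext.{u} Z F p)) := by
  let R : InjectiveResolution F := injectiveResolution F
  obtain ⟨i⟩ := nonempty_homology_iso_ext_of_injective R
    (((preadditiveCoyoneda.obj (op Z)).mapHomologicalComplex _).obj R.cocomplex)
    (fun m => AddEquiv.refl _) (fun _ _ => rfl) p
  exact ⟨R.isoRightDerivedObj (preadditiveCoyoneda.obj (op Z)) p ≪≫ i⟩

instance preservesFiniteLimits_coyoneda {A : Type v} [Category.{u} A] [Preadditive A] (Z : Aᵒᵖ) :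
    PreservesFiniteLimits (preadditiveCoyoneda.obj Z) := by
  haveI : PreservesLimitsOfSize.{0, 0} (preadditiveCoyoneda.obj Z ⋙ forget AddCommGrpCat.{u}) :=
    inferInstanceAs (PreservesLimitsOfSize.{0, 0} (coyoneda.obj Z))
  haveI : PreservesLimitsOfSize.{0, 0} (preadditiveCoyoneda.obj Z) :=
    preservesLimits_of_reflects_of_preserves _ (forget AddCommGrpCat.{u})
  exact PreservesLimitsOfSize.preservesFiniteLimits _

end

variable {C D : Type u} [SmallCategory C] [SmallCategory D] (J : GrothendieckTopology C)
  (K : GrothendieckTopology D) (u : D ⥤ C) [u.IsContinuous K J]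

/-- Higher direct images vanish when the cohomology of all the `u V` does. -/
theorem isZero_Rpush_of_subsingleton_HU (F : Sheaf J AddCommGrpCat.{u}) (q : ℕ)
    (h : ∀ V : D, Subsingleton (CohSite.HU F q (u.obj V))) :
    IsZero ((CohSite.Rpush J K u q).obj F) := by
  let R : InjectiveResolution F := injectiveResolution F
  let G := (CohSite.push J K u)
  let P : CochainComplex (Dᵒᵖ ⥤ AddCommGrpCat.{u}) ℕ :=
    ((sheafToPresheaf K AddCommGrpCat.{u}).mapHomologicalComplex _).obj
      ((G.mapHomologicalComplex _).obj R.cocomplex)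
  have hP : (P.sc q).Exact := by
    rw [ShortComplex.exact_iff_isZero_homology, Functor.isZero_iff]
    intro V
    let ev := (evaluation Dᵒᵖ AddCommGrpCat.{u}).obj V
    haveI : Subsingleton (Ext ((presheafToSheaf J AddCommGrpCat.{u}).obj
        (yoneda.obj (u.obj V.unop) ⋙ AddCommGrpCat.free.{u})) F q) := h V.unop
    obtain ⟨i⟩ := nonempty_homology_iso_ext_of_injective R ((ev.mapHomologicalComplex _).obj P)
      (X := (presheafToSheaf J AddCommGrpCat.{u}).obj
        (yoneda.obj (u.obj V.unop) ⋙ AddCommGrpCat.free.{u}))
      (fun m => (secAddEquiv J (u.obj V.unop) (R.cocomplex.X m)).symm)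
      (fun m x => (secAddEquiv J (u.obj V.unop) _).injective
        (((secAddEquiv J (u.obj V.unop) _).apply_symm_apply _).trans
          (((secEquiv_comp (u.obj V.unop) (R.cocomplex.d m (m + 1)) _).trans
            (congrArg ((R.cocomplex.d m (m + 1)).hom.app (op (u.obj V.unop)))
              ((secAddEquiv J (u.obj V.unop) _).apply_symm_apply x))).symm))) q
    have h0 : IsZero (((ev.mapHomologicalComplex _).obj P).homology q) :=
      (AddCommGrpCat.isZero_of_subsingleton _).of_iso i
    exact h0.of_iso ((P.sc q).mapHomologyIso ev).symm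
  haveI : (presheafToSheaf K AddCommGrpCat.{u}).Additive :=
    (sheafificationAdjunction K AddCommGrpCat.{u}).left_adjoint_additive
  have hS := hP.map (presheafToSheaf K AddCommGrpCat.{u})
  have h' : (((G.mapHomologicalComplex _).obj R.cocomplex).sc q).Exact :=
    ShortComplex.exact_of_iso ((((G.mapHomologicalComplex _).obj R.cocomplex).sc q).mapNatIso
      (asIso (sheafificationAdjunction K AddCommGrpCat.{u}).counit) ≪≫
        Iso.refl _) hS
  exact ((ShortComplex.exact_iff_isZero_homology _).1 h').of_iso (R.isoRightDerivedObj G q)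

instance preservesFiniteLimits_push : PreservesFiniteLimits (CohSite.push J K u) :=
  haveI : PreservesLimitsOfSize.{0, 0} (CohSite.push J K u) :=
    (u.sheafAdjunctionContinuous AddCommGrpCat.{u} K J).rightAdjoint_preservesLimits
  PreservesLimitsOfSize.preservesFiniteLimits _

lemma subsingleton_HU_injective (Q : Sheaf J AddCommGrpCat.{u}) [Injective Q] (U : C) (q : ℕ) :
    Subsingleton (CohSite.HU Q (q + 1) U) :=
  subsingleton_ext_injective _ Q q

lemma subsingleton_HU_push_injective
    [PreservesFiniteLimits (u.sheafPullback (Type u) K J)] (Q : Sheaf J AddCommGrpCat.{u}) [Injective Q]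
    (V : D) (q : ℕ) : Subsingleton (CohSite.HU ((CohSite.push J K u).obj Q) (q + 1) V) :=
  subsingleton_HU_push J K u V q Q fun U q => subsingleton_HU_injective J Q U q

end CohLib
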