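import Groth.Prelude.Def_LocCohZ
import Groth.Agent.QCohLib.AbCoh
import Groth.Agent.CohLib.Leray

/-!
# The spectral sequence from local to global cohomology with supports
-/

universe u

set_option linter.style.haveILetI false

open CategoryTheory CategoryTheory.Limits Opposite CategoryTheory.Abelian TopologicalSpace
open QCohLib (zsh zmap zEquiv zEquiv_comp zEquiv_zmap)

namespace CohLib

variable {X : TopCat.{u}} (U : Opens X)

/-- The unit `F ⟶ j_* j^* F`. -/
noncomputable abbrev suppUnit (F : CohTop.Ab X) :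
    F ⟶ (CohTop.push (CohCx.incl U)).obj ((CohTop.pull (CohCx.incl U)).obj F) :=
  (TopCat.Sheaf.pullbackPushforwardAdjunction AddCommGrpCat.{u} (CohCx.incl U)).unit.app F

/-- The restriction to `U`, adjoint to the naive pullback. -/
noncomputable def toPushRestr (F : CohTop.Ab X) :
    F ⟶ (CohTop.push (CohCx.incl U)).obj ((U.isOpenEmbedding).sheafPullback AddCommGrpCat.{u} |>.obj F) :=
  ⟨{ app := fun V => F.obj.map
      (homOfLE (by rintro x ⟨y, hy, rfl⟩; exact hy) :
        U.isOpenEmbedding.functor.obj ((Opens.map (CohCx.incl U)).obj V.unop) ⟶ V.unop).op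
     naturality := fun V W f => (F.obj.map_comp _ _).symm.trans
      ((congrArg F.obj.map (Subsingleton.elim _ _)).trans (F.obj.map_comp _ _)) }⟩

/-- A section is killed by the unit iff it vanishes on `U`. -/
lemma suppUnit_app_eq_zero_iff (F : CohTop.Ab X) (V : Opens X) (s : F.obj.obj (op V)) :
    (suppUnit U F).hom.app (op V) s = 0 ↔
      F.obj.map (homOfLE (inf_le_left : V ⊓ U ≤ V)).op s = 0 := by
  let adj := TopCat.Sheaf.pullbackPushforwardAdjunction AddCommGrpCat.{u} (CohCx.incl U)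
  constructor
  · intro h
    have hφ : suppUnit U F ≫ (CohTop.push (CohCx.incl U)).map ((adj.homEquiv F _).symm (toPushRestr U F)) =
        toPushRestr U F :=
      (adj.homEquiv_unit F _ _).symm.trans ((adj.homEquiv F _).apply_symm_apply _)
    have h₁ := congrArg (fun f => f.hom.app (op V) s) hφ
    simp only [ObjectProperty.FullSubcategory.comp_hom, NatTrans.comp_app, ConcreteCategory.comp_apply] at h₁
    erw [h, map_zero] at h₁
    have hle : V ⊓ U ≤ U.isOpenEmbedding.functor.obj ((Opens.map (CohCx.incl U)).obj V) :=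
      fun x hx => ⟨⟨x, hx.2⟩, hx.1, rfl⟩
    have h₂ := congrArg (F.obj.map (homOfLE hle).op) h₁
    refine Eq.trans ?_ (h₂.symm.trans (map_zero (F.obj.map (homOfLE hle).op).hom))
    refine Eq.trans ?_ (ConcreteCategory.congr_hom (F.obj.map_comp _ _) s)
    exact ConcreteCategory.congr_hom (congrArg F.obj.map (Subsingleton.elim _ _)) s
  · intro h
    let P := (CohTop.push (CohCx.incl U)).obj ((CohTop.pull (CohCx.incl U)).obj F)
    have hiso : IsIso (P.obj.map (homOfLE (inf_le_left : V ⊓ U ≤ V)).op) := by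
      haveI : IsIso ((Opens.map (CohCx.incl U)).map (homOfLE (inf_le_left : V ⊓ U ≤ V))) :=
        ⟨homOfLE fun x hx => ⟨hx, x.2⟩, Subsingleton.elim _ _, Subsingleton.elim _ _⟩
      change IsIso (((CohTop.pull (CohCx.incl U)).obj F).obj.map
        ((Opens.map (CohCx.incl U)).map (homOfLE (inf_le_left : V ⊓ U ≤ V))).op)
      infer_instance
    apply ((AddCommGrpCat.mono_iff_injective (P.obj.map (homOfLE (inf_le_left : V ⊓ U ≤ V)).op)).1
      inferInstance)
    rw [map_zero]
    refine ((NatTrans.naturality_apply (suppUnit U F).hom (homOfLE (inf_le_left : V ⊓ U ≤ V)).op s).symm).trans ?_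
    exact (congrArg _ h).trans (map_zero _)

/-- Sections with supports of an injective sheaf are flasque. -/
theorem isFlasque_sectSupp (Q : CohTop.Ab X) [Injective Q] :
    TopCat.Sheaf.IsFlasque (CohCx.sectSupp U Q : TopCat.Sheaf AddCommGrpCat X) where
  epi {W' V'} i := by
    rw [AddCommGrpCat.epi_iff_surjective]
    intro (s : (CohCx.sectSupp U Q).obj.obj (op V'.unop))
    let W := W'.unop
    let V := V'.unop
    let ι : CohCx.sectSupp U Q ⟶ Q := kernel.ι (suppUnit U Q)
    let x := ι.hom.app (op V) s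
    have hx : Q.obj.map (homOfLE (inf_le_left : V ⊓ U ≤ V)).op x = 0 := by
      rw [← suppUnit_app_eq_zero_iff]
      have h := congrArg (fun f => f.hom.app (op V) s) (kernel.condition (suppUnit U Q))
      exact h
    let Us : ULift.{u} Bool → Opens X := fun b => cond b.down V U
    let sf : ∀ b : ULift.{u} Bool, Q.obj.obj (op (Us b)) := fun
      | ⟨true⟩ => x
      | ⟨false⟩ => 0
    have hc : TopCat.Presheaf.IsCompatible Q.obj Us sf := by
      rintro ⟨_ | _⟩ ⟨_ | _⟩
      · rfl
      · refine (map_zero _).trans ?_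
        have h := congrArg (Q.obj.map (homOfLE (le_of_eq (inf_comm U V))).op) hx
        rw [map_zero] at h
        refine h.symm.trans ?_
        exact (ConcreteCategory.congr_hom (Q.obj.map_comp _ _) x).symm.trans
          (ConcreteCategory.congr_hom (congrArg Q.obj.map (Subsingleton.elim _ _)) x)
      · refine Eq.trans ?_ (map_zero _).symm
        exact Eq.trans (ConcreteCategory.congr_hom (congrArg Q.obj.map (Subsingleton.elim _ _)) x) hx
      · rfl
    obtain ⟨y, hy, -⟩ := TopCat.Sheaf.existsUnique_gluing (X := X) Q Us sf hc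
    haveI := QCohLib.isFlasque_of_injective Q
    obtain ⟨z, hz⟩ := (AddCommGrpCat.epi_iff_surjective (Q.obj.map
      (homOfLE (le_top : iSup Us ≤ ⊤)).op)).1 (TopCat.Presheaf.IsFlasque.epi _) y
    let w := Q.obj.map (homOfLE (le_top : W ≤ ⊤)).op z
    have res : ∀ {A B : Opens X} (h : B ≤ A) (hA : A ≤ ⊤),
        Q.obj.map (homOfLE h).op (Q.obj.map (homOfLE hA).op z) =
          Q.obj.map (homOfLE (le_top : B ≤ ⊤)).op z := fun h hA =>
      (ConcreteCategory.congr_hom (Q.obj.map_comp _ _) z).symm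
    have hU : Q.obj.map (homOfLE (le_top : U ≤ ⊤)).op z = 0 := by
      refine (res (le_iSup Us ⟨false⟩) le_top).symm.trans ?_
      exact (congrArg _ hz).trans (hy ⟨false⟩)
    have hV : Q.obj.map (homOfLE (le_top : V ≤ ⊤)).op z = x := by
      refine (res (le_iSup Us ⟨true⟩) le_top).symm.trans ?_
      exact (congrArg _ hz).trans (hy ⟨true⟩)
    have hw : Q.obj.map (homOfLE (inf_le_left : W ⊓ U ≤ W)).op w = 0 := by
      refine (res inf_le_left le_top).trans ?_
      refine (ConcreteCategory.congr_hom ((congrArg Q.obj.map (Subsingleton.elim _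
        ((homOfLE (le_top : U ≤ ⊤)).op ≫ (homOfLE (inf_le_right : W ⊓ U ≤ U)).op))).trans
          (Q.obj.map_comp _ _)) z).trans ?_
      exact (congrArg _ hU).trans (map_zero (Q.obj.map (homOfLE (inf_le_right : W ⊓ U ≤ U)).op).hom)
    rw [← suppUnit_app_eq_zero_iff] at hw
    have hlift : zEquiv.symm w ≫ suppUnit U Q = 0 := by
      apply zEquiv.injective
      rw [zEquiv_comp, AddEquiv.apply_symm_apply, map_zero]
      exact hw
    refine ⟨zEquiv (kernel.lift _ _ hlift), ?_⟩
    haveI : Mono ι.hom := (sheafToPresheaf _ _).map_mono ι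
    apply (AddCommGrpCat.mono_iff_injective (ι.hom.app (op V))).1 inferInstance
    refine ((NatTrans.naturality_apply ι.hom i (zEquiv (kernel.lift _ _ hlift)))).trans ?_
    rw [show ι.hom.app W' (zEquiv (kernel.lift _ _ hlift)) = w by
      refine (zEquiv_comp (kernel.lift _ _ hlift) ι).symm.trans ?_
      rw [kernel.lift_ι, AddEquiv.apply_symm_apply]]
    refine Eq.trans ?_ hV
    exact (ConcreteCategory.congr_hom (Q.obj.map_comp _ _) z).symm.trans
      (ConcreteCategory.congr_hom (congrArg Q.obj.map (Subsingleton.elim _ _)) z)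

lemma freeSheafMap_comp_eq_zero {F : CohTop.Ab X} (t : zsh (⊤ : Opens X) ⟶ CohCx.sectSupp U F) :
    CohCx.freeSheafMap (Opens.grothendieckTopology X) (homOfLE (le_top : U ≤ ⊤)) ≫
      t ≫ kernel.ι (suppUnit U F) = 0 := by
  apply zEquiv.injective
  refine (zEquiv_zmap (homOfLE (le_top : U ≤ ⊤)) (t ≫ kernel.ι (suppUnit U F))).trans ?_
  rw [map_zero]
  have h : (suppUnit U F).hom.app (op ⊤) (zEquiv (t ≫ kernel.ι (suppUnit U F))) = 0 := by
    rw [← zEquiv_comp, Category.assoc, kernel.condition, comp_zero, map_zero]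
  rw [suppUnit_app_eq_zero_iff] at h
  have h' := congrArg (F.obj.map (homOfLE (le_inf le_top le_rfl : U ≤ (⊤ : Opens X) ⊓ U)).op) h
  rw [map_zero] at h'
  refine Eq.trans ?_ h'
  exact (ConcreteCategory.congr_hom (congrArg F.obj.map (Subsingleton.elim _ _)) _).trans
    (ConcreteCategory.congr_hom (F.obj.map_comp _ _) _)

lemma comp_suppUnit_eq_zero {F : CohTop.Ab X} (x : LocCohZ.zq (le_top : U ≤ ⊤) ⟶ F) :
    ((cokernel.π _ : zsh (⊤ : Opens X) ⟶ LocCohZ.zq (le_top : U ≤ ⊤)) ≫ x) ≫ suppUnit U F = 0 := by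
  apply zEquiv.injective
  rw [zEquiv_comp, map_zero, suppUnit_app_eq_zero_iff]
  have h : F.obj.map (homOfLE (le_top : U ≤ ⊤)).op (zEquiv
      ((cokernel.π _ : zsh (⊤ : Opens X) ⟶ LocCohZ.zq (le_top : U ≤ ⊤)) ≫ x)) = 0 :=
    (zEquiv_zmap (homOfLE (le_top : U ≤ ⊤)) _).symm.trans
      ((congrArg zEquiv (by rw [← Category.assoc]; exact (congrArg (· ≫ x) (cokernel.condition _)).trans zero_comp)).trans
        (map_zero zEquiv))
  have h' := congrArg (F.obj.map (homOfLE (inf_le_right : (⊤ : Opens X) ⊓ U ≤ U)).op) h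
  rw [map_zero] at h'
  refine Eq.trans ?_ h'
  exact (ConcreteCategory.congr_hom (congrArg F.obj.map (Subsingleton.elim _ _)) _).trans
    (ConcreteCategory.congr_hom (F.obj.map_comp _ _) _)

/-- Global sections with supports as maps out of `ℤ/ℤ_U`. -/
noncomputable def suppHomEquiv (F : CohTop.Ab X) :
    (zsh (⊤ : Opens X) ⟶ (LocCohZ.sectSuppF U).obj F) ≃+ (LocCohZ.zq (le_top : U ≤ ⊤) ⟶ F) where
  toFun t := cokernel.desc _ (t ≫ kernel.ι (suppUnit U F)) (freeSheafMap_comp_eq_zero U t)
  invFun x := kernel.lift _ _ (comp_suppUnit_eq_zero U x)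
  left_inv t := by
    apply equalizer.hom_ext
    exact (kernel.lift_ι _ _ _).trans (cokernel.π_desc _ _ _)
  right_inv x := by
    apply coequalizer.hom_ext
    exact (cokernel.π_desc _ _ _).trans (kernel.lift_ι _ _ _)
  map_add' t t' := by
    apply coequalizer.hom_ext
    refine (cokernel.π_desc _ _ _).trans ?_
    refine Eq.trans ?_ (Preadditive.comp_add _ _ _ _ _ _).symm
    exact (Preadditive.add_comp _ _ _ _ _ _).trans
      (congrArg₂ (· + ·) (cokernel.π_desc _ _ _).symm (cokernel.π_desc _ _ _).symm)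

lemma suppHomEquiv_comp {F G : CohTop.Ab X} (φ : F ⟶ G)
    (t : zsh (⊤ : Opens X) ⟶ (LocCohZ.sectSuppF U).obj F) :
    suppHomEquiv U G (t ≫ (LocCohZ.sectSuppF U).map φ) = suppHomEquiv U F t ≫ φ := by
  apply coequalizer.hom_ext
  refine (cokernel.π_desc _ _ _).trans ?_
  refine Eq.trans ?_ ((congrArg (· ≫ φ) (cokernel.π_desc _ _ (freeSheafMap_comp_eq_zero U t))).symm.trans
    (Category.assoc _ _ _))
  exact (Category.assoc _ _ _).trans ((congrArg (t ≫ ·) (kernel.lift_ι _ _ _)).trans (Category.assoc _ _ _).symm)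

/-- The spectral sequence from local to global cohomology with supports. -/
theorem exists_supp_spectralSequence (F : CohTop.Ab X) :
    ∃ (E : E₂CohomologicalSpectralSequence AddCommGrpCat.{u}) (a : SpSeq.Abutment E (fun n : ℤ =>
        if 0 ≤ n then AddCommGrpCat.of (LocCohZ.HZc F n.toNat U) else AddCommGrpCat.of PUnit.{u + 1})),
      (∀ n : ℤ, a.IsFinite n) ∧ SpSeq.IsBounded E ∧ ∀ p q : ℤ, Nonempty ((E.page 2 le_rfl).X (p, q) ≅
        (if 0 ≤ p ∧ 0 ≤ q then AddCommGrpCat.of (CohTop.HU ((LocCohZ.HZsh U q.toNat).obj F) p.toNat ⊤)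
         else AddCommGrpCat.of PUnit.{u + 1})) := by
  letI := HasDerivedCategory.standard (CohTop.Ab X)
  let Z := zsh (⊤ : Opens X)
  let T := LocCohZ.sectSuppF U
  let R : InjectiveResolution F := injectiveResolution F
  obtain ⟨E, a, h₁, h₂, h₃, h₄⟩ := SpSeqLib.exists_grothendieck_spectralSequence
    (preadditiveCoyoneda.obj (op Z)) T
    (fun Q hQ q hq => by
      haveI := hQ
      obtain ⟨q, rfl⟩ := Nat.exists_eq_succ_of_ne_zero hq.ne'
      haveI := isFlasque_sectSupp U Q
      haveI : Subsingleton (Ext Z (T.obj Q) (q + 1)) :=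
        QCohLib.subsingleton_of_isFlasque q (CohCx.sectSupp U Q) ⊤
      obtain ⟨i⟩ := nonempty_rightDerived_coyoneda_iso_ext Z (T.obj Q) (q + 1)
      exact (AddCommGrpCat.isZero_of_subsingleton _).of_iso i)
    F (fun n : ℤ => if 0 ≤ n then AddCommGrpCat.of (LocCohZ.HZc F n.toNat U)
      else AddCommGrpCat.of PUnit.{u + 1})
    (fun n => by
      obtain ⟨i⟩ := nonempty_homology_iso_ext_of_injective R
        (((T ⋙ preadditiveCoyoneda.obj (op Z)).mapHomologicalComplex _).obj R.cocomplex)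
        (fun m => show (Z ⟶ T.obj (R.cocomplex.X m)) ≃+ _ from suppHomEquiv U (R.cocomplex.X m))
        (fun m x => suppHomEquiv_comp U (R.cocomplex.d m (m + 1)) x) n
      exact ⟨eqToIso (if_pos (Int.natCast_nonneg n)) ≪≫ i.symm ≪≫
        (R.isoRightDerivedObj (T ⋙ preadditiveCoyoneda.obj (op Z)) n).symm⟩)
    (fun n hn => (AddCommGrpCat.isZero_of_subsingleton (AddCommGrpCat.of PUnit.{u + 1})).of_iso
      (eqToIso (if_neg (by lia))))
  refine ⟨E, a, h₁, h₂, fun p q => ?_⟩
  by_cases hpq : 0 ≤ p ∧ 0 ≤ q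
  · rw [if_pos hpq]
    obtain ⟨p, rfl⟩ := Int.eq_ofNat_of_zero_le hpq.1
    obtain ⟨q, rfl⟩ := Int.eq_ofNat_of_zero_le hpq.2
    obtain ⟨i⟩ := nonempty_rightDerived_coyoneda_iso_ext Z ((T.rightDerived q).obj F) p
    exact ⟨(h₃ p q).some ≪≫ i⟩
  · rw [if_neg hpq]
    exact ⟨(h₄ p q (by lia)).iso (AddCommGrpCat.isZero_of_subsingleton _)⟩

end CohLib
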