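import Groth.Agent.CohLib.Cech

/-!
# Cohomology of objects of the site; products of totally acyclic sheaves
-/

universe w v u

open CategoryTheory CategoryTheory.Limits Opposite CategoryTheory.Abelian

namespace CohLib

lemma subsingleton_ext_of_iso {A : Type u} [Category.{v} A] [Abelian A] [HasExt.{w} A]
    {X Y F : A} (e : X ≅ Y) {n : ℕ} [Subsingleton (Ext.{w} X F n)] :
    Subsingleton (Ext.{w} Y F n) := by
  refine subsingleton_of_forall_eq 0 fun y => ?_
  rw [← Ext.mk₀_id_comp y, ← e.inv_hom_id, ← Ext.mk₀_comp_mk₀_assoc,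
    Subsingleton.elim ((Ext.mk₀ e.hom).comp y (zero_add n)) 0, Ext.comp_zero]

variable {C : Type u} [SmallCategory C] {J : GrothendieckTopology C}

/-- Free sheaf on a presheaf of sets is the free sheaf on its sheafification. -/
noncomputable def ZSheafifyIso (J : GrothendieckTopology C) (L : Cᵒᵖ ⥤ Type u) :
    (Z J).obj ((presheafToSheaf J (Type u)).obj L) ≅
      (presheafToSheaf J AddCommGrpCat.{u}).obj (L ⋙ AddCommGrpCat.free.{u}) :=
  (presheafToSheafCompComposeAndSheafifyIso J AddCommGrpCat.free.{u}).app L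

lemma subsingleton_HU (F : Sheaf J AddCommGrpCat.{u}) (hF : CohCx.IsTotallyAcyclic F) (U : C)
    (p : ℕ) : Subsingleton (CohSite.HU F (p + 1) U) :=
  haveI : Subsingleton (Ext ((Z J).obj ((presheafToSheaf J (Type u)).obj (yoneda.obj U))) F (p + 1)) :=
    hF _ p
  subsingleton_ext_of_iso (ZSheafifyIso J (yoneda.obj U)) (F := F) (n := p + 1)

lemma allCechExact_piObj {T : Type u} (F : T → Sheaf J AddCommGrpCat.{u})
    (hF : ∀ t, AllCechExact (F t)) : AllCechExact (∏ᶜ F) := by
  intro K' K f hf q x hx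
  choose y hy using fun t => hF t K' K f hf q (x ≫ Pi.π F t) (by
    rw [← Category.assoc, hx, zero_comp])
  refine ⟨Pi.lift y, limit.hom_ext fun ⟨t⟩ => ?_⟩
  simpa using hy t

end CohLib
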