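import Groth.Agent.CohLib.Collapse

/-!
# `quotOn` is exact on monomorphisms, and `sectOn` is its right adjoint
-/

universe u

set_option linter.style.haveILetI false

open CategoryTheory CategoryTheory.Limits Opposite MonoidalCategory
open ModSiteLib (PMod aP jP adjP)

namespace CohLib

variable {C : Type u} [SmallCategory C] {J : GrothendieckTopology C} {O : Sheaf J CommRingCat.{u}} (U : C)

/-- Vanishing on `U`, sectionwise. -/
lemma restr_map_eq_zero_iff {M N : ModSite.Mod O} (φ : M ⟶ N) :
    (ModSite.restr O U).map φ = 0 ↔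
      ∀ X : Cᵒᵖ, Nonempty ((yoneda.obj U).obj X) → ∀ m : M.val.obj X, φ.val.app X m = 0 := by
  constructor
  · rintro h X ⟨g⟩ m
    exact congrArg (fun ψ : (ModSite.restr O U).obj M ⟶ (ModSite.restr O U).obj N =>
      (ψ.val.app (op (Over.mk (show unop X ⟶ U from g)))).hom m) h
  · intro h
    apply (SheafOfModules.toSheaf _).map_injective
    ext Y m
    exact h (op (unop Y).left) ⟨(unop Y).hom⟩ m

lemma counit_comp_eq_zero_iff {M N : ModSite.Mod O} (φ : M ⟶ N) :
    (ModSite.extZeroAdj O U).counit.app M ≫ φ = 0 ↔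
      clp (yoneda.obj U) ((jP O).obj M) ≫ (jP O).map φ = 0 := by
  rw [clp_comp_eq_zero_iff]
  refine Iff.trans ?_ (restr_map_eq_zero_iff U φ)
  exact (ExtSupp.mem_homZ_iff U φ).symm

/-- The presheaf quotient by the sections over `U`. -/
noncomputable abbrev q0 (G : PMod O) : PMod O := cokernel (clp (yoneda.obj U) G)

/-- Functoriality of `q0`. -/
noncomputable abbrev q0Map {G G' : PMod O} (φ : G ⟶ G') : q0 U G ⟶ q0 U G' :=
  cokernel.map _ _ (_ ◁ φ) φ (clp_naturality _ φ).symm

lemma mono_q0Map {G G' : PMod O} (φ : G ⟶ G') [Mono φ] : Mono (q0Map U φ) := by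
  apply (PresheafOfModules.toPresheaf _).mono_of_mono_map
  apply (config := { allowSynthFailures := true }) NatTrans.mono_of_mono_app
  intro X
  rw [AddCommGrpCat.mono_iff_injective]
  let ev := PresheafOfModules.evaluation (O.obj ⋙ forget₂ CommRingCat.{u} RingCat.{u}) X
  have hsurj : ∀ H : PMod O, Function.Surjective (ev.map (cokernel.π (clp (yoneda.obj U) H))) :=
    fun H => (ModuleCat.epi_iff_surjective _).1 inferInstance
  rw [injective_iff_map_eq_zero]
  intro z hz
  obtain ⟨m, rfl⟩ := hsurj G z
  by_cases hX : Nonempty ((yoneda.obj U).obj X)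
  · obtain ⟨x⟩ := hX
    have h := congrArg (fun t => (PresheafOfModules.Hom.app t X) (ModuleCat.freeMk x ⊗ₜ[O.obj.obj X] m))
      (cokernel.condition (clp (yoneda.obj U) G))
    exact (congrArg ((cokernel.π (clp (yoneda.obj U) G)).app X)
      (clp_app_tmul (yoneda.obj U) G X x m).symm).trans h
  · haveI : IsEmpty ((yoneda.obj U).obj X) := not_nonempty_iff.1 hX
    have hz' : (cokernel.π (clp (yoneda.obj U) G')).app X (φ.app X m) = 0 := by
      refine Eq.trans ?_ hz
      have h : cokernel.π (clp (yoneda.obj U) G) ≫ q0Map U φ =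
          φ ≫ cokernel.π (clp (yoneda.obj U) G') := cokernel.π_desc _ _ _
      exact (congrArg (fun t : G ⟶ q0 U G' => (PresheafOfModules.Hom.app t X) m) h).symm
    have hT : IsZero (ev.obj ((PresheafOfModules.free _).obj (yoneda.obj U) ⊗ G')) :=
      @ModuleCat.isZero_of_subsingleton _ _ _ (subsingleton_of_forall_eq 0 fun t => by
        refine TensorProduct.induction_on t rfl (fun a b => ?_) (fun a b ha hb => (congrArg₂ (· + ·) ha hb).trans (add_zero _))
        have ha : a = 0 := Finsupp.ext fun x => isEmptyElim x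
        rw [ha, TensorProduct.zero_tmul]
        rfl)
    let S := (ShortComplex.mk _ _ (cokernel.condition (clp (yoneda.obj U) G'))).map ev
    have hS : S.Exact := (ShortComplex.exact_of_g_is_cokernel _
      (cokernelIsCokernel (clp (yoneda.obj U) G'))).map ev
    haveI : Mono S.g := hS.mono_g (hT.eq_of_src _ _)
    have hφm : φ.app X m = 0 := (injective_iff_map_eq_zero _).1 ((ModuleCat.mono_iff_injective S.g).1
      inferInstance) _ hz'
    haveI : Mono (φ.app X) := inferInstanceAs (Mono (ev.map φ))
    have hm : m = 0 := (ModuleCat.mono_iff_injective (φ.app X)).1 inferInstance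
      (hφm.trans (map_zero _).symm)
    rw [hm]
    exact map_zero _

/-- The comparison `G ⟶ a(q0 G)`. -/
noncomputable def etaQ (G : ModSite.Mod O) : G ⟶ (aP O).obj (q0 U ((jP O).obj G)) :=
  ⟨cokernel.π (clp (yoneda.obj U) ((jP O).obj G)) ≫ (adjP O).unit.app _⟩

lemma counit_comp_etaQ (G : ModSite.Mod O) :
    (ModSite.extZeroAdj O U).counit.app G ≫ etaQ U G = 0 := by
  rw [counit_comp_eq_zero_iff]
  change clp _ _ ≫ cokernel.π _ ≫ _ = 0
  rw [cokernel.condition_assoc, zero_comp]

lemma etaQ_naturality {G G' : ModSite.Mod O} (φ : G ⟶ G') :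
    φ ≫ etaQ U G' = etaQ U G ≫ (aP O).map (q0Map U ((jP O).map φ)) := by
  apply SheafOfModules.Hom.ext
  change (jP O).map φ ≫ cokernel.π _ ≫ _ = (cokernel.π _ ≫ _) ≫ (jP O).map ((aP O).map _)
  rw [Category.assoc]
  refine Eq.trans ?_ (congrArg (cokernel.π _ ≫ ·) ((adjP O).unit.naturality (q0Map U ((jP O).map φ))))
  exact ((Category.assoc _ _ _).symm.trans
    ((congrArg (· ≫ _) (cokernel.π_desc _ _ _).symm).trans (Category.assoc _ _ _)))

/-- The comparison `G/G_U ⟶ a(q0 G)`. -/
noncomputable def toQ (G : ModSite.Mod O) :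
    (ModSite.quotOn O U).obj G ⟶ (aP O).obj (q0 U ((jP O).obj G)) :=
  cokernel.desc _ (etaQ U G) (counit_comp_etaQ U G)

/-- The inverse comparison. -/
noncomputable def fromQ (G : ModSite.Mod O) :
    (aP O).obj (q0 U ((jP O).obj G)) ⟶ (ModSite.quotOn O U).obj G :=
  ((adjP O).homEquiv _ _).symm (cokernel.desc _ ((jP O).map ((ModSite.quotOnπ O U).app G))
    ((counit_comp_eq_zero_iff U _).1 (cokernel.condition _)))

lemma etaQ_fromQ (G : ModSite.Mod O) : etaQ U G ≫ fromQ U G = (ModSite.quotOnπ O U).app G := by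
  apply SheafOfModules.Hom.ext
  change (cokernel.π _ ≫ _) ≫ (jP O).map (fromQ U G) = (jP O).map ((ModSite.quotOnπ O U).app G)
  refine (Category.assoc _ _ _).trans ((congrArg (cokernel.π _ ≫ ·)
    (((adjP O).homEquiv_unit _ _ _).symm.trans (((adjP O).homEquiv _ _).apply_symm_apply _))).trans ?_)
  exact cokernel.π_desc _ _ _

lemma toQ_fromQ (G : ModSite.Mod O) : toQ U G ≫ fromQ U G = 𝟙 _ := by
  apply coequalizer.hom_ext
  exact ((Category.assoc _ _ _).symm.trans ((congrArg (· ≫ _) (cokernel.π_desc _ _ _)).trans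
    (etaQ_fromQ U G))).trans (Category.comp_id _).symm

lemma toQ_naturality {G G' : ModSite.Mod O} (φ : G ⟶ G') :
    (ModSite.quotOn O U).map φ ≫ toQ U G' = toQ U G ≫ (aP O).map (q0Map U ((jP O).map φ)) := by
  apply coequalizer.hom_ext
  refine ((Category.assoc _ _ _).symm.trans ((congrArg (· ≫ _) (cokernel.π_desc _ _ _)).trans
    ((Category.assoc _ _ _).trans (congrArg (φ ≫ ·) (cokernel.π_desc _ _ _))))).trans ?_
  exact (etaQ_naturality U φ).trans
    ((congrArg (· ≫ _) (cokernel.π_desc _ _ _).symm).trans (Category.assoc _ _ _))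

instance preservesMonomorphisms_quotOn : (ModSite.quotOn O U).PreservesMonomorphisms where
  preserves {G G'} φ _ := by
    haveI : PreservesFiniteLimits (aP O) :=
      inferInstanceAs (PreservesFiniteLimits (ModSite.sheafify O))
    haveI : PreservesLimitsOfSize.{0, 0} (jP O) := (adjP O).rightAdjoint_preservesLimits
    haveI : Mono ((jP O).map φ) := inferInstance
    haveI := mono_q0Map U ((jP O).map φ)
    haveI : Mono ((aP O).map (q0Map U ((jP O).map φ))) := inferInstance
    haveI : IsSplitMono (toQ U G) := ⟨⟨⟨fromQ U G, toQ_fromQ U G⟩⟩⟩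
    haveI : Mono ((ModSite.quotOn O U).map φ ≫ toQ U G') := by
      rw [toQ_naturality]
      infer_instance
    exact mono_of_mono ((ModSite.quotOn O U).map φ) (toQ U G')

variable [ModSite.HasPushOver O U]

lemma counit_comp_zero_iff_unit {G N : ModSite.Mod O} (φ : G ⟶ N) :
    (ModSite.extZeroAdj O U).counit.app G ≫ φ = 0 ↔
      φ ≫ (ModSite.restrPushOverAdj O U).unit.app N = 0 := by
  rw [← ExtSupp.mem_homZ_iff]
  have key : φ ≫ (ModSite.restrPushOverAdj O U).unit.app N =
      (ModSite.restrPushOverAdj O U).homEquiv _ _ ((ModSite.restr O U).map φ) := by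
    rw [Adjunction.homEquiv_unit]
    exact (ModSite.restrPushOverAdj O U).unit.naturality φ
  have key0 : (0 : G ⟶ _) = (ModSite.restrPushOverAdj O U).homEquiv G ((ModSite.restr O U).obj N) 0 := by
    rw [Adjunction.homEquiv_unit]
    haveI := (ModSite.restrPushOverAdj O U).right_adjoint_additive
    rw [Functor.map_zero, comp_zero]
  rw [key, key0, Equiv.apply_eq_iff_eq]
  rfl

/-- `G ↦ G/G_U` is left adjoint to sections with supports. -/
noncomputable def quotSectAdj : ModSite.quotOn O U ⊣ ModSite.sectOn O U :=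
  Adjunction.mkOfHomEquiv
    { homEquiv := fun G N =>
        { toFun := fun ψ => kernel.lift _ ((ModSite.quotOnπ O U).app G ≫ ψ)
            ((counit_comp_zero_iff_unit U _).1 ((Category.assoc _ _ _).symm.trans
              ((congrArg (· ≫ ψ) (cokernel.condition _)).trans zero_comp)))
          invFun := fun t => cokernel.desc _ (t ≫ (ModSite.sectOnι O U).app N)
            ((counit_comp_zero_iff_unit U _).2 ((Category.assoc _ _ _).trans
              ((congrArg (t ≫ ·) (kernel.condition _)).trans comp_zero)))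
          left_inv := fun ψ => by
            apply coequalizer.hom_ext
            exact (cokernel.π_desc _ _ _).trans (kernel.lift_ι _ _ _)
          right_inv := fun t => by
            apply equalizer.hom_ext
            exact (kernel.lift_ι _ _ _).trans (cokernel.π_desc _ _ _) }
      homEquiv_naturality_left_symm := fun {G' G N} f t => by
        apply coequalizer.hom_ext
        refine (cokernel.π_desc _ _ _).trans ?_
        refine Eq.trans ?_ (Category.assoc _ _ _)
        refine Eq.trans ?_ (congrArg (· ≫ _) (cokernel.π_desc _ _ _).symm)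
        refine Eq.trans ?_ (Category.assoc _ _ _).symm
        exact (Category.assoc _ _ _).trans (congrArg (f ≫ ·) (cokernel.π_desc _ _ _).symm)
      homEquiv_naturality_right := fun {G N N'} ψ g => by
        apply equalizer.hom_ext
        refine (kernel.lift_ι _ _ _).trans ?_
        refine Eq.trans ?_ (Category.assoc _ _ _).symm
        refine Eq.trans ?_ (congrArg (_ ≫ ·) (kernel.lift_ι _ _ _).symm)
        refine Eq.trans ?_ (Category.assoc _ _ _)
        exact ((Category.assoc _ _ _).symm).trans (congrArg (· ≫ g) (kernel.lift_ι _ _ _).symm) }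

/-- Sections with supports preserve injectives. -/
theorem injective_sectOn (Q : ModSite.Mod O) [Injective Q] : Injective ((ModSite.sectOn O U).obj Q) :=
  Injective.injective_of_adjoint (quotSectAdj U) Q

end CohLib
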