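import Mathlib.Algebra.Homology.DerivedCategory.Ext.ExactSequences
import Mathlib.Algebra.Homology.DerivedCategory.Ext.EnoughInjectives
import Mathlib.Algebra.Homology.ShortComplex.Exact
import Mathlib.CategoryTheory.Preadditive.Injective.Basic

/-!
# Dimension shifting for Ext by embedding into an injective
-/

universe w v u

open CategoryTheory CategoryTheory.Limits CategoryTheory.Abelian

namespace CohLib

variable {A : Type u} [Category.{v} A] [Abelian A]

/-- The short complex `F ⟶ I ⟶ I/F`. -/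
noncomputable abbrev injSC [EnoughInjectives A] (F : A) : ShortComplex A :=
  ShortComplex.mk (Injective.ι F) (cokernel.π (Injective.ι F)) (cokernel.condition _)

lemma injSC_shortExact [EnoughInjectives A] (F : A) : (injSC F).ShortExact :=
  { exact := ShortComplex.exact_cokernel _ }

variable [HasExt.{w} A] {S : ShortComplex A} (hS : S.ShortExact) {X : A}

include hS in
/-- If every map to the quotient lifts and the first Ext into the middle vanishes,
the first Ext into the sub object vanishes. -/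
lemma subsingleton_ext_one_of_lift [Subsingleton (Ext.{w} X S.X₂ 1)]
    (h : ∀ s : X ⟶ S.X₃, ∃ t : X ⟶ S.X₂, t ≫ S.g = s) : Subsingleton (Ext.{w} X S.X₁ 1) := by
  refine subsingleton_of_forall_eq 0 fun x => ?_
  obtain ⟨y, hy⟩ := Ext.covariant_sequence_exact₁ X hS x (Subsingleton.elim _ _)
    (n₀ := 0) (by omega)
  obtain ⟨s, rfl⟩ := Ext.addEquiv₀.symm.surjective y
  obtain ⟨t, rfl⟩ := h s
  rw [← hy, Ext.addEquiv₀_symm_apply, ← Ext.mk₀_comp_mk₀ t S.g]
  rw [Ext.comp_assoc_of_second_deg_zero, ShortComplex.ShortExact.comp_extClass, Ext.comp_zero]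

include hS in
lemma exists_lift_of_subsingleton_ext_one [Subsingleton (Ext.{w} X S.X₁ 1)]
    (s : X ⟶ S.X₃) : ∃ t : X ⟶ S.X₂, t ≫ S.g = s := by
  obtain ⟨x₂, hx₂⟩ := Ext.covariant_sequence_exact₃ X hS (Ext.mk₀ s) (n₁ := 1) (by omega)
    (Subsingleton.elim _ _)
  obtain ⟨t, rfl⟩ := Ext.addEquiv₀.symm.surjective x₂
  refine ⟨t, Ext.addEquiv₀.symm.injective ?_⟩
  simpa using hx₂

include hS in
lemma subsingleton_ext_of_shift {n : ℕ} [Subsingleton (Ext.{w} X S.X₂ (n + 1))]
    [Subsingleton (Ext.{w} X S.X₃ n)] : Subsingleton (Ext.{w} X S.X₁ (n + 1)) := by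
  refine subsingleton_of_forall_eq 0 fun x => ?_
  obtain ⟨y, hy⟩ := Ext.covariant_sequence_exact₁ X hS x (Subsingleton.elim _ _) (n₀ := n) rfl
  rw [← hy, Subsingleton.elim y 0, Ext.zero_comp]

include hS in
lemma subsingleton_ext_of_shift' {n : ℕ} [Subsingleton (Ext.{w} X S.X₂ n)]
    [Subsingleton (Ext.{w} X S.X₁ (n + 1))] : Subsingleton (Ext.{w} X S.X₃ n) := by
  refine subsingleton_of_forall_eq 0 fun x => ?_
  obtain ⟨y, hy⟩ := Ext.covariant_sequence_exact₃ X hS x (n₁ := n + 1) rfl (Subsingleton.elim _ _)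
  rw [← hy, Subsingleton.elim y 0, Ext.zero_comp]

include hS in
lemma subsingleton_ext_middle {n : ℕ} [Subsingleton (Ext.{w} X S.X₁ n)]
    [Subsingleton (Ext.{w} X S.X₃ n)] : Subsingleton (Ext.{w} X S.X₂ n) := by
  refine subsingleton_of_forall_eq 0 fun x => ?_
  obtain ⟨y, hy⟩ := Ext.covariant_sequence_exact₂ X hS x (Subsingleton.elim _ _)
  rw [← hy, Subsingleton.elim y 0, Ext.zero_comp]

lemma subsingleton_ext_injective (X I : A) [Injective I] (n : ℕ) :
    Subsingleton (Ext.{w} X I (n + 1)) :=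
  subsingleton_of_forall_eq 0 Ext.eq_zero_of_injective

end CohLib
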