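import Mathlib.CategoryTheory.Sites.Adjunction
import Mathlib.CategoryTheory.Sites.EpiMono
import Mathlib.CategoryTheory.Sites.LeftExact
import Mathlib.CategoryTheory.Sites.Abelian
import Mathlib.CategoryTheory.Subfunctor.Image
import Mathlib.AlgebraicTopology.CechNerve
import Mathlib.AlgebraicTopology.ExtraDegeneracy
import Mathlib.AlgebraicTopology.AlternatingFaceMapComplex
import Mathlib.Algebra.Homology.Functor
import Mathlib.Algebra.Homology.QuasiIso
import Mathlib.Algebra.Category.Grp.Adjunctions
import Mathlib.Algebra.Category.Grp.Abelian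
import Mathlib.Algebra.Category.Grp.FilteredColimits

/-!
# The free abelian sheaves on the Čech nerve of an epimorphism form a resolution
-/

universe u v v' u'

set_option linter.style.haveILetI false

open CategoryTheory CategoryTheory.Limits Opposite Simplicial

namespace CohLib

section Epsilon

open AlgebraicTopology

variable {A : Type u'} [Category.{v'} A] [Preadditive A] [HasZeroObject A]
variable {B : Type v} [Category.{u} B] [Preadditive B] [HasZeroObject B]

/-- An additive functor commutes with the augmentation of the alternating face map complex. -/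
noncomputable def mapεArrowIso (G : A ⥤ B) [G.Additive] (X : SimplicialObject.Augmented A) :
    Arrow.mk ((G.mapHomologicalComplex (ComplexShape.down ℕ)).map
      (AlternatingFaceMapComplex.ε.app X)) ≅
    Arrow.mk (AlternatingFaceMapComplex.ε.app
      (((SimplicialObject.Augmented.whiskering A B).obj G).obj X)) :=
  Arrow.isoMk
    (HomologicalComplex.Hom.isoOfComponents (fun n => Iso.refl _) (by
      intro i j hij
      obtain rfl : j + 1 = i := hij
      simp [Functor.map_sum]
      exact (Category.id_comp _).trans (Category.comp_id _).symm))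
    ((HomologicalComplex.singleMapHomologicalComplex G _ 0).app X.right)
    (by
      apply HomologicalComplex.to_single_hom_ext
      simp
      erw [Category.id_comp, Category.comp_id]
      simp [SimplicialObject.Augmented.whiskering, SimplicialObject.whiskering]
      )

lemma quasiIso_of_arrowIso [CategoryWithHomology B] {K L K' L' : ChainComplex B ℕ} {f : K ⟶ L} {g : K' ⟶ L'}
    (e : Arrow.mk f ≅ Arrow.mk g) [QuasiIso f] : QuasiIso g :=
  (quasiIso_iff_of_arrow_mk_iso f g e).mp inferInstance

end Epsilon

variable {C : Type u} [SmallCategory C] {J : GrothendieckTopology C} {K' K : Sheaf J (Type u)}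
  (f : K' ⟶ K)

/-- Sections over `U` as a functor on sheaves of sets. -/
noncomputable abbrev secFunctor (U : Cᵒᵖ) : Sheaf J (Type u) ⥤ Type u :=
  sheafToPresheaf J (Type u) ⋙ (evaluation Cᵒᵖ (Type u)).obj U

/-- The projections of the Čech nerve, on sections. -/
noncomputable def nerveπ (U : Cᵒᵖ) (n : SimplexCategoryᵒᵖ) (i : Fin (n.unop.len + 1))
    (x : (secFunctor U).obj ((Arrow.mk f).cechNerve.obj n)) : K'.obj.obj U :=
  (secFunctor U).map (WidePullback.π (fun _ : Fin (n.unop.len + 1) => (Arrow.mk f).hom) i) x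

/-- The base projection of the Čech nerve, on sections. -/
noncomputable def nerveBase (U : Cᵒᵖ) (n : SimplexCategoryᵒᵖ)
    (x : (secFunctor U).obj ((Arrow.mk f).cechNerve.obj n)) : K.obj.obj U :=
  (secFunctor U).map (WidePullback.base (fun _ : Fin (n.unop.len + 1) => (Arrow.mk f).hom)) x

lemma map_nerveπ (U : Cᵒᵖ) (n : SimplexCategoryᵒᵖ) (i : Fin (n.unop.len + 1))
    (x : (secFunctor U).obj ((Arrow.mk f).cechNerve.obj n)) :
    f.hom.app U (nerveπ f U n i x) = nerveBase f U n x := by
  have h := congrArg (fun t => (secFunctor U).map t x)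
    (WidePullback.π_arrow (fun _ : Fin (n.unop.len + 1) => (Arrow.mk f).hom) i)
  rw [Functor.map_comp] at h
  exact h

lemma nerveπ_map (U : Cᵒᵖ) {n m : SimplexCategoryᵒᵖ} (θ : n ⟶ m) (i : Fin (m.unop.len + 1))
    (x : (secFunctor U).obj ((Arrow.mk f).cechNerve.obj n)) :
    nerveπ f U m i ((secFunctor U).map ((Arrow.mk f).cechNerve.map θ) x) =
      nerveπ f U n (θ.unop.toOrderHom i) x := by
  have h := congrArg (fun t => (secFunctor U).map t x)
    (show (Arrow.mk f).cechNerve.map θ ≫
      WidePullback.π (fun _ : Fin (m.unop.len + 1) => (Arrow.mk f).hom) i =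
      WidePullback.π (fun _ : Fin (n.unop.len + 1) => (Arrow.mk f).hom) (θ.unop.toOrderHom i) from
      WidePullback.lift_π _ _ _ _ i)
  rw [Functor.map_comp] at h
  exact h

lemma nerve_ext (U : Cᵒᵖ) (n : SimplexCategoryᵒᵖ)
    {x y : (secFunctor U).obj ((Arrow.mk f).cechNerve.obj n)}
    (h : ∀ i, nerveπ f U n i x = nerveπ f U n i y) : x = y := by
  apply (Types.isLimitEquivSections (isLimitOfPreserves (secFunctor U)
    (limit.isLimit (WidePullbackShape.wideCospan K (fun _ : Fin (n.unop.len + 1) => K')
      (fun _ => f))))).injective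
  apply Subtype.ext
  funext j
  rcases j with _ | i
  · change nerveBase f U n x = nerveBase f U n y
    rw [← map_nerveπ f U n 0 x, ← map_nerveπ f U n 0 y, h 0]
  · exact h i

lemma exists_nerve (U : Cᵒᵖ) (n : SimplexCategoryᵒᵖ) (y : K.obj.obj U)
    (t : Fin (n.unop.len + 1) → K'.obj.obj U) (ht : ∀ i, f.hom.app U (t i) = y) :
    ∃ x : (secFunctor U).obj ((Arrow.mk f).cechNerve.obj n),
      (∀ i, nerveπ f U n i x = t i) ∧ nerveBase f U n x = y := by
  let D := WidePullbackShape.wideCospan K (fun _ : Fin (n.unop.len + 1) => K') (fun _ => f)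
  let hl := isLimitOfPreserves (secFunctor U) (limit.isLimit D)
  let s : (D ⋙ secFunctor U).sections :=
    ⟨fun j => match j with
      | none => y
      | some i => t i, by
      intro a b φ
      rcases φ with _ | i
      · simp
      · exact ht i⟩
  refine ⟨(Types.isLimitEquivSections hl).symm s, fun i => ?_, ?_⟩
  · exact Types.isLimitEquivSections_symm_apply hl s (some i)
  · exact Types.isLimitEquivSections_symm_apply hl s none

/-- Build a section of the nerve. -/
noncomputable def nerveMk (U : Cᵒᵖ) (n : SimplexCategoryᵒᵖ) (y : K.obj.obj U)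
    (t : Fin (n.unop.len + 1) → K'.obj.obj U) (ht : ∀ i, f.hom.app U (t i) = y) :
    (secFunctor U).obj ((Arrow.mk f).cechNerve.obj n) :=
  (exists_nerve f U n y t ht).choose

lemma nerveπ_nerveMk (U : Cᵒᵖ) (n : SimplexCategoryᵒᵖ) (y : K.obj.obj U)
    (t : Fin (n.unop.len + 1) → K'.obj.obj U) (ht : ∀ i, f.hom.app U (t i) = y) (i) :
    nerveπ f U n i (nerveMk f U n y t ht) = t i :=
  (exists_nerve f U n y t ht).choose_spec.1 i

lemma nerveBase_nerveMk (U : Cᵒᵖ) (n : SimplexCategoryᵒᵖ) (y : K.obj.obj U)
    (t : Fin (n.unop.len + 1) → K'.obj.obj U) (ht : ∀ i, f.hom.app U (t i) = y) :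
    nerveBase f U n (nerveMk f U n y t ht) = y :=
  (exists_nerve f U n y t ht).choose_spec.2

/-- The image presheaf. -/
noncomputable abbrev imgPresheaf : Cᵒᵖ ⥤ Type u := (Subfunctor.range f.hom).toFunctor

/-- The augmented Čech nerve of presheaves over the image. -/
noncomputable def presheafNerve : SimplicialObject.Augmented (Cᵒᵖ ⥤ Type u) where
  left := (Arrow.mk f).cechNerve ⋙ sheafToPresheaf J (Type u)
  right := imgPresheaf f
  hom :=
    { app := fun n => Subfunctor.lift
        ((sheafToPresheaf J (Type u)).map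
          (WidePullback.base (fun _ : Fin (n.unop.len + 1) => (Arrow.mk f).hom)))
        (fun U => by
          rintro _ ⟨x, rfl⟩
          exact ⟨nerveπ f U n 0 x, map_nerveπ f U n 0 x⟩)
      naturality := fun n m θ => by
        apply NatTrans.ext; funext U; ext x
        apply Subtype.ext
        change nerveBase f U m ((secFunctor U).map ((Arrow.mk f).cechNerve.map θ) x) =
          nerveBase f U n x
        rw [← map_nerveπ f U m 0, nerveπ_map, map_nerveπ] }

/-- A chosen preimage. -/
noncomputable def preim (U : Cᵒᵖ) (y : (imgPresheaf f).obj U) : K'.obj.obj U := y.2.choose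

lemma map_preim (U : Cᵒᵖ) (y : (imgPresheaf f).obj U) : f.hom.app U (preim f U y) = y.1 :=
  y.2.choose_spec

/-- The image point under a section of the nerve. -/
noncomputable def nerveImg (U : Cᵒᵖ) (n : SimplexCategoryᵒᵖ)
    (x : (secFunctor U).obj ((Arrow.mk f).cechNerve.obj n)) : (imgPresheaf f).obj U :=
  ⟨nerveBase f U n x, nerveπ f U n 0 x, map_nerveπ f U n 0 x⟩

/-- The degeneracy `s'` on sections. -/
noncomputable def degZero (U : Cᵒᵖ) (y : (imgPresheaf f).obj U) :
    (secFunctor U).obj ((Arrow.mk f).cechNerve.obj (op ⦋0⦌)) :=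
  nerveMk f U (op ⦋0⦌) y.1 (fun _ => preim f U y) (fun _ => map_preim f U y)

/-- The degeneracy `s` on sections. -/
noncomputable def degSucc (U : Cᵒᵖ) (n : ℕ)
    (x : (secFunctor U).obj ((Arrow.mk f).cechNerve.obj (op ⦋n⦌))) :
    (secFunctor U).obj ((Arrow.mk f).cechNerve.obj (op ⦋n + 1⦌)) :=
  nerveMk f U (op ⦋n + 1⦌) (nerveBase f U (op ⦋n⦌) x)
    (Fin.cons (preim f U (nerveImg f U (op ⦋n⦌) x)) (fun i => nerveπ f U (op ⦋n⦌) i x))
    (fun i => by
      refine Fin.cases ?_ (fun j => ?_) i
      · rw [Fin.cons_zero]; exact map_preim f U _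
      · rw [Fin.cons_succ]; exact map_nerveπ f U _ j x)

/-- The extra degeneracy on sections. -/
noncomputable def nerveExtraDegeneracy (U : Cᵒᵖ) :
    SimplicialObject.Augmented.ExtraDegeneracy
      (((SimplicialObject.Augmented.whiskering _ _).obj
        ((evaluation Cᵒᵖ (Type u)).obj U)).obj (presheafNerve f)) where
  s' := ↾fun y => degZero f U y
  s n := ↾fun x => degSucc f U n x
  s'_comp_ε := by
    ext y
    apply Subtype.ext
    exact nerveBase_nerveMk f U (op ⦋0⦌) (y : (imgPresheaf f).obj U).1 _
      (fun _ => map_preim f U (y : (imgPresheaf f).obj U))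
  s₀_comp_δ₁ := by
    ext x
    apply nerve_ext f U (op ⦋0⦌)
    intro i
    change nerveπ f U (op ⦋0⦌) i ((secFunctor U).map
      ((Arrow.mk f).cechNerve.map (SimplexCategory.δ 1).op) (degSucc f U 0 x)) =
      nerveπ f U (op ⦋0⦌) i (degZero f U (nerveImg f U (op ⦋0⦌) x))
    rw [nerveπ_map]
    unfold degSucc degZero
    rw [nerveπ_nerveMk, nerveπ_nerveMk]
    fin_cases i
    rfl
  s_comp_δ₀ n := by
    ext x
    apply nerve_ext f U (op ⦋n⦌)
    intro i
    change nerveπ f U (op ⦋n⦌) i ((secFunctor U).map
      ((Arrow.mk f).cechNerve.map (SimplexCategory.δ 0).op) (degSucc f U n x)) =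
      nerveπ f U (op ⦋n⦌) i x
    rw [nerveπ_map]
    unfold degSucc
    rw [nerveπ_nerveMk]
    rfl
  s_comp_δ n i := by
    ext x
    apply nerve_ext f U (op ⦋n + 1⦌)
    intro j
    change nerveπ f U (op ⦋n + 1⦌) j ((secFunctor U).map
      ((Arrow.mk f).cechNerve.map (SimplexCategory.δ i.succ).op) (degSucc f U (n + 1) x)) =
      nerveπ f U (op ⦋n + 1⦌) j (degSucc f U n ((secFunctor U).map
      ((Arrow.mk f).cechNerve.map (SimplexCategory.δ i).op) x))
    rw [nerveπ_map]
    unfold degSucc
    rw [nerveπ_nerveMk, nerveπ_nerveMk]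
    refine Fin.cases ?_ (fun k => ?_) j
    · change Fin.cons (α := fun _ => K'.obj.obj U) _ _ (i.succ.succAbove 0) =
        Fin.cons (α := fun _ => K'.obj.obj U) _ _ 0
      rw [Fin.succ_succAbove_zero, Fin.cons_zero, Fin.cons_zero]
      congr 1
      apply Subtype.ext
      exact ((map_nerveπ f U _ 0 _).symm.trans ((congrArg _ (nerveπ_map f U
        (SimplexCategory.δ i).op 0 x)).trans (map_nerveπ f U _ _ _))).symm
    · change Fin.cons (α := fun _ => K'.obj.obj U) _ _ (i.succ.succAbove k.succ) = _
      rw [Fin.succ_succAbove_succ, Fin.cons_succ, Fin.cons_succ]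
      exact (nerveπ_map f U (SimplexCategory.δ i).op k x).symm
  s_comp_σ n i := by
    ext x
    apply nerve_ext f U (op ⦋n + 2⦌)
    intro j
    change nerveπ f U (op ⦋n + 2⦌) j ((secFunctor U).map
      ((Arrow.mk f).cechNerve.map (SimplexCategory.σ i.succ).op) (degSucc f U n x)) =
      nerveπ f U (op ⦋n + 2⦌) j (degSucc f U (n + 1) ((secFunctor U).map
      ((Arrow.mk f).cechNerve.map (SimplexCategory.σ i).op) x))
    rw [nerveπ_map]
    unfold degSucc
    rw [nerveπ_nerveMk, nerveπ_nerveMk]
    refine Fin.cases ?_ (fun k => ?_) j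
    · change Fin.cons (α := fun _ => K'.obj.obj U) _ _ (i.succ.predAbove 0) =
        Fin.cons (α := fun _ => K'.obj.obj U) _ _ 0
      rw [show i.succ.predAbove 0 = 0 by simp [Fin.predAbove], Fin.cons_zero, Fin.cons_zero]
      congr 1
      apply Subtype.ext
      exact ((map_nerveπ f U _ 0 _).symm.trans ((congrArg _ (nerveπ_map f U
        (SimplexCategory.σ i).op 0 x)).trans (map_nerveπ f U _ _ _))).symm
    · change Fin.cons (α := fun _ => K'.obj.obj U) _ _ (i.succ.predAbove k.succ) = _
      rw [Fin.succ_predAbove_succ, Fin.cons_succ, Fin.cons_succ]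
      exact (nerveπ_map f U (SimplexCategory.σ i).op k x).symm

/-- The free abelian presheaves on the nerve over the image. -/
noncomputable abbrev freePresheafNerve : SimplicialObject.Augmented (Cᵒᵖ ⥤ AddCommGrpCat.{u}) :=
  ((SimplicialObject.Augmented.whiskering _ _).obj
    ((Functor.whiskeringRight Cᵒᵖ (Type u) AddCommGrpCat.{u}).obj AddCommGrpCat.free.{u})).obj
    (presheafNerve f)

lemma quasiIso_freePresheafNerve :
    QuasiIso (AlgebraicTopology.AlternatingFaceMapComplex.ε.app (freePresheafNerve f)) := by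
  rw [HomologicalComplex.quasiIso_iff_evaluation]
  intro U
  have ed := (nerveExtraDegeneracy f U).map AddCommGrpCat.free.{u}
  haveI : QuasiIso (AlgebraicTopology.AlternatingFaceMapComplex.ε.app
      (((SimplicialObject.Augmented.whiskering _ _).obj
        ((evaluation Cᵒᵖ AddCommGrpCat.{u}).obj U)).obj (freePresheafNerve f))) :=
    inferInstanceAs (QuasiIso ed.homotopyEquiv.hom)
  exact quasiIso_of_arrowIso (mapεArrowIso ((evaluation Cᵒᵖ AddCommGrpCat.{u}).obj U)
    (freePresheafNerve f)).symm

lemma quasiIso_sheafify_freePresheafNerve :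
    QuasiIso (AlgebraicTopology.AlternatingFaceMapComplex.ε.app
      (((SimplicialObject.Augmented.whiskering _ _).obj
        (presheafToSheaf J AddCommGrpCat.{u})).obj (freePresheafNerve f))) := by
  haveI := quasiIso_freePresheafNerve f
  exact quasiIso_of_arrowIso (mapεArrowIso (presheafToSheaf J AddCommGrpCat.{u})
    (freePresheafNerve f))

lemma W_range_ι [Epi f] : J.W (Subfunctor.range f.hom).ι := by
  haveI : Sheaf.IsLocallySurjective f := (Sheaf.isLocallySurjective_iff_epi f).2 inferInstance
  haveI : Presheaf.IsLocallySurjective J (Subfunctor.range f.hom).ι :=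
    Presheaf.isLocallySurjective_of_isLocallySurjective_fac J (Subfunctor.toRange_ι f.hom)
  haveI : Presheaf.IsLocallyInjective J (Subfunctor.range f.hom).ι :=
    Presheaf.isLocallyInjective_of_injective J _ (fun U x y h => Subtype.ext h)
  exact J.W_of_isLocallyBijective _

lemma quasiIso_freeNerve [Epi f] :
    QuasiIso ((AlgebraicTopology.AlternatingFaceMapComplex.ε (C := Sheaf J AddCommGrpCat.{u})).app
      (((SimplicialObject.Augmented.whiskering _ _).obj
        (Sheaf.composeAndSheafify J AddCommGrpCat.free.{u})).obj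
          (Arrow.mk f).augmentedCechNerve)) := by
  haveI := quasiIso_sheafify_freePresheafNerve f
  let ι' : (presheafToSheaf J AddCommGrpCat.{u}).obj (imgPresheaf f ⋙ AddCommGrpCat.free.{u}) ⟶
      (Sheaf.composeAndSheafify J AddCommGrpCat.free.{u}).obj K :=
    (presheafToSheaf J AddCommGrpCat.{u}).map
      (Functor.whiskerRight (Subfunctor.range f.hom).ι AddCommGrpCat.free.{u})
  have hι : IsIso ι' :=
    (J.W_iff (Functor.whiskerRight (Subfunctor.range f.hom).ι AddCommGrpCat.free.{u})).1
      (J.W_of_preservesSheafification AddCommGrpCat.free.{u} _ (W_range_ι f))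
  let e : ((SimplicialObject.Augmented.whiskering _ _).obj
        (presheafToSheaf J AddCommGrpCat.{u})).obj (freePresheafNerve f) ≅
      ((SimplicialObject.Augmented.whiskering _ _).obj
        (Sheaf.composeAndSheafify J AddCommGrpCat.free.{u})).obj
          (Arrow.mk f).augmentedCechNerve :=
    Comma.isoMk (Iso.refl _) (@asIso _ _ _ _ ι' hι) (by
      apply NatTrans.ext
      funext n
      change 𝟙 _ ≫ (Sheaf.composeAndSheafify J AddCommGrpCat.free.{u}).map
        (WidePullback.base (fun _ : Fin (n.unop.len + 1) => (Arrow.mk f).hom)) =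
        (presheafToSheaf J AddCommGrpCat.{u}).map (Functor.whiskerRight ((presheafNerve f).hom.app n)
          AddCommGrpCat.free.{u}) ≫ ι'
      rw [Category.id_comp]
      refine Eq.trans ?_ ((presheafToSheaf J AddCommGrpCat.{u}).map_comp _ _)
      refine congrArg (presheafToSheaf J AddCommGrpCat.{u}).map ?_
      exact (congrArg (fun t => Functor.whiskerRight t AddCommGrpCat.free.{u})
        (show (presheafNerve f).hom.app n ≫ (Subfunctor.range f.hom).ι =
          (sheafToPresheaf J (Type u)).map
            (WidePullback.base (fun _ : Fin (n.unop.len + 1) => (Arrow.mk f).hom)) from rfl)).symm.trans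
        (Functor.whiskerRight_comp _ _ _))
  refine quasiIso_of_arrowIso (f := AlgebraicTopology.AlternatingFaceMapComplex.ε.app
    (((SimplicialObject.Augmented.whiskering _ _).obj
      (presheafToSheaf J AddCommGrpCat.{u})).obj (freePresheafNerve f))) ?_
  exact Arrow.isoMk ((SimplicialObject.Augmented.drop ⋙
      AlgebraicTopology.alternatingFaceMapComplex _).mapIso e)
    ((SimplicialObject.Augmented.point ⋙ ChainComplex.single₀ _).mapIso e)
    (AlgebraicTopology.AlternatingFaceMapComplex.ε.naturality e.hom)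

end CohLib
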