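import Groth.Prelude.Def_CohCx
import Groth.Agent.CohLib.FreeNerve
import Groth.Agent.CohLib.ExtShift

/-!
# Čech complexes of morphisms of sheaves of sets, and total acyclicity
-/

universe u

set_option linter.style.haveILetI false

open CategoryTheory CategoryTheory.Limits Opposite Simplicial AlgebraicTopology

namespace CohLib

section HomExact

variable {A : Type (u + 1)} [Category.{u} A] [Preadditive A]

/-- `Hom(P, F)` is exact in degree `q + 1`. -/
def HomExact (P : ChainComplex A ℕ) (F : A) (q : ℕ) : Prop :=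
  ∀ x : P.X (q + 1) ⟶ F, P.d (q + 2) (q + 1) ≫ x = 0 →
    ∃ y : P.X q ⟶ F, P.d (q + 1) q ≫ y = x

lemma homExact_of_iso {P P' : ChainComplex A ℕ} (e : P ≅ P') {F : A} {q : ℕ}
    (h : HomExact P F q) : HomExact P' F q := by
  intro x hx
  obtain ⟨y, hy⟩ := h (e.hom.f (q + 1) ≫ x) (by
    rw [← Category.assoc, ← e.hom.comm, Category.assoc, hx, comp_zero])
  refine ⟨e.inv.f q ≫ y, ?_⟩
  rw [← Category.assoc, ← e.inv.comm, Category.assoc, hy, ← Category.assoc,
    ← HomologicalComplex.comp_f, e.inv_hom_id, HomologicalComplex.id_f, Category.id_comp]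

end HomExact

section Augmented

variable {A : Type (u + 1)} [Category.{u} A] [Abelian A] (P : ChainComplex A ℕ) {B : A}
  (ε : P ⟶ (ChainComplex.single₀ A).obj B) [QuasiIso ε]

include ε in
lemma exact_of_quasiIso (n : ℕ) :
    (ShortComplex.mk (P.d (n + 2) (n + 1)) (P.d (n + 1) n) (P.d_comp_d _ _ _)).Exact := by
  have : P.ExactAt (n + 1) := by
    rw [exactAt_iff_of_quasiIsoAt ε]
    exact ChainComplex.exactAt_succ_single_obj B n
  rw [P.exactAt_iff' (n + 2) (n + 1) n (by simp) (by simp)] at this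
  exact this

lemma exact_and_epi_of_quasiIso :
    (ShortComplex.mk (P.d 1 0) (ε.f 0) ((ε.comm 1 0).symm.trans comp_zero)).Exact ∧ Epi (ε.f 0) := by
  have h : QuasiIsoAt ε 0 := inferInstance
  rw [ChainComplex.quasiIsoAt₀_iff,
    ShortComplex.quasiIso_iff_of_zeros' _ (HomologicalComplex.shape _ _ _ (by simp)) rfl rfl] at h
  exact h

include ε in
lemma homExact_of_injective (I : A) [Injective I] (q : ℕ) : HomExact P I q := fun x hx =>
  ⟨(exact_of_quasiIso P ε q).descToInjective x hx,
    (exact_of_quasiIso P ε q).comp_descToInjective x hx⟩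

end Augmented

variable {C : Type u} [SmallCategory C] {J : GrothendieckTopology C}

/-- The free abelian sheaf functor. -/
noncomputable abbrev Z (J : GrothendieckTopology C) : Sheaf J (Type u) ⥤ Sheaf J AddCommGrpCat.{u} :=
  Sheaf.composeAndSheafify J AddCommGrpCat.free.{u}

/-- The free-forgetful adjunction for sheaves. -/
noncomputable abbrev adjZ (J : GrothendieckTopology C) :
    Z J ⊣ sheafCompose J (forget AddCommGrpCat.{u}) :=
  Sheaf.adjunction J AddCommGrpCat.adj.{u}

variable {K' K : Sheaf J (Type u)} (f : K' ⟶ K)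

/-- The free abelian sheaves on the augmented nerve. -/
noncomputable abbrev freeNerve : SimplicialObject.Augmented (Sheaf J AddCommGrpCat.{u}) :=
  ((SimplicialObject.Augmented.whiskering _ _).obj (Z J)).obj (Arrow.mk f).augmentedCechNerve

/-- The chain complex of free abelian sheaves on the nerve. -/
noncomputable abbrev nerveCx : ChainComplex (Sheaf J AddCommGrpCat.{u}) ℕ :=
  (alternatingFaceMapComplex _).obj (freeNerve f).left

/-- The augmentation of `nerveCx`. -/
noncomputable def nerveε : nerveCx f ⟶ (ChainComplex.single₀ _).obj ((Z J).obj K) :=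
  AlternatingFaceMapComplex.ε.app (freeNerve f)

instance quasiIso_nerveε [Epi f] : QuasiIso (nerveε f) := quasiIso_freeNerve f

/-- The augmentation in degree zero. -/
noncomputable def nerveAug : (nerveCx f).X 0 ⟶ (Z J).obj K :=
  (Z J).map (WidePullback.π (fun _ : Fin 1 => f) 0) ≫ (Z J).map f

lemma nerveε_f_zero : (nerveε f).f 0 = nerveAug f := by
  exact ((AlternatingFaceMapComplex.ε_app_f_zero _).trans (Category.comp_id _)).trans
    ((congrArg (Z J).map (WidePullback.π_arrow (fun _ : Fin 1 => f) 0).symm).trans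
      ((Z J).map_comp _ _))

lemma d_comp_nerveAug : (nerveCx f).d 1 0 ≫ nerveAug f = 0 := by
  rw [← nerveε_f_zero]
  exact ((nerveε f).comm 1 0).symm.trans comp_zero

lemma exact_nerveAug [Epi f] :
    (ShortComplex.mk ((nerveCx f).d 1 0) (nerveAug f) (d_comp_nerveAug f)).Exact := by
  have h := (exact_and_epi_of_quasiIso (nerveCx f) (nerveε f)).1
  simp only [nerveε_f_zero] at h
  exact h

instance epi_nerveAug [Epi f] : Epi (nerveAug f) := by
  have h := (exact_and_epi_of_quasiIso (nerveCx f) (nerveε f)).2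
  rwa [nerveε_f_zero] at h

/-- Čech exactness of `F` for `f` in degree `q + 1`. -/
abbrev CechExact (F : Sheaf J AddCommGrpCat.{u}) (q : ℕ) : Prop := HomExact (nerveCx f) F q

/-- `F` is Čech exact for all epimorphisms. -/
def AllCechExact (F : Sheaf J AddCommGrpCat.{u}) : Prop :=
  ∀ (K' K : Sheaf J (Type u)) (f : K' ⟶ K), Epi f → ∀ q, CechExact f F q

lemma allCechExact_of_injective (I : Sheaf J AddCommGrpCat.{u}) [Injective I] : AllCechExact I :=
  fun _ _ f _ q => homExact_of_injective (nerveCx f) (nerveε f) I q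

/-- A degree zero cocycle comes from the augmentation. -/
lemma exists_aug [Epi f] {F : Sheaf J AddCommGrpCat.{u}} (x : (nerveCx f).X 0 ⟶ F)
    (hx : (nerveCx f).d 1 0 ≫ x = 0) : ∃ s : (Z J).obj K ⟶ F, nerveAug f ≫ s = x := by
  haveI : Epi (ShortComplex.mk ((nerveCx f).d 1 0) (nerveAug f) (d_comp_nerveAug f)).g :=
    epi_nerveAug f
  exact ⟨(exact_nerveAug f).desc x hx, (exact_nerveAug f).g_desc x hx⟩

lemma epi_pullback_fst {P Q : Sheaf J (Type u)} (s : K ⟶ Q) (π : P ⟶ Q) [Epi π] :
    Epi (pullback.fst s π) := by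
  haveI hπ : Sheaf.IsLocallySurjective π := (Sheaf.isLocallySurjective_iff_epi π).2 inferInstance
  rw [← Sheaf.isLocallySurjective_iff_epi]
  constructor
  intro U y
  refine J.superset_covering ?_ (Presheaf.imageSieve_mem J π.hom (U := op U) (s.hom.app (op U) y))
  rintro V g ⟨t, ht⟩
  have sq := (IsPullback.of_hasPullback s π).map
    (sheafToPresheaf J (Type u) ⋙ (evaluation Cᵒᵖ (Type u)).obj (op V))
  have e : (ConcreteCategory.hom (s.hom.app (op V))) (K.obj.map g.op y) = π.hom.app (op V) t :=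
    (NatTrans.naturality_apply s.hom g.op y).trans ht.symm
  obtain ⟨z, hz, -⟩ := Types.exists_of_isPullback sq _ _ e
  exact ⟨z, hz⟩

lemma epi_forget_map {F G : Sheaf J AddCommGrpCat.{u}} (π : F ⟶ G) [Epi π] :
    Epi ((sheafCompose J (forget AddCommGrpCat.{u})).map π) := by
  haveI hπ : Sheaf.IsLocallySurjective π := (Sheaf.isLocallySurjective_iff_epi' AddCommGrpCat.{u} π).2 inferInstance
  rw [← Sheaf.isLocallySurjective_iff_epi]
  infer_instance

/-- The Cartan criterion in degree one. -/
lemma subsingleton_ext_one_of_cechExact {F : Sheaf J AddCommGrpCat.{u}}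
    (h : ∀ (K' : Sheaf J (Type u)) (f : K' ⟶ K), Epi f → CechExact f F 0) :
    Subsingleton (CohCx.HK K F 1) := by
  have hS := injSC_shortExact F
  haveI : Subsingleton (Abelian.Ext ((Z J).obj K) (injSC F).X₂ 1) :=
    subsingleton_ext_injective _ (Injective.under F) 0
  refine subsingleton_ext_one_of_lift hS (X := (Z J).obj K) fun s => ?_
  let π := (injSC F).g
  haveI : Epi π := hS.epi_g
  haveI : Mono (injSC F).f := hS.mono_f
  let π' := (sheafCompose J (forget AddCommGrpCat.{u})).map π
  haveI : Epi π' := epi_forget_map π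
  let s' := (adjZ J).homEquiv _ _ s
  let g : pullback s' π' ⟶ K := pullback.fst s' π'
  haveI : Epi g := epi_pullback_fst s' π'
  let t : (Z J).obj (pullback s' π') ⟶ (injSC F).X₂ :=
    ((adjZ J).homEquiv _ _).symm (pullback.snd s' π')
  have ht : t ≫ π = (Z J).map g ≫ s := by
    refine ((adjZ J).homEquiv _ _).injective ?_
    rw [Adjunction.homEquiv_naturality_right, Adjunction.homEquiv_naturality_left,
      Equiv.apply_symm_apply]
    exact pullback.condition.symm
  obtain ⟨t₀, ht₀⟩ : ∃ t₀ : (nerveCx g).X 0 ⟶ (injSC F).X₂,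
      t₀ ≫ (injSC F).g = nerveAug g ≫ s :=
    ⟨(Z J).map (WidePullback.π (fun _ : Fin 1 => g) 0) ≫ t, by
      unfold nerveAug
      exact (Category.assoc _ _ _).trans
        ((congrArg (_ ≫ ·) ht).trans (Category.assoc _ _ _).symm)⟩
  have hx : ((nerveCx g).d 1 0 ≫ t₀) ≫ (injSC F).g = 0 := by
    rw [Category.assoc, ht₀, ← Category.assoc, d_comp_nerveAug, zero_comp]
  haveI := hS.exact
  let x := hS.exact.lift ((nerveCx g).d 1 0 ≫ t₀) hx
  have hx' : x ≫ (injSC F).f = (nerveCx g).d 1 0 ≫ t₀ := hS.exact.lift_f _ hx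
  obtain ⟨y, hy⟩ := h _ g inferInstance x (by
    rw [← cancel_mono (injSC F).f, Category.assoc, hx', ← Category.assoc,
      HomologicalComplex.d_comp_d, zero_comp, zero_comp])
  obtain ⟨s₁, hs₁⟩ := exists_aug g (t₀ - y ≫ (injSC F).f) (by
    rw [Preadditive.comp_sub, ← hx', ← hy, Category.assoc, sub_self])
  refine ⟨s₁, ?_⟩
  rw [← cancel_epi (nerveAug g), ← Category.assoc, hs₁, Preadditive.sub_comp, Category.assoc,
    ShortComplex.zero, comp_zero, sub_zero]
  exact ht₀

/-- Čech exactness passes to the quotient by a sub object with vanishing `H¹`. -/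
lemma cechExact_quotient {S : ShortComplex (Sheaf J AddCommGrpCat.{u})} (hS : S.ShortExact)
    (h1 : ∀ L : Sheaf J (Type u), Subsingleton (CohCx.HK L S.X₁ 1)) {q : ℕ}
    (hF : CechExact f S.X₁ (q + 1)) (hI : CechExact f S.X₂ q) : CechExact f S.X₃ q := by
  intro x hx
  haveI := hS.mono_f
  haveI : Subsingleton (Abelian.Ext ((nerveCx f).X (q + 1)) S.X₁ 1) :=
    h1 ((Arrow.mk f).cechNerve.obj (op ⦋q + 1⦌))
  obtain ⟨x', rfl⟩ := exists_lift_of_subsingleton_ext_one hS x
  have hw : ((nerveCx f).d (q + 2) (q + 1) ≫ x') ≫ S.g = 0 := by rw [Category.assoc, hx]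
  obtain ⟨v, hv⟩ := hF (hS.exact.lift _ hw) (by
    rw [← cancel_mono S.f, Category.assoc, hS.exact.lift_f, ← Category.assoc,
      HomologicalComplex.d_comp_d, zero_comp, zero_comp])
  obtain ⟨y, hy⟩ := hI (x' - v ≫ S.f) (by
    rw [Preadditive.comp_sub, ← Category.assoc _ v, hv, hS.exact.lift_f, sub_self])
  refine ⟨y ≫ S.g, ?_⟩
  rw [← Category.assoc, hy, Preadditive.sub_comp, Category.assoc, S.zero, comp_zero, sub_zero]

/-- The Cartan criterion: Čech exactness for all epimorphisms implies total acyclicity. -/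
theorem isTotallyAcyclic_of_allCechExact {F : Sheaf J AddCommGrpCat.{u}} (h : AllCechExact F) :
    CohCx.IsTotallyAcyclic F := by
  intro K p
  induction p generalizing F K with
  | zero => exact subsingleton_ext_one_of_cechExact fun K' f hf => h K' K f hf 0
  | succ p ih =>
    have hS := injSC_shortExact F
    haveI : Subsingleton (Abelian.Ext ((Z J).obj K) (injSC F).X₂ (p + 1 + 1)) :=
      subsingleton_ext_injective _ (Injective.under F) _
    haveI : Subsingleton (Abelian.Ext ((Z J).obj K) (injSC F).X₃ (p + 1)) :=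
      ih (F := (injSC F).X₃) (fun L' L g hg q => cechExact_quotient g hS
        (fun M => subsingleton_ext_one_of_cechExact fun M' m hm => h M' M m hm 0)
        (h L' L g hg (q + 1))
        (allCechExact_of_injective (Injective.under F) L' L g hg q)) K
    exact subsingleton_ext_of_shift hS (X := (Z J).obj K) (n := p + 1)

lemma isTotallyAcyclic_injective (I : Sheaf J AddCommGrpCat.{u}) [Injective I] :
    CohCx.IsTotallyAcyclic I :=
  fun _ p => subsingleton_ext_injective _ I p

/-- Totally acyclic sheaves are Čech exact. -/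
theorem allCechExact_of_isTotallyAcyclic {F : Sheaf J AddCommGrpCat.{u}}
    (hF : CohCx.IsTotallyAcyclic F) : AllCechExact F := by
  intro K' K f hf q
  induction q generalizing F with
  | zero =>
    intro x hx
    have hS := injSC_shortExact F
    haveI := hS.mono_f
    obtain ⟨y, hy⟩ := allCechExact_of_injective (Injective.under F) _ _ f hf 0 (x ≫ (injSC F).f)
      (by rw [← Category.assoc, hx, zero_comp])
    obtain ⟨s, hs⟩ := exists_aug f (y ≫ (injSC F).g) (by
      rw [← Category.assoc, hy, Category.assoc, ShortComplex.zero, comp_zero])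
    haveI : Subsingleton (Abelian.Ext ((Z J).obj K) (injSC F).X₁ 1) := hF K 0
    obtain ⟨s', rfl⟩ := exists_lift_of_subsingleton_ext_one hS s
    refine ⟨hS.exact.lift (y - nerveAug f ≫ s') ?_, ?_⟩
    · rw [Preadditive.sub_comp, Category.assoc, hs, sub_self]
    · rw [← cancel_mono (injSC F).f, Category.assoc, hS.exact.lift_f, Preadditive.comp_sub, hy,
        ← Category.assoc, d_comp_nerveAug, zero_comp, sub_zero]
  | succ q ih =>
    intro x hx
    have hS := injSC_shortExact F
    haveI := hS.mono_f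
    have hQ : CohCx.IsTotallyAcyclic (injSC F).X₃ := fun L p =>
      haveI : Subsingleton (Abelian.Ext ((Z J).obj L) (injSC F).X₂ (p + 1)) :=
        subsingleton_ext_injective _ (Injective.under F) p
      haveI : Subsingleton (Abelian.Ext ((Z J).obj L) (injSC F).X₁ (p + 1 + 1)) := hF L (p + 1)
      subsingleton_ext_of_shift' hS (X := (Z J).obj L) (n := p + 1)
    obtain ⟨y, hy⟩ := allCechExact_of_injective (Injective.under F) _ _ f hf (q + 1)
      (x ≫ (injSC F).f) (by rw [← Category.assoc, hx, zero_comp])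
    obtain ⟨z, hz⟩ := ih (F := (injSC F).X₃) hQ (y ≫ (injSC F).g) (by
      rw [← Category.assoc, hy, Category.assoc, ShortComplex.zero, comp_zero])
    haveI : Subsingleton (Abelian.Ext ((nerveCx f).X q) (injSC F).X₁ 1) :=
      hF ((Arrow.mk f).cechNerve.obj (op ⦋q⦌)) 0
    obtain ⟨z', rfl⟩ := exists_lift_of_subsingleton_ext_one hS z
    refine ⟨hS.exact.lift (y - (nerveCx f).d (q + 1) q ≫ z') ?_, ?_⟩
    · rw [Preadditive.sub_comp, Category.assoc, hz, sub_self]
    · rw [← cancel_mono (injSC F).f, Category.assoc, hS.exact.lift_f, Preadditive.comp_sub, hy,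
        ← Category.assoc _ _ z', HomologicalComplex.d_comp_d, zero_comp, sub_zero]

theorem isTotallyAcyclic_iff_allCechExact (F : Sheaf J AddCommGrpCat.{u}) :
    CohCx.IsTotallyAcyclic F ↔ AllCechExact F :=
  ⟨allCechExact_of_isTotallyAcyclic, isTotallyAcyclic_of_allCechExact⟩

/-- The Čech complex of the prelude, evaluated on elements. -/
lemma cechNerveCx_d_apply (F : Sheaf J AddCommGrpCat.{u}) (n : ℕ)
    (x : (nerveCx f).X n ⟶ F) :
    (CohCx.cechNerveCx F f).d n (n + 1) x = (nerveCx f).d (n + 1) n ≫ x := by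
  rw [show (nerveCx f).d (n + 1) n = ∑ i : Fin (n + 2), (-1 : ℤ) ^ (i : ℕ) •
      (freeNerve f).left.δ i from AlternatingFaceMapComplex.obj_d_eq _ n]
  rw [show (CohCx.cechNerveCx F f).d n (n + 1) = ∑ i : Fin (n + 2), (-1 : ℤ) ^ (i : ℕ) •
      CosimplicialObject.δ ((Arrow.mk f).cechNerve.rightOp ⋙ CohCx.HK0Functor J F) i from
      CochainComplex.of_d _ (AlternatingCofaceMapComplex.objD
        ((Arrow.mk f).cechNerve.rightOp ⋙ CohCx.HK0Functor J F)) n]
  rw [Preadditive.sum_comp]
  change AddCommGrpCat.homAddEquiv (∑ i : Fin (n + 2), (-1 : ℤ) ^ (i : ℕ) •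
      CosimplicialObject.δ ((Arrow.mk f).cechNerve.rightOp ⋙ CohCx.HK0Functor J F) i) x = _
  rw [map_sum, AddMonoidHom.finsetSum_apply]
  refine Finset.sum_congr rfl fun i _ => ?_
  rw [Preadditive.zsmul_comp]
  rfl

theorem isZero_cechNerveCx_iff (F : Sheaf J AddCommGrpCat.{u}) (q : ℕ) :
    IsZero ((CohCx.cechNerveCx F f).homology (q + 1)) ↔ CechExact f F q := by
  rw [← HomologicalComplex.exactAt_iff_isZero_homology,
    (CohCx.cechNerveCx F f).exactAt_iff' q (q + 1) (q + 2) (by simp) (by simp),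
    ShortComplex.ab_exact_iff]
  constructor
  · intro h x hx
    obtain ⟨y, hy⟩ := h x ((cechNerveCx_d_apply f F (q + 1) x).trans hx)
    exact ⟨y, (cechNerveCx_d_apply f F q y).symm.trans hy⟩
  · intro h x hx
    obtain ⟨y, hy⟩ := h x ((cechNerveCx_d_apply f F (q + 1) x).symm.trans hx)
    exact ⟨y, (cechNerveCx_d_apply f F q y).trans hy⟩

end CohLib
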