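/-
Filtered colimits of abelian sheaves and maps out of free sheaves on quasi-compact objects.
-/
import Groth.Agent.ToposFinLib.FiltCol
import Groth.Agent.CohLib.Cech

set_option autoImplicit false
set_option linter.style.haveILetI false
set_option linter.deprecated false

universe u

open CategoryTheory CategoryTheory.Limits Opposite ToposFin

namespace CohLib

variable {C : Type u} [SmallCategory C] {J : GrothendieckTopology C}
  {Λ : Type u} [SmallCategory Λ] [IsFiltered Λ]

/-- Underlying sheaves of sets of a filtered colimit. -/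
instance preservesColimitsOfShape_sheafCompose_forget :
    PreservesColimitsOfShape Λ (sheafCompose J (forget AddCommGrpCat.{u})) where
  preservesColimit {D} := preservesColimit_of_preserves_colimit_cocone
    (Sheaf.isColimitSheafifyCocone (colimit.cocone (D ⋙ sheafToPresheaf J AddCommGrpCat.{u}))
      (colimit.isColimit _)) (by
    let S := sheafCompose J (forget AddCommGrpCat.{u})
    let e := sheafComposeNatIso J (forget AddCommGrpCat.{u}) (sheafificationAdjunction J AddCommGrpCat.{u})
      (sheafificationAdjunction J (Type u))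
    haveI : PreservesColimitsOfShape Λ ((Functor.whiskeringRight Cᵒᵖ _ _).obj (forget AddCommGrpCat.{u})) :=
      inferInstance
    haveI : PreservesColimitsOfShape Λ (presheafToSheaf J AddCommGrpCat.{u} ⋙ S) :=
      preservesColimitsOfShape_of_natIso e
    let E := colimit.cocone (D ⋙ sheafToPresheaf J AddCommGrpCat.{u})
    have h : IsColimit (S.mapCocone ((presheafToSheaf J AddCommGrpCat.{u}).mapCocone E)) :=
      isColimitOfPreserves (presheafToSheaf J AddCommGrpCat.{u} ⋙ S) (colimit.isColimit _)
    refine IsColimit.ofIsoColimit ((IsColimit.precomposeHomEquiv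
      (Functor.isoWhiskerRight (Functor.isoWhiskerLeft D
        (asIso (sheafificationAdjunction J AddCommGrpCat.{u}).counit).symm) S) _).symm h) ?_
    exact Cocone.ext (Iso.refl _) (fun i => (Category.comp_id _).trans (S.map_comp _ _).symm))

/-- Sections of a filtered colimit over a coherent object come from some stage. -/
theorem exists_lift_Z (hE : HasQCGenerators J) {K : Sheaf J (Type u)} (hK : IsCoherent K)
    (D : Λ ⥤ Sheaf J AddCommGrpCat.{u}) (t : (Z J).obj K ⟶ colimit D) :
    ∃ (i : Λ) (s : (Z J).obj K ⟶ D.obj i), s ≫ colimit.ι D i = t := by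
  obtain ⟨i, s, hs⟩ := ToposFinLib.exists_lift_of_coherent hE
    (isColimitOfPreserves (sheafCompose J (forget AddCommGrpCat.{u})) (colimit.isColimit D)) hK
    ((adjZ J).homEquiv _ _ t)
  refine ⟨i, ((adjZ J).homEquiv _ _).symm s, ((adjZ J).homEquiv _ _).injective ?_⟩
  rw [Adjunction.homEquiv_naturality_right, Equiv.apply_symm_apply]
  exact hs

/-- Sections over a quasi-compact object vanishing in a filtered colimit vanish at some stage. -/
theorem eq_zero_at_Z {K : Sheaf J (Type u)} (hK : IsQC K)
    (D : Λ ⥤ Sheaf J AddCommGrpCat.{u}) (i : Λ) (s : (Z J).obj K ⟶ D.obj i) (h : s ≫ colimit.ι D i = 0) :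
    ∃ (j : Λ) (φ : i ⟶ j), s ≫ D.map φ = 0 := by
  let e := fun T => (adjZ J).homEquiv K T
  obtain ⟨j, φ, hφ⟩ := ToposFinLib.eq_of_isQC
    (isColimitOfPreserves (sheafCompose J (forget AddCommGrpCat.{u})) (colimit.isColimit D)) hK (e _ s) (e _ 0) (by
      change e _ s ≫ (sheafCompose J (forget AddCommGrpCat.{u})).map (colimit.ι D i) =
        e _ 0 ≫ (sheafCompose J (forget AddCommGrpCat.{u})).map (colimit.ι D i)
      rw [← Adjunction.homEquiv_naturality_right, ← Adjunction.homEquiv_naturality_right, h, zero_comp])
  refine ⟨j, φ, (e _).injective ?_⟩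
  change e _ s ≫ (sheafCompose J (forget AddCommGrpCat.{u})).map (D.map φ) =
    e _ 0 ≫ (sheafCompose J (forget AddCommGrpCat.{u})).map (D.map φ) at hφ
  rw [← Adjunction.homEquiv_naturality_right, ← Adjunction.homEquiv_naturality_right, zero_comp] at hφ
  exact hφ

end CohLib
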