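/-
The Cartan criterion on a good class of coherent objects.
-/
import Groth.Agent.CohLib.FiltSets
import Groth.Agent.FiltExtLib.Basic

set_option autoImplicit false
set_option linter.style.haveILetI false
set_option linter.deprecated false

universe u

open CategoryTheory CategoryTheory.Limits CategoryTheory.Abelian Opposite Simplicial ToposFin

namespace CohLib

variable {C : Type u} [SmallCategory C] {J : GrothendieckTopology C}

/-- A class of coherent objects with enough covers and stable under fibre products. -/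
structure GoodClass (J : GrothendieckTopology C) where
  /-- the class -/
  P : Sheaf J (Type u) → Prop
  qcGen : HasQCGenerators J
  coherent : ∀ {L}, P L → IsCoherent L
  of_iso : ∀ {L L'}, (L ≅ L') → P L → P L'
  cover : ∀ {L T : Sheaf J (Type u)} (g : T ⟶ L), Epi g → P L →
    ∃ (Q : Sheaf J (Type u)) (m : Q ⟶ T), P Q ∧ Epi (m ≫ g)
  pullback : ∀ {A B L : Sheaf J (Type u)} (a : A ⟶ L) (b : B ⟶ L), P A → P B → P L → P (pullback a b)

variable (G : GoodClass J)

/-- Čech exactness along covers in the class. -/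
def GoodCechExact (F : Sheaf J AddCommGrpCat.{u}) : Prop :=
  ∀ (K' K : Sheaf J (Type u)) (f : K' ⟶ K), Epi f → G.P K' → G.P K → ∀ q, CechExact f F q

/-- The wide pullback splits off its first factor. -/
lemma isPullback_widePullback {K' K : Sheaf J (Type u)} (f : K' ⟶ K) (n : ℕ) :
    IsPullback (WidePullback.π (fun _ : Fin (n + 2) => f) 0)
      (WidePullback.lift (WidePullback.base (fun _ : Fin (n + 2) => f))
        (fun i : Fin (n + 1) => WidePullback.π (fun _ : Fin (n + 2) => f) i.succ)
        (fun i => WidePullback.π_arrow (fun _ : Fin (n + 2) => f) i.succ))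
      f (WidePullback.base (fun _ : Fin (n + 1) => f)) := by
  refine ⟨⟨by rw [WidePullback.lift_base]; exact WidePullback.π_arrow (fun _ : Fin (n + 2) => f) 0⟩,
    ⟨PullbackCone.IsLimit.mk _ (fun s => WidePullback.lift (s.fst ≫ f)
      (Fin.cons s.fst (fun i => s.snd ≫ WidePullback.π (fun _ : Fin (n + 1) => f) i)) ?_) (fun s => ?_) (fun s => ?_)
      (fun s m h₁ h₂ => ?_)⟩⟩
  · intro i
    refine Fin.cases ?_ (fun j => ?_) i
    · rw [Fin.cons_zero]
    · rw [Fin.cons_succ, Category.assoc, WidePullback.π_arrow]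
      exact s.condition.symm
  · rw [WidePullback.lift_π, Fin.cons_zero]
  · refine WidePullback.hom_ext _ _ _ (fun i => ?_) ?_
    · rw [Category.assoc, WidePullback.lift_π, WidePullback.lift_π, Fin.cons_succ]
    · rw [Category.assoc, WidePullback.lift_base, WidePullback.lift_base]
      exact s.condition
  · refine WidePullback.hom_ext _ _ _ (fun i => ?_) ?_
    · refine Fin.cases ?_ (fun j => ?_) i
      · rw [h₁, WidePullback.lift_π, Fin.cons_zero]
      · have := h₂ =≫ WidePullback.π (fun _ : Fin (n + 1) => f) j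
        rw [Category.assoc, WidePullback.lift_π] at this
        rw [this, WidePullback.lift_π, Fin.cons_succ]
    · rw [WidePullback.lift_base, ← WidePullback.π_arrow (fun _ : Fin (n + 2) => f) 0, ← Category.assoc, h₁]

lemma good_widePullback {K' K : Sheaf J (Type u)} (f : K' ⟶ K) (h' : G.P K') (h : G.P K) (n : ℕ) :
    G.P (widePullback K (fun _ : Fin (n + 1) => K') (fun _ => f)) := by
  induction n with
  | zero =>
    refine G.of_iso ⟨WidePullback.lift f (fun _ => 𝟙 K') (fun _ => Category.id_comp f),
      WidePullback.π (fun _ : Fin 1 => f) 0, WidePullback.lift_π _ _ _ _ _, ?_⟩ h'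
    refine WidePullback.hom_ext _ _ _ (fun i => ?_) ?_
    · rw [Category.assoc, WidePullback.lift_π, Category.comp_id, Category.id_comp, Fin.fin_one_eq_zero i]
    · rw [Category.assoc, WidePullback.lift_base, WidePullback.π_arrow, Category.id_comp]
  | succ n ih => exact G.of_iso (isPullback_widePullback f n).isoPullback.symm (G.pullback _ _ h' ih h)

lemma good_nerve {K' K : Sheaf J (Type u)} (f : K' ⟶ K) (h' : G.P K') (h : G.P K) (n : ℕ) :
    G.P ((Arrow.mk f).cechNerve.obj (op ⦋n⦌)) := good_widePullback G f h' h n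

/-- The Cartan criterion in degree one. -/
lemma subsingleton_ext_one_of_goodCechExact {F : Sheaf J AddCommGrpCat.{u}} (h : GoodCechExact G F)
    {K : Sheaf J (Type u)} (hK : G.P K) : Subsingleton (CohCx.HK K F 1) := by
  have hS := injSC_shortExact F
  haveI : Subsingleton (Abelian.Ext ((Z J).obj K) (injSC F).X₂ 1) :=
    subsingleton_ext_injective _ (Injective.under F) 0
  refine subsingleton_ext_one_of_lift hS (X := (Z J).obj K) fun s => ?_
  let π := (injSC F).g
  haveI : Epi π := hS.epi_g
  haveI : Mono (injSC F).f := hS.mono_f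
  let π' := (sheafCompose J (forget AddCommGrpCat.{u})).map π
  haveI : Epi π' := epi_forget_map π
  let s' := (adjZ J).homEquiv _ _ s
  obtain ⟨Q, m, hQ, hm⟩ := G.cover (pullback.fst s' π') (epi_pullback_fst s' π') hK
  let g : Q ⟶ K := m ≫ pullback.fst s' π'
  haveI : Epi g := hm
  let t : (Z J).obj Q ⟶ (injSC F).X₂ :=
    ((adjZ J).homEquiv _ _).symm (m ≫ pullback.snd s' π')
  have ht : t ≫ π = (Z J).map g ≫ s := by
    refine ((adjZ J).homEquiv _ _).injective ?_
    rw [Adjunction.homEquiv_naturality_right, Adjunction.homEquiv_naturality_left,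
      Equiv.apply_symm_apply, Category.assoc, Category.assoc]
    exact congrArg (m ≫ ·) pullback.condition.symm
  obtain ⟨t₀, ht₀⟩ : ∃ t₀ : (nerveCx g).X 0 ⟶ (injSC F).X₂,
      t₀ ≫ (injSC F).g = nerveAug g ≫ s :=
    ⟨(Z J).map (WidePullback.π (fun _ : Fin 1 => g) 0) ≫ t, by
      unfold nerveAug
      exact (Category.assoc _ _ _).trans
        ((congrArg (_ ≫ ·) ht).trans (Category.assoc _ _ _).symm)⟩
  have hx : ((nerveCx g).d 1 0 ≫ t₀) ≫ (injSC F).g = 0 := by
    rw [Category.assoc, ht₀, ← Category.assoc, d_comp_nerveAug, zero_comp]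
  let x := hS.exact.lift ((nerveCx g).d 1 0 ≫ t₀) hx
  have hx' : x ≫ (injSC F).f = (nerveCx g).d 1 0 ≫ t₀ := hS.exact.lift_f _ hx
  obtain ⟨y, hy⟩ := h Q K g inferInstance hQ hK 0 x (by
    rw [← cancel_mono (injSC F).f, Category.assoc, hx', ← Category.assoc,
      HomologicalComplex.d_comp_d, zero_comp, zero_comp])
  obtain ⟨s₁, hs₁⟩ := exists_aug g (t₀ - y ≫ (injSC F).f) (by
    rw [Preadditive.comp_sub, ← hx', ← hy, Category.assoc, sub_self])
  refine ⟨s₁, ?_⟩
  rw [← cancel_epi (nerveAug g), ← Category.assoc, hs₁, Preadditive.sub_comp, Category.assoc,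
    ShortComplex.zero, comp_zero, sub_zero]
  exact ht₀

/-- The quotient step. -/
lemma goodCechExact_quotient {S : ShortComplex (Sheaf J AddCommGrpCat.{u})} (hS : S.ShortExact)
    (h₁ : GoodCechExact G S.X₁) (h₂ : GoodCechExact G S.X₂) : GoodCechExact G S.X₃ := by
  intro K' K f hf hK' hK q x hx
  haveI := hS.mono_f
  haveI : Subsingleton (Abelian.Ext ((nerveCx f).X (q + 1)) S.X₁ 1) :=
    subsingleton_ext_one_of_goodCechExact G h₁ (good_nerve G f hK' hK (q + 1))
  obtain ⟨x', rfl⟩ := exists_lift_of_subsingleton_ext_one hS x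
  have hw : ((nerveCx f).d (q + 2) (q + 1) ≫ x') ≫ S.g = 0 := by rw [Category.assoc, hx]
  obtain ⟨v, hv⟩ := h₁ K' K f hf hK' hK (q + 1) (hS.exact.lift _ hw) (by
    rw [← cancel_mono S.f, Category.assoc, hS.exact.lift_f, ← Category.assoc,
      HomologicalComplex.d_comp_d, zero_comp, zero_comp])
  obtain ⟨y, hy⟩ := h₂ K' K f hf hK' hK q (x' - v ≫ S.f) (by
    rw [Preadditive.comp_sub, ← Category.assoc _ v, hv, hS.exact.lift_f, sub_self])
  refine ⟨y ≫ S.g, ?_⟩
  rw [← Category.assoc, hy, Preadditive.sub_comp, Category.assoc, S.zero, comp_zero, sub_zero]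

/-- The Cartan criterion on a good class. -/
theorem subsingleton_HK_of_goodCechExact {F : Sheaf J AddCommGrpCat.{u}} (h : GoodCechExact G F)
    {K : Sheaf J (Type u)} (hK : G.P K) (p : ℕ) : Subsingleton (CohCx.HK K F (p + 1)) := by
  induction p generalizing F K with
  | zero => exact subsingleton_ext_one_of_goodCechExact G h hK
  | succ p ih =>
    have hS := injSC_shortExact F
    haveI : Subsingleton (Abelian.Ext ((Z J).obj K) (injSC F).X₂ (p + 1 + 1)) :=
      subsingleton_ext_injective _ (Injective.under F) _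
    haveI : Subsingleton (Abelian.Ext ((Z J).obj K) (injSC F).X₃ (p + 1)) :=
      ih (F := (injSC F).X₃) (goodCechExact_quotient G hS h
        (fun K' L g hg _ _ q => allCechExact_of_injective (Injective.under F) K' L g hg q)) hK
    exact subsingleton_ext_of_shift hS (X := (Z J).obj K) (n := p + 1)

variable {Λ : Type u} [SmallCategory Λ] [IsFiltered Λ]

include G in
/-- Filtered colimits of injective sheaves are Čech exact on the class. -/
theorem goodCechExact_colimit (I : Λ ⥤ Sheaf J AddCommGrpCat.{u}) (hI : ∀ i, Injective (I.obj i)) :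
    GoodCechExact G (colimit I) := by
  intro K' K f hf hK' hK q x hx
  obtain ⟨i, s, rfl⟩ := exists_lift_Z G.qcGen (G.coherent (good_nerve G f hK' hK (q + 1))) I x
  obtain ⟨j, φ, hj⟩ := eq_zero_at_Z (G.coherent (good_nerve G f hK' hK (q + 2))).1 I i
    ((nerveCx f).d (q + 2) (q + 1) ≫ s) ((Category.assoc _ _ _).trans hx)
  haveI := hI j
  obtain ⟨y, hy⟩ := allCechExact_of_injective (I.obj j) K' K f hf q (s ≫ I.map φ)
    ((Category.assoc _ _ _).symm.trans hj)
  refine ⟨y ≫ colimit.ι I j, ?_⟩
  rw [← Category.assoc, hy, Category.assoc, colimit.w]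
  rfl

include G in
/-- Cohomology with respect to an object of the class commutes with filtered colimits. -/
theorem extComm_Z {K : Sheaf J (Type u)} (hK : G.P K) (Λ : Type u) [SmallCategory Λ] [IsFiltered Λ] (q : ℕ) :
    FiltExtLib.ExtComm ((Z J).obj K) Λ q :=
  FiltExtLib.extComm_of_acyclic (fun D t => exists_lift_Z G.qcGen (G.coherent hK) D t)
    (fun D i s h => eq_zero_at_Z (G.coherent hK).1 D i s h)
    (fun p I hI => subsingleton_HK_of_goodCechExact G (goodCechExact_colimit G I hI) hK p) q

end CohLib
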