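/-
Good classes of coherent objects in algebraic and in locally coherent topoi.
-/
import Groth.Agent.CohLib.GoodCech
import Groth.Agent.ToposFinLib.FPPres

set_option autoImplicit false
set_option linter.style.haveILetI false
set_option linter.deprecated false

universe u

open CategoryTheory CategoryTheory.Limits Opposite ToposFin ToposFinLib

namespace CohLib

variable {C : Type u} [SmallCategory C] {J : GrothendieckTopology C}

/-- Finite covers by members of a generating set. -/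
lemma exists_finite_sigma_cover {S : Set (Sh J)} (hgen : IsGenerating S) {L T : Sheaf J (Type u)} (g : T ⟶ L)
    [Epi g] (hL : IsQC L) :
    ∃ (ι : Type u) (_ : Finite ι) (F : ι → Sh J) (m : (∐ F) ⟶ T), (∀ i, F i ∈ S) ∧ Epi (m ≫ g) := by
  obtain ⟨ι, F, π, hF, hπ⟩ := hgen T
  obtain ⟨s, hs⟩ := (ToposFinLib.isQC_iff L).1 hL ι F (fun i => π i ≫ g) (EF.comp hπ g)
  refine ⟨s, inferInstance, fun i => F i, Sigma.desc fun i : s => π i, fun i => hF i.1, ?_⟩
  rw [show (Sigma.desc fun i : s => π i) ≫ g = Sigma.desc fun i : s => π i ≫ g from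
    Sigma.hom_ext _ _ fun i => by simp [Sigma.ι_desc, Sigma.ι_desc_assoc]]
  exact (ToposFinLib.epi_desc_iff _).2 hs

/-- Coherent objects of an algebraic topos. -/
theorem nonempty_goodClass_algebraic (hE : IsAlgebraic J) :
    ∃ G : GoodClass J, ∀ L, IsCoherent L → G.P L := by
  obtain ⟨S, hqc, hgen, hpb, -⟩ := id hE
  have hG := qcGen_of_generating hqc hgen
  refine ⟨{ P := fun L => IsCoherent L, qcGen := hG, coherent := id, of_iso := fun e h => isCoherent_of_iso e h,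
            cover := ?_, pullback := ?_ }, fun L h => h⟩
  · intro L T g _ hL
    obtain ⟨ι, _, F, m, hF, hm⟩ := exists_finite_sigma_cover hgen g hL.1
    exact ⟨∐ F, m, isCoherent_sigma hG F fun i => ⟨hqc _ (hF i), isQS_of_closedPullbacks hqc hgen hpb (hF i)⟩, hm⟩
  · intro A B L a b hA hB hL
    exact ⟨hL.2 _ _ a b hA.1 hB.1, IsQS.of_hom (pullback.fst a b)
      (IsQSHom.of_isPullback (IsPullback.of_hasPullback a b).flip (isQSHom_of_isQS_of_algebraic hE b hB.2)) hA.2⟩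

/-- Coherent objects over the members of a generating set stable under fibre products. -/
theorem nonempty_goodClass_generators {S : Set (Sh J)} (hqc : ∀ K ∈ S, IsQC K) (hgen : IsGenerating S)
    (hpb : ClosedUnderPullbacks S) : ∃ G : GoodClass J, ∀ K ∈ S, G.P K := by
  have hG := qcGen_of_generating hqc hgen
  have hcoh : ∀ K ∈ S, IsCoherent K := fun K hK => ⟨hqc K hK, isQS_of_closedPullbacks hqc hgen hpb hK⟩
  have hom : ∀ {L K : Sh J} (w : L ⟶ K), IsQS L → K ∈ S → IsQSHom w := fun {L K} w hL hK => by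
    obtain ⟨ι, F, π, hF, hπ⟩ := hgen L
    refine isQSHom_of_qs_products hG w hπ (fun i => hqc _ (hF i)) (fun i j => ?_) hL
    obtain ⟨P, p, q, hP, hsq⟩ := hpb (π i ≫ w) (π j ≫ w) (hF i) (hF j) hK
    exact isQS_of_iso hsq.isoPullback (hcoh P hP).2
  refine ⟨{ P := fun L => IsCoherent L ∧ ∃ K ∈ S, Nonempty (L ⟶ K), qcGen := hG, coherent := fun h => h.1,
            of_iso := fun e ⟨h, K, hK, ⟨w⟩⟩ => ⟨isCoherent_of_iso e h, K, hK, ⟨e.inv ≫ w⟩⟩,
            cover := ?_, pullback := ?_ }, fun K hK => ⟨hcoh K hK, K, hK, ⟨𝟙 K⟩⟩⟩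
  · rintro L T g _ ⟨hL, K, hK, ⟨w⟩⟩
    obtain ⟨ι, _, F, m, hF, hm⟩ := exists_finite_sigma_cover hgen g hL.1
    exact ⟨∐ F, m, ⟨isCoherent_sigma hG F fun i => hcoh _ (hF i), K, hK, ⟨m ≫ g ≫ w⟩⟩, hm⟩
  · rintro A B L a b ⟨hA, KA, hKA, ⟨wA⟩⟩ ⟨hB, -⟩ ⟨hL, K, hK, ⟨w⟩⟩
    refine ⟨⟨hL.2 _ _ a b hA.1 hB.1, IsQS.of_hom (pullback.fst a b) (IsQSHom.of_isPullback
      (IsPullback.of_hasPullback a b).flip (IsQSHom.of_comp b w (hom _ hB.2 hK))) hA.2⟩, KA, hKA, ⟨pullback.fst a b ≫ wA⟩⟩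

end CohLib
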