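import Groth.Agent.CohLib.Supp

/-!
# The Leray spectral sequence with supports
-/

universe u

set_option linter.style.haveILetI false

open CategoryTheory CategoryTheory.Limits Opposite CategoryTheory.Abelian TopologicalSpace
open QCohLib (zsh zmap zEquiv zEquiv_comp zEquiv_zmap)

namespace CohLib

variable {X Y : TopCat.{u}}

/-- Flasque sheaves have no higher cohomology with supports. -/
theorem subsingleton_ext_zq_of_isFlasque {W V : Opens X} (h : W ≤ V) (G : CohTop.Ab X)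
    [TopCat.Sheaf.IsFlasque (G : TopCat.Sheaf AddCommGrpCat X)] (q : ℕ) :
    Subsingleton (Ext.{u} (LocCohZ.zq h) G (q + 1)) := by
  have hS := LocCohZ.zqSeq_shortExact h
  refine subsingleton_of_forall_eq 0 fun x => ?_
  haveI : Subsingleton (Ext.{u} (LocCohZ.zqSeq h).X₂ G (q + 1)) :=
    QCohLib.subsingleton_of_isFlasque q G V
  obtain ⟨x₁, rfl⟩ := Ext.contravariant_sequence_exact₃ hS G x (Subsingleton.elim _ _)
    (n₀ := q) (by omega)
  cases q with
  | zero =>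
    obtain ⟨φ, rfl⟩ := Ext.addEquiv₀.symm.surjective x₁
    obtain ⟨s, hs⟩ := (AddCommGrpCat.epi_iff_surjective (G.obj.map (homOfLE h).op)).1
      (TopCat.Presheaf.IsFlasque.epi _) (zEquiv φ)
    have hφ : φ = zmap (homOfLE h) ≫ zEquiv.symm s := by
      apply zEquiv.injective
      rw [zEquiv_zmap, AddEquiv.apply_symm_apply]
      exact hs.symm
    have e : Ext.addEquiv₀.symm φ = (Ext.mk₀ (LocCohZ.zqSeq h).f).comp
        (Ext.mk₀ (show (LocCohZ.zqSeq h).X₂ ⟶ G from zEquiv.symm s)) (zero_add 0) := by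
      rw [Ext.mk₀_comp_mk₀]
      exact congrArg Ext.mk₀ hφ
    rw [e, ← Ext.comp_assoc_of_second_deg_zero, hS.extClass_comp, Ext.zero_comp]
    rfl
  | succ q =>
    haveI : Subsingleton (Ext.{u} (LocCohZ.zqSeq h).X₁ G (q + 1)) :=
      QCohLib.subsingleton_of_isFlasque q G W
    rw [Subsingleton.elim x₁ 0, Ext.comp_zero]
    rfl

/-- Maps out of `ℤ_V/ℤ_W` are the sections over `V` vanishing on `W`. -/
noncomputable def zqHom (G : CohTop.Ab X) {W V : Opens X} (h : W ≤ V) :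
    (LocCohZ.zq h ⟶ G) ≃+ LocCohZ.sectZ G h :=
  Ext.addEquiv₀.symm.trans (LocCohZ.sect0Equiv G h)

lemma zqHom_coe (G : CohTop.Ab X) {W V : Opens X} (h : W ≤ V) (x : LocCohZ.zq h ⟶ G) :
    (zqHom G h x).1 = CohFree.evalGen (Opens.grothendieckTopology X) V G
      (cokernel.π (CohCx.freeSheafMap (Opens.grothendieckTopology X) (homOfLE h)) ≫ x) := by
  change CohFree.evalGen _ _ _ (_ ≫ Ext.addEquiv₀ (Ext.addEquiv₀.symm x)) = _
  rw [AddEquiv.apply_symm_apply]

lemma zqHom_comp {G G' : CohTop.Ab X} (φ : G ⟶ G') {W V : Opens X} (h : W ≤ V)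
    (x : LocCohZ.zq h ⟶ G) :
    (zqHom G' h (x ≫ φ)).1 = φ.hom.app (op V) (zqHom G h x).1 := by
  rw [zqHom_coe, zqHom_coe, ← Category.assoc]
  rfl

variable (f : X ⟶ Y) (V : Opens Y)

/-- Sections with supports of a direct image. -/
noncomputable def sectZPushEquiv (I : CohTop.Ab X) :
    LocCohZ.sectZ ((CohTop.push f).obj I) (le_top : V ≤ ⊤) ≃+
      LocCohZ.sectZ I (le_top : (Opens.map f).obj V ≤ ⊤) where
  toFun s := ⟨s.1, s.2⟩
  invFun s := ⟨s.1, s.2⟩
  left_inv _ := rfl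
  right_inv _ := rfl
  map_add' _ _ := rfl

/-- Maps out of `ℤ/ℤ_V` to a direct image are maps out of `ℤ/ℤ_{f⁻¹V}`. -/
noncomputable def zqPushEquiv (I : CohTop.Ab X) :
    (LocCohZ.zq (le_top : V ≤ ⊤) ⟶ (CohTop.push f).obj I) ≃+
      (LocCohZ.zq (le_top : (Opens.map f).obj V ≤ ⊤) ⟶ I) :=
  ((zqHom _ _).trans (sectZPushEquiv f V I)).trans (zqHom _ _).symm

lemma zqPushEquiv_comp {I J : CohTop.Ab X} (φ : I ⟶ J)
    (t : LocCohZ.zq (le_top : V ≤ ⊤) ⟶ (CohTop.push f).obj I) :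
    zqPushEquiv f V J (t ≫ (CohTop.push f).map φ) = zqPushEquiv f V I t ≫ φ := by
  apply (zqHom J (le_top : (Opens.map f).obj V ≤ ⊤)).injective
  apply Subtype.ext
  rw [zqHom_comp]
  simp only [zqPushEquiv, AddEquiv.trans_apply, AddEquiv.apply_symm_apply]
  exact zqHom_comp ((CohTop.push f).map φ) _ t

/-- The Leray spectral sequence with supports. -/
theorem exists_push_supp_spectralSequence (F : CohTop.Ab X) :
    ∃ (E : E₂CohomologicalSpectralSequence AddCommGrpCat.{u}) (a : SpSeq.Abutment E (fun n : ℤ =>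
        if 0 ≤ n then AddCommGrpCat.of (LocCohZ.HZc F n.toNat ((Opens.map f).obj V))
        else AddCommGrpCat.of PUnit.{u + 1})),
      (∀ n : ℤ, a.IsFinite n) ∧ SpSeq.IsBounded E ∧ ∀ p q : ℤ, Nonempty ((E.page 2 le_rfl).X (p, q) ≅
        (if 0 ≤ p ∧ 0 ≤ q then AddCommGrpCat.of (LocCohZ.HZc ((CohTop.Rpush f q.toNat).obj F) p.toNat V)
         else AddCommGrpCat.of PUnit.{u + 1})) := by
  letI := HasDerivedCategory.standard (CohTop.Ab Y)
  let Z := LocCohZ.zq (le_top : V ≤ ⊤)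
  let Z' := LocCohZ.zq (le_top : (Opens.map f).obj V ≤ ⊤)
  let T := CohTop.push f
  let R : InjectiveResolution F := injectiveResolution F
  obtain ⟨E, a, h₁, h₂, h₃, h₄⟩ := SpSeqLib.exists_grothendieck_spectralSequence
    (preadditiveCoyoneda.obj (op Z)) T
    (fun Q hQ q hq => by
      haveI := hQ
      obtain ⟨q, rfl⟩ := Nat.exists_eq_succ_of_ne_zero hq.ne'
      haveI := QCohLib.isFlasque_of_injective Q
      haveI : TopCat.Sheaf.IsFlasque ((CohTop.push f).obj Q : TopCat.Sheaf AddCommGrpCat Y) :=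
        TopCat.Presheaf.IsFlasque.pushforward_isFlasque (F := Q.obj) f
      haveI : Subsingleton (Ext Z (T.obj Q) (q + 1)) :=
        subsingleton_ext_zq_of_isFlasque _ _ q
      obtain ⟨i⟩ := nonempty_rightDerived_coyoneda_iso_ext Z (T.obj Q) (q + 1)
      exact (AddCommGrpCat.isZero_of_subsingleton _).of_iso i)
    F (fun n : ℤ => if 0 ≤ n then AddCommGrpCat.of (LocCohZ.HZc F n.toNat ((Opens.map f).obj V))
      else AddCommGrpCat.of PUnit.{u + 1})
    (fun n => by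
      obtain ⟨i⟩ := nonempty_homology_iso_ext_of_injective R
        (((T ⋙ preadditiveCoyoneda.obj (op Z)).mapHomologicalComplex _).obj R.cocomplex)
        (fun m => show (Z ⟶ T.obj (R.cocomplex.X m)) ≃+ (Z' ⟶ _) from zqPushEquiv f V (R.cocomplex.X m))
        (fun m x => zqPushEquiv_comp f V (R.cocomplex.d m (m + 1)) x) n
      exact ⟨eqToIso (if_pos (Int.natCast_nonneg n)) ≪≫ i.symm ≪≫
        (R.isoRightDerivedObj (T ⋙ preadditiveCoyoneda.obj (op Z)) n).symm⟩)
    (fun n hn => (AddCommGrpCat.isZero_of_subsingleton (AddCommGrpCat.of PUnit.{u + 1})).of_iso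
      (eqToIso (if_neg (by lia))))
  refine ⟨E, a, h₁, h₂, fun p q => ?_⟩
  by_cases hpq : 0 ≤ p ∧ 0 ≤ q
  · rw [if_pos hpq]
    obtain ⟨p, rfl⟩ := Int.eq_ofNat_of_zero_le hpq.1
    obtain ⟨q, rfl⟩ := Int.eq_ofNat_of_zero_le hpq.2
    obtain ⟨i⟩ := nonempty_rightDerived_coyoneda_iso_ext Z ((T.rightDerived q).obj F) p
    exact ⟨(h₃ p q).some ≪≫ i⟩
  · rw [if_neg hpq]
    exact ⟨(h₄ p q (by lia)).iso (AddCommGrpCat.isZero_of_subsingleton _)⟩

end CohLib
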