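import Groth.Agent.CohLib.CechPsh
import Mathlib.CategoryTheory.Sites.Types

/-!
# Čech vanishing criteria on a site with fibre products
-/

universe u

set_option linter.style.haveILetI false

open CategoryTheory CategoryTheory.Limits Opposite Simplicial AlgebraicTopology

namespace CohLib

variable {C : Type u} [SmallCategory C] {J : GrothendieckTopology C}

lemma exists_lift_freeOf {X : C} (E : FormalCoproduct.{u} (Over X)) {P Q : Cᵒᵖ ⥤ AddCommGrpCat.{u}}
    (g : P ⟶ Q) (h : ∀ i, Function.Surjective (g.app (op (E.obj i).left)))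
    (s : (freeOf X).obj E ⟶ Q) : ∃ t : (freeOf X).obj E ⟶ P, t ≫ g = s := by
  choose t ht using fun i => h i (s.app (op (E.obj i).left) (FreeAbelianGroup.of ⟨i, 𝟙 _⟩))
  obtain ⟨φ, hφ⟩ := (bijective_evalGen P E).2
    ((Concrete.productEquiv (fun i : E.I => P.obj (op (E.obj i).left))).symm t)
  refine ⟨φ, (bijective_evalGen Q E).1 (Concrete.limit_ext _ _ _ fun ⟨i⟩ => ?_)⟩
  refine (π_evalGen Q E _ i).trans (Eq.trans ?_ (π_evalGen Q E s i).symm)
  refine Eq.trans ?_ (ht i)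
  refine congrArg (g.app (op (E.obj i).left)) ?_
  refine (π_evalGen P E φ i).symm.trans ?_
  rw [hφ]
  exact Concrete.productEquiv_symm_apply_π _ t i

lemma freeOf_hom_ext {X : C} (E : FormalCoproduct.{u} (Over X)) {P : Cᵒᵖ ⥤ AddCommGrpCat.{u}}
    (φ ψ : (freeOf X).obj E ⟶ P)
    (h : ∀ i, φ.app (op (E.obj i).left) (FreeAbelianGroup.of ⟨i, 𝟙 _⟩) =
      ψ.app (op (E.obj i).left) (FreeAbelianGroup.of ⟨i, 𝟙 _⟩)) : φ = ψ :=
  (bijective_evalGen P E).1 (Concrete.limit_ext _ _ _ fun ⟨i⟩ =>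
    (π_evalGen P E φ i).trans ((h i).trans (π_evalGen P E ψ i).symm))

lemma exists_freeOf_desc {X : C} (P : Cᵒᵖ ⥤ AddCommGrpCat.{u}) (E : FormalCoproduct.{u} (Over X))
    (u : ∀ i, P.obj (op (E.obj i).left)) :
    ∃ φ : (freeOf X).obj E ⟶ P, ∀ i,
      φ.app (op (E.obj i).left) (FreeAbelianGroup.of ⟨i, 𝟙 _⟩) = u i := by
  obtain ⟨φ, hφ⟩ := (bijective_evalGen P E).2
    ((Concrete.productEquiv (fun i : E.I => P.obj (op (E.obj i).left))).symm u)
  refine ⟨φ, fun i => ?_⟩
  refine (π_evalGen P E φ i).symm.trans ?_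
  rw [hφ]
  exact Concrete.productEquiv_symm_apply_π _ u i

lemma injective_presheaf (I : Sheaf J AddCommGrpCat.{u}) [Injective I] : Injective I.obj :=
  Injective.injective_of_adjoint (sheafificationAdjunction J AddCommGrpCat.{u}) I

variable [HasPullbacks C]

theorem homExact_cechChain_injective {X : C} {ι : Type u} (Y : ι → Over X)
    (I : Sheaf J AddCommGrpCat.{u}) [Injective I] (q : ℕ) : HomExact (cechChain Y) I.obj q :=
  haveI := injective_presheaf I
  homExact_of_injective (cechChain Y) (cechChainε Y) I.obj q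

/-- The kernel of a morphism of sheaves is computed on presheaves. -/
lemma exists_presheaf_kernel_lift {S : ShortComplex (Sheaf J AddCommGrpCat.{u})} (hS : S.ShortExact)
    {P : Cᵒᵖ ⥤ AddCommGrpCat.{u}} (x : P ⟶ S.X₂.obj) (hx : x ≫ S.g.hom = 0) :
    ∃ y : P ⟶ S.X₁.obj, y ≫ S.f.hom = x := by
  haveI := hS.mono_f
  haveI : Mono (S.map (sheafToPresheaf J AddCommGrpCat.{u})).f :=
    (sheafToPresheaf J AddCommGrpCat.{u}).map_mono S.f
  have h : (S.map (sheafToPresheaf J AddCommGrpCat.{u})).Exact :=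
    hS.exact.map_of_mono_of_preservesKernel _ ‹Mono S.f› inferInstance
  exact ⟨h.lift x hx, h.lift_f x hx⟩

lemma mono_hom {F G : Sheaf J AddCommGrpCat.{u}} (φ : F ⟶ G) [Mono φ] : Mono φ.hom :=
  (sheafToPresheaf J AddCommGrpCat.{u}).map_mono φ

/-- The map out of the free presheaf on a sieve given by a section. -/
noncomputable def sieveSec (P : Cᵒᵖ ⥤ AddCommGrpCat.{u}) {U : C} (R : Sieve U)
    (s : P.obj (op U)) : R.functor ⋙ AddCommGrpCat.free.{u} ⟶ P :=
  (freePshEquiv _ _).symm (R.functorInclusion ≫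
    (yonedaEquiv (F := P ⋙ forget AddCommGrpCat.{u})).symm s)

lemma freePshEquiv_app (L : Cᵒᵖ ⥤ Type u) (P : Cᵒᵖ ⥤ AddCommGrpCat.{u})
    (φ : L ⋙ AddCommGrpCat.free.{u} ⟶ P) (V : Cᵒᵖ) (x : L.obj V) :
    (freePshEquiv L P φ).app V x = φ.app V (FreeAbelianGroup.of x) := rfl

lemma yonedaEquiv_symm_app (P : Cᵒᵖ ⥤ AddCommGrpCat.{u}) {U : C} (s : P.obj (op U)) (V : Cᵒᵖ)
    (g : (yoneda.obj U).obj V) :
    ((yonedaEquiv (F := P ⋙ forget AddCommGrpCat.{u})).symm s).app V g = P.map g.op s := rfl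

lemma sieveSec_of (P : Cᵒᵖ ⥤ AddCommGrpCat.{u}) {U : C} (R : Sieve U) (s : P.obj (op U))
    (V : Cᵒᵖ) (g : R.functor.obj V) :
    (sieveSec P R s).app V (FreeAbelianGroup.of g) = P.map g.1.op s := by
  rw [← freePshEquiv_app, sieveSec, Equiv.apply_symm_apply]
  exact yonedaEquiv_symm_app P s V g.1

/-- A compatible lift on a covering sieve gives a lift. -/
lemma exists_of_sieve_lift {S : ShortComplex (Sheaf J AddCommGrpCat.{u})} {U : C} (R : Sieve U)
    (hR : R ∈ J U) (s : S.X₃.obj.obj (op U)) (τ₀ : R.functor ⋙ AddCommGrpCat.free.{u} ⟶ S.X₂.obj)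
    (hτ₀ : τ₀ ≫ S.g.hom = sieveSec S.X₃.obj R s) : ∃ t, S.g.hom.app (op U) t = s := by
  let τ := freePshEquiv R.functor S.X₂.obj τ₀
  obtain ⟨G, hG, -⟩ := Presieve.isSheafFor_iff_yonedaSheafCondition.1
    ((isSheaf_iff_isSheaf_of_type J _).1
      ((sheafCompose J (forget AddCommGrpCat.{u})).obj S.X₂).property R hR) τ
  refine ⟨yonedaEquiv G, ((isSheaf_iff_isSheaf_of_type J _).1
    ((sheafCompose J (forget AddCommGrpCat.{u})).obj S.X₃).property R hR).isSeparatedFor.ext
      fun V g hg => ?_⟩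
  refine (NatTrans.naturality_apply S.g.hom g.op (yonedaEquiv G)).symm.trans ?_
  refine Eq.trans ?_ (sieveSec_of S.X₃.obj R s (op V) ⟨g, hg⟩)
  have e1 : S.X₂.obj.map g.op (yonedaEquiv G) = τ.app (op V) ⟨g, hg⟩ := by
    rw [← hG]
    exact ((yonedaEquiv_naturality G g).trans (by simp [yonedaEquiv]; rfl))
  rw [e1, freePshEquiv_app, ← hτ₀, NatTrans.comp_app, ConcreteCategory.comp_apply]

/-- The augmentation onto the free presheaf of the sieve. -/
noncomputable def cechAug {U : C} {ι : Type u} (Y : ι → Over U) :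
    (cechChain Y).X 0 ⟶ (famSieve Y).functor ⋙ AddCommGrpCat.free.{u} :=
  Functor.whiskerRight ((sieveNerve Y).hom.app (op ⦋0⦌)) AddCommGrpCat.free.{u}

lemma cechChainε_f_zero {U : C} {ι : Type u} (Y : ι → Over U) :
    (cechChainε Y).f 0 = cechAug Y :=
  (AlternatingFaceMapComplex.ε_app_f_zero _).trans (Category.comp_id _)

lemma d_comp_cechAug {U : C} {ι : Type u} (Y : ι → Over U) :
    (cechChain Y).d 1 0 ≫ cechAug Y = 0 := by
  rw [← cechChainε_f_zero]
  exact ((cechChainε Y).comm 1 0).symm.trans comp_zero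

lemma exact_cechAug {U : C} {ι : Type u} (Y : ι → Over U) :
    (ShortComplex.mk ((cechChain Y).d 1 0) (cechAug Y) (d_comp_cechAug Y)).Exact := by
  have h := (exact_and_epi_of_quasiIso (cechChain Y) (cechChainε Y)).1
  simp only [cechChainε_f_zero] at h
  exact h

instance epi_cechAug {U : C} {ι : Type u} (Y : ι → Over U) : Epi (cechAug Y) := by
  have h := (exact_and_epi_of_quasiIso (cechChain Y) (cechChainε Y)).2
  rwa [cechChainε_f_zero] at h

lemma cechAug_of {U : C} {ι : Type u} (Y : ι → Over U) (V : Cᵒᵖ)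
    (x : ((pshOf U).obj ((famCop Y).cech.obj (op ⦋0⦌))).obj V) :
    (cechAug Y).app V (FreeAbelianGroup.of x) =
      FreeAbelianGroup.of ((((sieveNerve Y).hom.app (op ⦋0⦌)).app V) x) :=
  FreeAbelianGroup.map_of_apply _

/-- Lifting the section to the vertices. -/
lemma exists_vertex_lift {S : ShortComplex (Sheaf J AddCommGrpCat.{u})} {U : C} {ι : Type u}
    (Y : ι → Over U) (s : S.X₃.obj.obj (op U))
    (t : ∀ i, S.X₂.obj.obj (op (Y i).left))
    (ht : ∀ i, S.g.hom.app (op (Y i).left) (t i) = S.X₃.obj.map (Y i).hom.op s) :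
    ∃ t₀ : (cechChain Y).X 0 ⟶ S.X₂.obj,
      t₀ ≫ S.g.hom = cechAug Y ≫ sieveSec S.X₃.obj (famSieve Y) s := by
  obtain ⟨φ, hφ⟩ := exists_freeOf_desc S.X₂.obj ((famCop Y).cech.obj (op ⦋0⦌)) (fun a =>
    S.X₂.obj.map (Pi.π (fun j => Y (a j)) 0).left.op (t (a 0)))
  refine ⟨φ, freeOf_hom_ext ((famCop Y).cech.obj (op ⦋0⦌)) _ _ fun a => ?_⟩
  rw [NatTrans.comp_app, ConcreteCategory.comp_apply, NatTrans.comp_app, ConcreteCategory.comp_apply]
  erw [hφ a, cechAug_of Y, sieveSec_of]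
  refine (NatTrans.naturality_apply S.g.hom _ (t (a 0))).trans ?_
  refine (congrArg (S.X₃.obj.map (Pi.π (fun j => Y (a j)) 0).left.op) (ht (a 0))).trans ?_
  refine (ConcreteCategory.congr_hom (S.X₃.obj.map_comp _ _) s).symm.trans ?_
  exact congrArg (fun k => S.X₃.obj.map k s) (congrArg Quiver.Hom.op
    ((Over.w (Pi.π (fun j => Y (a j)) 0)).trans (Category.id_comp _).symm))

/-- Sections lift along an epimorphism if a covering family on whose members they lift has
vanishing first Čech cohomology. -/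
theorem exists_lift_of_cech {S : ShortComplex (Sheaf J AddCommGrpCat.{u})} (hS : S.ShortExact)
    {U : C} {ι : Type u} (Y : ι → Over U) (hY : famSieve Y ∈ J U)
    (h : HomExact (cechChain Y) S.X₁.obj 0) (s : S.X₃.obj.obj (op U))
    (hs : ∀ i, ∃ t, S.g.hom.app (op (Y i).left) t = S.X₃.obj.map (Y i).hom.op s) :
    ∃ t, S.g.hom.app (op U) t = s := by
  haveI := hS.mono_f
  haveI := mono_hom S.f
  choose t ht using hs
  obtain ⟨t₀, ht₀⟩ := exists_vertex_lift Y s t ht
  obtain ⟨x, hx⟩ := exists_presheaf_kernel_lift hS ((cechChain Y).d 1 0 ≫ t₀) (by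
    rw [Category.assoc, ht₀, ← Category.assoc, d_comp_cechAug, zero_comp])
  obtain ⟨y, hy⟩ := h x (by
    rw [← cancel_mono S.f.hom, Category.assoc, hx, ← Category.assoc,
      HomologicalComplex.d_comp_d, zero_comp, zero_comp])
  haveI : Epi (ShortComplex.mk ((cechChain Y).d 1 0) (cechAug Y) (d_comp_cechAug Y)).g :=
    epi_cechAug Y
  have hz : (cechChain Y).d 1 0 ≫ (t₀ - y ≫ S.f.hom) = 0 := by
    rw [Preadditive.comp_sub, ← hx, ← hy, Category.assoc, sub_self]
  obtain ⟨τ₀, hτ₀⟩ : ∃ τ₀ : (famSieve Y).functor ⋙ AddCommGrpCat.free.{u} ⟶ S.X₂.obj,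
      cechAug Y ≫ τ₀ = t₀ - y ≫ S.f.hom :=
    ⟨(exact_cechAug Y).desc _ hz, (exact_cechAug Y).g_desc _ hz⟩
  refine exists_of_sieve_lift (famSieve Y) hY s τ₀ ?_
  have e0 : S.f.hom ≫ S.g.hom = 0 := congrArg (fun k => k.hom) S.zero
  rw [← cancel_epi (cechAug Y), ← Category.assoc, hτ₀, Preadditive.sub_comp, Category.assoc, e0,
    comp_zero, sub_zero]
  exact ht₀

/-- Čech exactness passes to the quotient when sections lift on the members of all the powers. -/
theorem homExact_cechChain_quotient {S : ShortComplex (Sheaf J AddCommGrpCat.{u})} (hS : S.ShortExact)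
    {U : C} {ι : Type u} (Y : ι → Over U) {q : ℕ}
    (hsurj : ∀ a : Fin (q + 2) → ι,
      Function.Surjective (S.g.hom.app (op (∏ᶜ fun k => Y (a k)).left)))
    (hF : HomExact (cechChain Y) S.X₁.obj (q + 1)) (hI : HomExact (cechChain Y) S.X₂.obj q) :
    HomExact (cechChain Y) S.X₃.obj q := by
  intro x hx
  haveI := hS.mono_f
  haveI := mono_hom S.f
  obtain ⟨x', rfl⟩ : ∃ x' : (cechChain Y).X (q + 1) ⟶ S.X₂.obj, x' ≫ S.g.hom = x :=
    exists_lift_freeOf ((famCop Y).cech.obj (op ⦋q + 1⦌)) S.g.hom hsurj x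
  obtain ⟨w, hw⟩ := exists_presheaf_kernel_lift hS ((cechChain Y).d (q + 2) (q + 1) ≫ x') (by
    rw [Category.assoc, hx])
  obtain ⟨v, hv⟩ := hF w (by
    rw [← cancel_mono S.f.hom, Category.assoc, hw, ← Category.assoc,
      HomologicalComplex.d_comp_d, zero_comp, zero_comp])
  obtain ⟨y, hy⟩ := hI (x' - v ≫ S.f.hom) (by
    rw [Preadditive.comp_sub, ← Category.assoc _ v, hv, hw, sub_self])
  refine ⟨y ≫ S.g.hom, ?_⟩
  have e0 : S.f.hom ≫ S.g.hom = 0 := congrArg (fun k => k.hom) S.zero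
  rw [← Category.assoc, hy, Preadditive.sub_comp, Category.assoc, e0, comp_zero, sub_zero]

/-- Cartan's criterion for a class of objects. -/
theorem subsingleton_HU_of_cech_collection (B : Set C)
    (Cov : ∀ (U : C) (ι : Type u), (ι → Over U) → Prop)
    (h1 : ∀ (U : C) (ι : Type u) (Y : ι → Over U), Cov U ι Y → U ∈ B ∧ famSieve Y ∈ J U ∧
      ∀ (p : ℕ) (a : Fin (p + 1) → ι), (∏ᶜ fun k => Y (a k)).left ∈ B)
    (h2 : ∀ U ∈ B, ∀ T ∈ J U, ∃ (ι : Type u) (Y : ι → Over U), Cov U ι Y ∧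
      ∀ i, T.arrows (Y i).hom)
    (U : C) (hU : U ∈ B) (p : ℕ) :
    ∀ F : Sheaf J AddCommGrpCat.{u}, (∀ (U : C) (ι : Type u) (Y : ι → Over U), Cov U ι Y →
      ∀ q, HomExact (cechChain Y) F.obj q) → Subsingleton (CohSite.HU F (p + 1) U) := by
  have key : ∀ F : Sheaf J AddCommGrpCat.{u}, (∀ (U : C) (ι : Type u) (Y : ι → Over U),
      Cov U ι Y → ∀ q, HomExact (cechChain Y) F.obj q) →
      ∀ V ∈ B, Function.Surjective ((injSC F).g.hom.app (op V)) := by
    intro F hF V hV s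
    haveI := (injSC_shortExact F).epi_g
    haveI : Sheaf.IsLocallySurjective (injSC F).g :=
      (Sheaf.isLocallySurjective_iff_epi' AddCommGrpCat.{u} (injSC F).g).2 inferInstance
    obtain ⟨ι, Y, hc, hT⟩ := h2 V hV _ (Presheaf.imageSieve_mem J (injSC F).g.hom (U := op V) s)
    exact exists_lift_of_cech (injSC_shortExact F) Y (h1 V ι Y hc).2.1 (hF V ι Y hc 0) s hT
  induction p with
  | zero =>
    intro F hF
    haveI : Subsingleton (CohSite.HU (injSC F).X₂ 1 U) :=
      subsingleton_ext_injective _ (Injective.under F) 0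
    exact subsingleton_HU_one_of_surjective (injSC_shortExact F) U (key F hF U hU)
  | succ p ih =>
    intro F hF
    let Xu := (presheafToSheaf J AddCommGrpCat.{u}).obj (yoneda.obj U ⋙ AddCommGrpCat.free.{u})
    haveI : Subsingleton (Abelian.Ext Xu (injSC F).X₂ (p + 1 + 1)) :=
      subsingleton_ext_injective _ (Injective.under F) _
    haveI : Subsingleton (Abelian.Ext Xu (injSC F).X₃ (p + 1)) :=
      ih _ fun V ι Y hc q => homExact_cechChain_quotient (injSC_shortExact F) Y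
        (fun a => key F hF _ ((h1 V ι Y hc).2.2 (q + 1) a)) (hF V ι Y hc (q + 1))
        (homExact_cechChain_injective Y (Injective.under F) q)
    exact subsingleton_ext_of_shift (injSC_shortExact F) (X := Xu) (n := p + 1)

end CohLib
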