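import Groth.Agent.CohLib.Leray
import Groth.Agent.SpSeqLib.CompExact

/-!
# Grothendieck spectral sequences for `Hom` functors
-/

universe u v v'

set_option linter.style.haveILetI false

open CategoryTheory CategoryTheory.Limits Opposite CategoryTheory.Abelian
open scoped ZeroObject

namespace CohLib

variable {A : Type v} [Category.{u} A] [Abelian A] [HasInjectiveResolutions A]
  {B : Type v'} [Category.{u} B] [Abelian B] [EnoughInjectives B] [HasInjectiveResolutions B]
  [HasExt.{u} B]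

/-- `Hom(Z, T -) ≅ Hom(P, -)` gives a spectral sequence of Ext groups. -/
theorem exists_hom_spectralSequence (T : A ⥤ B) [T.Additive] (Z : B)
    (hT : ∀ Q : A, Injective Q → ∀ q : ℕ, Subsingleton (Ext.{u} Z (T.obj Q) (q + 1))) (N : A)
    (H : ℤ → AddCommGrpCat.{u})
    (hH : ∀ n : ℕ, Nonempty (H n ≅ ((T ⋙ preadditiveCoyoneda.obj (op Z)).rightDerived n).obj N))
    (hH' : ∀ n : ℤ, n < 0 → IsZero (H n)) :
    ∃ (E : E₂CohomologicalSpectralSequence AddCommGrpCat.{u}) (a : SpSeq.Abutment E H),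
      (∀ n, a.IsFinite n) ∧ SpSeq.IsBounded E ∧
      (∀ p q : ℕ, Nonempty ((E.page 2 le_rfl).X ((p : ℤ), (q : ℤ)) ≅
        AddCommGrpCat.of (Ext.{u} Z ((T.rightDerived q).obj N) p))) ∧
      ∀ p q : ℤ, p < 0 ∨ q < 0 → IsZero ((E.page 2 le_rfl).X (p, q)) := by
  letI := HasDerivedCategory.standard B
  obtain ⟨E, a, h₁, h₂, h₃, h₄⟩ := SpSeqLib.exists_grothendieck_spectralSequence
    (preadditiveCoyoneda.obj (op Z)) T
    (fun Q hQ q hq => by
      obtain ⟨q, rfl⟩ := Nat.exists_eq_succ_of_ne_zero hq.ne'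
      haveI := hT Q hQ q
      obtain ⟨i⟩ := nonempty_rightDerived_coyoneda_iso_ext Z (T.obj Q) (q + 1)
      exact (AddCommGrpCat.isZero_of_subsingleton _).of_iso i)
    N H hH hH'
  exact ⟨E, a, h₁, h₂, fun p q =>
    ⟨(h₃ p q).some ≪≫ (nonempty_rightDerived_coyoneda_iso_ext Z ((T.rightDerived q).obj N) p).some⟩, h₄⟩

/-- The derived functors of a functor isomorphic to `Hom(P, -)`. -/
theorem nonempty_rightDerived_iso_ext [HasExt.{u} A] (F : A ⥤ AddCommGrpCat.{u}) [F.Additive] (P : A)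
    (e : ∀ R : A, F.obj R ≃+ (P ⟶ R))
    (he : ∀ {R R' : A} (g : R ⟶ R') (x : F.obj R), e R' (F.map g x) = e R x ≫ g) (N : A) (n : ℕ) :
    Nonempty ((F.rightDerived n).obj N ≅ AddCommGrpCat.of (Ext.{u} P N n)) := by
  let R : InjectiveResolution N := injectiveResolution N
  obtain ⟨i⟩ := nonempty_homology_iso_ext_of_injective R ((F.mapHomologicalComplex _).obj R.cocomplex)
    (fun m => e (R.cocomplex.X m)) (fun m x => he (R.cocomplex.d m (m + 1)) x) n
  exact ⟨R.isoRightDerivedObj F n ≪≫ i⟩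

/-- Derived functors of a composition with an exact functor. -/
theorem nonempty_rightDerived_comp_exact_iso {D : Type (u + 1)} [Category.{u} D] [Abelian D]
    (T : A ⥤ B) [T.Additive] (G : B ⥤ D) [G.Additive] [G.PreservesHomology] (N : A) (q : ℕ) :
    Nonempty (((T ⋙ G).rightDerived q).obj N ≅ G.obj ((T.rightDerived q).obj N)) := by
  let R : InjectiveResolution N := injectiveResolution N
  exact ⟨R.isoRightDerivedObj (T ⋙ G) q ≪≫
    (((T.mapHomologicalComplex _).obj R.cocomplex).sc q).mapHomologyIso G ≪≫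
    G.mapIso (R.isoRightDerivedObj T q).symm⟩

end CohLib
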