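import Groth.Agent.CohLib.SheafHom
import Groth.Agent.CohLib.ModNull

/-!
# Sections of the internal hom, with supports
-/

universe u

set_option linter.style.haveILetI false

open CategoryTheory CategoryTheory.Limits Opposite MonoidalCategory
open ModSiteLib (PMod aP jP adjP)

namespace CohLib

variable {C : Type u} [SmallCategory C] {J : GrothendieckTopology C} {O : Sheaf J CommRingCat.{u}}

instance subsingleton_terminal_obj (X : Cᵒᵖ) :
    Subsingleton ((⊤_ (Sheaf J (Type u))).obj.obj X) :=
  ((Types.isTerminalEquivUnique _) ((terminalIsTerminal.isTerminalObj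
    (sheafToPresheaf J (Type u))).isTerminalObj ((evaluation Cᵒᵖ (Type u)).obj X))).instSubsingleton

noncomputable instance inhabited_terminal_obj (X : Cᵒᵖ) :
    Inhabited ((⊤_ (Sheaf J (Type u))).obj.obj X) :=
  ((Types.isTerminalEquivUnique _) ((terminalIsTerminal.isTerminalObj
    (sheafToPresheaf J (Type u))).isTerminalObj ((evaluation Cᵒᵖ (Type u)).obj X))).toInhabited

/-- The constant presheaf `ℤ` is free on the final object. -/
noncomputable def constIsoFree :
    (Functor.const Cᵒᵖ).obj (AddCommGrpCat.of (ULift.{u} ℤ)) ≅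
      (⊤_ (Sheaf J (Type u))).obj ⋙ AddCommGrpCat.free :=
  NatIso.ofComponents
    (fun X => AddEquiv.toAddCommGrpIso (X := AddCommGrpCat.of (ULift.{u} ℤ))
      (Y := AddCommGrpCat.of (FreeAbelianGroup ((⊤_ (Sheaf J (Type u))).obj.obj X)))
      (haveI : Unique ((⊤_ (Sheaf J (Type u))).obj.obj X) :=
        ⟨inhabited_terminal_obj X, fun _ => Subsingleton.elim _ _⟩
       AddEquiv.ulift.trans (FreeAbelianGroup.uniqueEquiv _).symm))
    (fun {X X'} f => by
      apply AddCommGrpCat.hom_ext
      ext ⟨n⟩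
      change n • FreeAbelianGroup.of (default : (⊤_ (Sheaf J (Type u))).obj.obj X') =
        FreeAbelianGroup.map _ (n • FreeAbelianGroup.of (default : (⊤_ (Sheaf J (Type u))).obj.obj X))
      rw [map_zsmul, FreeAbelianGroup.map_of_apply]
      exact congrArg (fun t => n • FreeAbelianGroup.of t) (Subsingleton.elim _ _))

/-- The constant sheaf `ℤ` is free on the final object. -/
noncomputable def constIsoZ (J : GrothendieckTopology C) :
    (constantSheaf J AddCommGrpCat.{u}).obj (AddCommGrpCat.of (ULift.{u} ℤ)) ≅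
      (Z J).obj (⊤_ (Sheaf J (Type u))) :=
  (presheafToSheaf J _).mapIso constIsoFree

variable (M : ModSite.Mod O)

/-- The sheafified collapse `a(free L ⊗ M) ⟶ M`. -/
noncomputable def clpA (L : Sheaf J (Type u)) :
    (freeTensorP M ⋙ aP O).obj L.obj ⟶ M :=
  ((adjP O).homEquiv _ _).symm (clp L.obj ((jP O).obj M))

variable {M} in
lemma clpA_comp_eq_zero_iff (L : Sheaf J (Type u)) {R : ModSite.Mod O} (φ : M ⟶ R) :
    clpA M L ≫ φ = 0 ↔
      ∀ X : Cᵒᵖ, Nonempty (L.obj.obj X) → ∀ m : M.val.obj X, φ.val.app X m = 0 := by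
  refine Iff.trans ?_ (clp_comp_eq_zero_iff L.obj ((jP O).map φ))
  rw [← ((adjP O).homEquiv _ _).injective.eq_iff, Adjunction.homEquiv_naturality_right, clpA,
    Equiv.apply_symm_apply]
  have h0 : (adjP O).homEquiv ((freeTensorP M).obj L.obj) R 0 = 0 := by
    rw [Adjunction.homEquiv_unit]
    haveI := (adjP O).isLeftAdjoint
    haveI : (aP O).Additive := additive_of_isLeftAdjoint _
    haveI := (adjP O).right_adjoint_additive
    rw [Functor.map_zero, comp_zero]
  exact ⟨fun h => h.trans h0, fun h => h.trans h0.symm⟩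

lemma oneDesc_naturality {K K' : Cᵒᵖ ⥤ Type u} (g : K ⟶ K') :
    (freeP O).map g ≫ oneDesc O K' = oneDesc O K := by
  apply PresheafOfModules.free_hom_ext
  ext X x
  change (oneDesc O K').app X (((freeP O).map g).app X (ModuleCat.freeMk x)) =
    (oneDesc O K).app X (ModuleCat.freeMk x)
  erw [ModuleCat.free_map_apply, ModuleCat.freeDesc_apply, ModuleCat.freeDesc_apply]
  rfl

lemma clpA_naturality {L L' : Sheaf J (Type u)} (g : L ⟶ L') :
    (freeTensorP M ⋙ aP O).map g.hom ≫ clpA M L' = clpA M L := by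
  apply ((adjP O).homEquiv _ _).injective
  erw [Adjunction.homEquiv_naturality_left]
  rw [clpA, clpA, Equiv.apply_symm_apply, Equiv.apply_symm_apply]
  change (freeP O).map g.hom ▷ _ ≫ oneDesc O L'.obj ▷ _ ≫ _ = oneDesc O L.obj ▷ _ ≫ _
  rw [← comp_whiskerRight_assoc, oneDesc_naturality]

instance isIso_clp_terminal (G : PMod O) : IsIso (clp (⊤_ (Sheaf J (Type u))).obj G) := by
  haveI : ∀ X, IsIso ((clp (⊤_ (Sheaf J (Type u))).obj G).app X) := by
    intro X
    let x : (⊤_ (Sheaf J (Type u))).obj.obj X := default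
    have hs : ∀ t : ((PresheafOfModules.free _).obj (⊤_ (Sheaf J (Type u))).obj ⊗ G).obj X,
        ∃ m : G.obj X, t = ModuleCat.freeMk x ⊗ₜ[O.obj.obj X] m := fun t => by
      refine TensorProduct.induction_on t ⟨0, (TensorProduct.tmul_zero _ _).symm⟩ (fun a b => ?_)
        (fun a b ⟨m, hm⟩ ⟨m', hm'⟩ => ⟨m + m',
          (congrArg₂ (· + ·) hm hm').trans (TensorProduct.tmul_add _ _ _).symm⟩)
      let r : O.obj.obj X := (show _ →₀ O.obj.obj X from a) x
      refine ⟨r • b, ?_⟩
      have ha : a = r • (ModuleCat.freeMk x) := by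
        apply Finsupp.ext
        intro y
        rw [Subsingleton.elim y x]
        change r = (r • Finsupp.single x (1 : O.obj.obj X)) x
        simp
      rw [ha]
      let mk := TensorProduct.mk (O.obj.obj X)
        (((PresheafOfModules.free (O.obj ⋙ forget₂ CommRingCat.{u} RingCat.{u})).obj
          (⊤_ (Sheaf J (Type u))).obj).obj X) (G.obj X)
      exact (mk.map_smul₂ r (ModuleCat.freeMk x) b).trans ((mk (ModuleCat.freeMk x)).map_smul r b).symm
    rw [ConcreteCategory.isIso_iff_bijective]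
    refine ⟨fun t t' h => ?_, fun m => ⟨_, clp_app_tmul _ G X x m⟩⟩
    obtain ⟨m, rfl⟩ := hs t
    obtain ⟨m', rfl⟩ := hs t'
    have := ((clp_app_tmul _ G X x m).symm.trans h).trans (clp_app_tmul _ G X x m')
    rw [this]
  haveI : IsIso ((PresheafOfModules.toPresheaf _).map (clp (⊤_ (Sheaf J (Type u))).obj G)) := by
    haveI : ∀ X, IsIso (((PresheafOfModules.toPresheaf _).map
        (clp (⊤_ (Sheaf J (Type u))).obj G)).app X) := fun X =>
      inferInstanceAs (IsIso ((forget₂ _ AddCommGrpCat.{u}).map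
        ((clp (⊤_ (Sheaf J (Type u))).obj G).app X)))
    exact NatIso.isIso_of_isIso_app _
  exact isIso_of_reflects_iso _ (PresheafOfModules.toPresheaf _)

instance isIso_clpA_terminal : IsIso (clpA M (⊤_ (Sheaf J (Type u)))) := by
  rw [clpA, Adjunction.homEquiv_counit]
  haveI := isIso_clp_terminal (J := J) ((jP O).obj M)
  infer_instance

variable [ModSite.HasSheafHom M]

/-- Maps from a free abelian sheaf to the internal hom. -/
noncomputable def homSectEquiv (L : Sheaf J (Type u)) (R : ModSite.Mod O) :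
    ((Z J).obj L ⟶ ModSite.toAb ((ModSite.sheafHom M).obj R)) ≃+
      ((freeTensorP M ⋙ aP O).obj L.obj ⟶ R) :=
  haveI : ((ModSite.tensorBi O).flip.obj M).Additive := additive_of_isLeftAdjoint _
  (AddEquiv.ofBijective
    (AddMonoidHom.mk' (fun y : (freeMod O).obj L ⟶ (ModSite.sheafHom M).obj R =>
      (toFreeMod O).app L ≫ (SheafOfModules.toSheaf (ModSite.ringSh O)).map y)
      (fun y y' => (congrArg (_ ≫ ·) ((SheafOfModules.toSheaf (ModSite.ringSh O)).map_add)).trans
        (Preadditive.comp_add _ _ _ _ _ _)))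
    (toFreeMod_bijective O L _)).symm.trans
  (AddEquiv.mk' (((ModSite.sheafHomAdj M).homEquiv _ _).symm.trans
      ((freeModTensorIso M).app L).homFromEquiv)
    (fun a b => by
      change _ ≫ ((ModSite.sheafHomAdj M).homEquiv _ _).symm (a + b) =
        _ ≫ ((ModSite.sheafHomAdj M).homEquiv _ _).symm a + _ ≫ ((ModSite.sheafHomAdj M).homEquiv _ _).symm b
      simp only [Adjunction.homEquiv_counit, Functor.map_add, Preadditive.add_comp, Preadditive.comp_add]))

lemma homSectEquiv_symm_apply (L : Sheaf J (Type u)) (R : ModSite.Mod O)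
    (v : (freeTensorP M ⋙ aP O).obj L.obj ⟶ R) :
    (homSectEquiv M L R).symm v = (toFreeMod O).app L ≫ (SheafOfModules.toSheaf (ModSite.ringSh O)).map
      ((ModSite.sheafHomAdj M).homEquiv _ _ (((freeModTensorIso M).app L).hom ≫ v)) := rfl

lemma homSectEquiv_naturality_left {L L' : Sheaf J (Type u)} (g : L ⟶ L') (R : ModSite.Mod O)
    (y : (Z J).obj L' ⟶ ModSite.toAb ((ModSite.sheafHom M).obj R)) :
    homSectEquiv M L R ((Z J).map g ≫ y) =
      (freeTensorP M ⋙ aP O).map g.hom ≫ homSectEquiv M L' R y := by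
  obtain ⟨v, rfl⟩ := (homSectEquiv M L' R).symm.surjective y
  rw [AddEquiv.apply_symm_apply]
  apply (homSectEquiv M L R).symm.injective
  rw [AddEquiv.symm_apply_apply, homSectEquiv_symm_apply, homSectEquiv_symm_apply]
  refine (Category.assoc _ _ _).symm.trans ((congrArg (· ≫ _) ((toFreeMod O).naturality g)).trans
    ((Category.assoc _ _ _).trans (congrArg (_ ≫ ·) ?_)))
  refine ((SheafOfModules.toSheaf (ModSite.ringSh O)).map_comp _ _).symm.trans (congrArg _ ?_)
  refine ((ModSite.sheafHomAdj M).homEquiv_naturality_left _ _).symm.trans (congrArg _ ?_)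
  exact (Category.assoc _ _ _).symm.trans ((congrArg (· ≫ v) ((freeModTensorIso M).hom.naturality g)).trans
    (Category.assoc _ _ _))

lemma homSectEquiv_naturality_right (L : Sheaf J (Type u)) {R R' : ModSite.Mod O} (h : R ⟶ R')
    (y : (Z J).obj L ⟶ ModSite.toAb ((ModSite.sheafHom M).obj R)) :
    homSectEquiv M L R' (y ≫ (SheafOfModules.toSheaf (ModSite.ringSh O)).map ((ModSite.sheafHom M).map h)) =
      homSectEquiv M L R y ≫ h := by
  obtain ⟨v, rfl⟩ := (homSectEquiv M L R).symm.surjective y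
  rw [AddEquiv.apply_symm_apply]
  apply (homSectEquiv M L R').symm.injective
  rw [AddEquiv.symm_apply_apply, homSectEquiv_symm_apply, homSectEquiv_symm_apply]
  refine (Category.assoc _ _ _).trans (congrArg (_ ≫ ·) ?_)
  refine ((SheafOfModules.toSheaf (ModSite.ringSh O)).map_comp _ _).symm.trans (congrArg _ ?_)
  exact ((ModSite.sheafHomAdj M).homEquiv_naturality_right _ _).symm.trans
    (congrArg _ (Category.assoc _ _ _))

/-- Global sections of the internal hom. -/
noncomputable def globalHomEquiv (R : ModSite.Mod O) :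
    ((Z J).obj (⊤_ (Sheaf J (Type u))) ⟶ ModSite.toAb ((ModSite.sheafHom M).obj R)) ≃+ (M ⟶ R) :=
  (homSectEquiv M _ R).trans
    { toFun v := inv (clpA M (⊤_ (Sheaf J (Type u)))) ≫ v
      invFun φ := clpA M (⊤_ (Sheaf J (Type u))) ≫ φ
      left_inv := fun v => IsIso.hom_inv_id_assoc _ _
      right_inv := fun φ => IsIso.inv_hom_id_assoc _ _
      map_add' := fun _ _ => Preadditive.comp_add _ _ _ _ _ _ }

lemma globalHomEquiv_apply (R : ModSite.Mod O)
    (y : (Z J).obj (⊤_ (Sheaf J (Type u))) ⟶ ModSite.toAb ((ModSite.sheafHom M).obj R)) :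
    globalHomEquiv M R y = inv (clpA M (⊤_ (Sheaf J (Type u)))) ≫ homSectEquiv M _ R y := rfl

lemma clpA_comp_globalHomEquiv (R : ModSite.Mod O)
    (y : (Z J).obj (⊤_ (Sheaf J (Type u))) ⟶ ModSite.toAb ((ModSite.sheafHom M).obj R)) :
    clpA M _ ≫ globalHomEquiv M R y = homSectEquiv M _ R y :=
  IsIso.hom_inv_id_assoc _ _

lemma globalHomEquiv_naturality {R R' : ModSite.Mod O} (h : R ⟶ R')
    (y : (Z J).obj (⊤_ (Sheaf J (Type u))) ⟶ ModSite.toAb ((ModSite.sheafHom M).obj R)) :
    globalHomEquiv M R' (y ≫ (SheafOfModules.toSheaf (ModSite.ringSh O)).map ((ModSite.sheafHom M).map h)) =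
      globalHomEquiv M R y ≫ h := by
  rw [globalHomEquiv_apply, globalHomEquiv_apply]
  rw [homSectEquiv_naturality_right, Category.assoc]

/-- A section vanishes on `L` iff the map vanishes over every object on which `L` has a section. -/
lemma map_comp_eq_zero_iff {L : Sheaf J (Type u)} (g : L ⟶ ⊤_ (Sheaf J (Type u))) (R : ModSite.Mod O)
    (y : (Z J).obj (⊤_ (Sheaf J (Type u))) ⟶ ModSite.toAb ((ModSite.sheafHom M).obj R)) :
    (Z J).map g ≫ y = 0 ↔
      ∀ X : Cᵒᵖ, Nonempty (L.obj.obj X) → ∀ m : M.val.obj X, (globalHomEquiv M R y).val.app X m = 0 := by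
  rw [← clpA_comp_eq_zero_iff L (globalHomEquiv M R y), ← (homSectEquiv M L R).map_eq_zero_iff,
    homSectEquiv_naturality_left, ← clpA_comp_globalHomEquiv, ← Category.assoc, clpA_naturality]

end CohLib
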