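import Groth.Agent.CohLib.CohPresheaf

/-!
# The spectral sequence from presheaf cohomology to sheaf cohomology
-/

universe u v

set_option linter.style.haveILetI false

open CategoryTheory CategoryTheory.Limits Opposite CategoryTheory.Abelian

namespace CohLib

/-- Ext is invariant under isomorphisms of the source. -/
noncomputable def extIsoOfIso {A : Type v} [Category.{u} A] [Abelian A] [HasExt.{u} A] {X Y : A}
    (e : X ≅ Y) (F : A) (n : ℕ) :
    AddCommGrpCat.of (Ext.{u} X F n) ≅ AddCommGrpCat.of (Ext.{u} Y F n) :=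
  ((extFunctor n).mapIso e.op.symm).app F

variable {C : Type u} [SmallCategory C] (J : GrothendieckTopology C)

instance : HasInjectiveResolutions (Sheaf (⊥ : GrothendieckTopology C) AddCommGrpCat.{u}) :=
  inferInstance

theorem nonempty_rightDerived_botIncl_iso (M : Sheaf J AddCommGrpCat.{u}) (q : ℕ) :
    Nonempty (((botIncl J).rightDerived q).obj M ≅
      (⟨M.cohomologyPresheaf q, Presheaf.isSheaf_bot _⟩ :
        Sheaf (⊥ : GrothendieckTopology C) AddCommGrpCat.{u})) := by
  let R : InjectiveResolution M := injectiveResolution M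
  obtain ⟨i⟩ := nonempty_secCx_homology_iso R q
  haveI : PreservesLimitsOfSize.{0, 0} (sheafToPresheaf (⊥ : GrothendieckTopology C) AddCommGrpCat.{u}) :=
    (sheafificationAdjunction _ _).rightAdjoint_preservesLimits
  haveI : (sheafToPresheaf (⊥ : GrothendieckTopology C) AddCommGrpCat.{u}).EssSurj :=
    ⟨fun P => ⟨⟨P, Presheaf.isSheaf_bot P⟩, ⟨Iso.refl _⟩⟩⟩
  haveI : (sheafToPresheaf (⊥ : GrothendieckTopology C) AddCommGrpCat.{u}).IsEquivalence := { }
  exact ⟨R.isoRightDerivedObj (botIncl J) q ≪≫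
    (fullyFaithfulSheafToPresheaf (⊥ : GrothendieckTopology C) AddCommGrpCat.{u}).preimageIso
      (X := (((botIncl J).mapHomologicalComplex _).obj R.cocomplex).homology q)
      (Y := ⟨M.cohomologyPresheaf q, Presheaf.isSheaf_bot _⟩)
      ((((((botIncl J).mapHomologicalComplex _).obj R.cocomplex).sc q).mapHomologyIso
        (sheafToPresheaf (⊥ : GrothendieckTopology C) AddCommGrpCat.{u})).symm ≪≫ i)⟩

/-- The spectral sequence from presheaf cohomology to sheaf cohomology. -/
theorem exists_presheaf_spectralSequence (P : Cᵒᵖ ⥤ AddCommGrpCat.{u}) (M : Sheaf J AddCommGrpCat.{u})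
    (H : ℤ → AddCommGrpCat.{u})
    (hH : ∀ n : ℕ, Nonempty (H n ≅
      AddCommGrpCat.of (Ext.{u} ((presheafToSheaf J AddCommGrpCat.{u}).obj P) M n)))
    (hH' : ∀ n : ℤ, n < 0 → IsZero (H n)) :
    ∃ (E : E₂CohomologicalSpectralSequence AddCommGrpCat.{u}) (a : SpSeq.Abutment E H),
      (∀ n, a.IsFinite n) ∧ SpSeq.IsBounded E ∧
      (∀ p q : ℕ, Nonempty ((E.page 2 le_rfl).X ((p : ℤ), (q : ℤ)) ≅
        AddCommGrpCat.of (Ext.{u} ((presheafToSheaf (⊥ : GrothendieckTopology C) AddCommGrpCat.{u}).obj P)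
          (⟨M.cohomologyPresheaf q, Presheaf.isSheaf_bot _⟩ :
            Sheaf (⊥ : GrothendieckTopology C) AddCommGrpCat.{u}) p))) ∧
      ∀ p q : ℤ, p < 0 ∨ q < 0 → IsZero ((E.page 2 le_rfl).X (p, q)) := by
  letI := HasDerivedCategory.standard (Sheaf (⊥ : GrothendieckTopology C) AddCommGrpCat.{u})
  let Z := (presheafToSheaf (⊥ : GrothendieckTopology C) AddCommGrpCat.{u}).obj P
  let adj := sheafificationAdjunction J AddCommGrpCat.{u}
  let adj' := sheafificationAdjunction (⊥ : GrothendieckTopology C) AddCommGrpCat.{u}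
  haveI : (presheafToSheaf J AddCommGrpCat.{u}).Additive := adj.left_adjoint_additive
  haveI : (presheafToSheaf (⊥ : GrothendieckTopology C) AddCommGrpCat.{u}).Additive :=
    adj'.left_adjoint_additive
  let R : InjectiveResolution M := injectiveResolution M
  obtain ⟨E, a, h₁, h₂, h₃, h₄⟩ := SpSeqLib.exists_grothendieck_spectralSequence
    (preadditiveCoyoneda.obj (op Z)) (botIncl J)
    (fun Q hQ q hq => by
      haveI := hQ
      haveI := injective_botIncl (J := J) Q
      obtain ⟨q, rfl⟩ := Nat.exists_eq_succ_of_ne_zero hq.ne'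
      exact Functor.isZero_rightDerived_obj_injective_succ _ q _)
    M H (fun n => by
      obtain ⟨i⟩ := nonempty_homology_iso_ext_of_injective R
        (((botIncl J ⋙ preadditiveCoyoneda.obj (op Z)).mapHomologicalComplex _).obj R.cocomplex)
        (X := (presheafToSheaf J AddCommGrpCat.{u}).obj P)
        (fun m => show (Z ⟶ (botIncl J).obj (R.cocomplex.X m)) ≃+ _ from
          (adj'.homAddEquiv P ((botIncl J).obj (R.cocomplex.X m))).trans
            (adj.homAddEquiv P (R.cocomplex.X m)).symm)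
        (fun m (x : Z ⟶ (botIncl J).obj (R.cocomplex.X m)) =>
          (congrArg (fun z => (adj.homEquiv P (R.cocomplex.X (m + 1))).symm z)
            (adj'.homEquiv_naturality_right x ((botIncl J).map (R.cocomplex.d m (m + 1))))).trans
            (adj.homEquiv_naturality_right_symm _ (R.cocomplex.d m (m + 1)))) n
      obtain ⟨j⟩ := hH n
      exact ⟨j ≪≫ i.symm ≪≫ (R.isoRightDerivedObj (botIncl J ⋙ preadditiveCoyoneda.obj (op Z)) n).symm⟩)
    hH'
  refine ⟨E, a, h₁, h₂, fun p q => ?_, h₄⟩
  obtain ⟨e₁⟩ := h₃ p q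
  obtain ⟨e₂⟩ := nonempty_rightDerived_botIncl_iso J M q
  obtain ⟨e₃⟩ := nonempty_rightDerived_coyoneda_iso_ext Z
    (⟨M.cohomologyPresheaf q, Presheaf.isSheaf_bot _⟩ : Sheaf (⊥ : GrothendieckTopology C) AddCommGrpCat.{u}) p
  exact ⟨e₁ ≪≫ ((preadditiveCoyoneda.obj (op Z)).rightDerived p).mapIso e₂ ≪≫ e₃⟩

end CohLib

namespace CohLib

open CategoryTheory CategoryTheory.Limits Opposite CategoryTheory.Abelian

variable {C : Type u} [SmallCategory C] (J : GrothendieckTopology C)

/-- A covering sieve has the same sheafification as the object. -/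
theorem isIso_sheafify_functorInclusion {X : C} (R : Sieve X) (hR : R ∈ J X) :
    IsIso ((presheafToSheaf J (Type u)).map R.functorInclusion) := by
  refine (J.W_iff R.functorInclusion).1 fun P hP => ?_
  have h := Presieve.isSheafFor_iff_yonedaSheafCondition.1
    (((isSheaf_iff_isSheaf_of_type J P).1 hP) R hR)
  refine ⟨fun g₁ g₂ hg => ?_, fun f => ?_⟩
  · obtain ⟨g, -, hu⟩ := h (R.functorInclusion ≫ g₁)
    exact (hu g₁ rfl).trans (hu g₂ hg.symm).symm
  · obtain ⟨g, hg, -⟩ := h f
    exact ⟨g, hg⟩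

/-- The free sheaf on a covering sieve is the free sheaf on the object. -/
noncomputable def freeSieveIso {X : C} (R : Sieve X) (hR : R ∈ J X) :
    (presheafToSheaf J AddCommGrpCat.{u}).obj (R.functor ⋙ AddCommGrpCat.free.{u}) ≅ freeSh J X :=
  haveI := isIso_sheafify_functorInclusion J R hR
  (ZSheafifyIso J R.functor).symm ≪≫
    (Z J).mapIso (asIso ((presheafToSheaf J (Type u)).map R.functorInclusion)) ≪≫
      ZSheafifyIso J (yoneda.obj X)

end CohLib
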