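import Groth.Agent.CohLib.InjModule
import Groth.Agent.ModSiteLib.FreeOn
import Groth.Agent.CohLib.ExtSS
import Groth.Agent.CohLib.ModHom
import Groth.Agent.CohLib.PresheafSS
import Groth.Agent.ModSiteLib.Grothendieck
import Groth.Agent.ModSiteLib.Colimits

/-!
# `Ext_O(O, M)` is the cohomology of the underlying abelian sheaf
-/

universe u

set_option linter.style.haveILetI false

open CategoryTheory CategoryTheory.Limits Opposite CategoryTheory.Abelian

namespace CohLib

variable {C : Type u} [SmallCategory C] {J : GrothendieckTopology C} (R : Sheaf J RingCat.{u})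

/-- Sections as maps from the final sheaf of sets. -/
noncomputable def sectionsEquivTerminal (M : SheafOfModules.{u} R) :
    M.sections ≃ (⊤_ (Sheaf J (Type u)) ⟶
      (SheafOfModules.toSheaf R ⋙ sheafCompose J (forget AddCommGrpCat.{u})).obj M) where
  toFun s := ⟨{ app := fun X => ↾fun _ => s.1 X
                naturality := fun X Y f => by ext x; exact (s.2 f).symm }⟩
  invFun t := ⟨fun X => t.hom.app X default, fun {X Y} f => by
    refine (NatTrans.naturality_apply t.hom f default).symm.trans ?_
    exact congrArg (t.hom.app Y) (Subsingleton.elim _ _)⟩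
  left_inv _ := rfl
  right_inv t := by
    apply ObjectProperty.hom_ext
    ext X x
    exact congrArg (t.hom.app X) (Subsingleton.elim _ _)

lemma sectionsEquivTerminal_comp {M N : SheafOfModules.{u} R} (p : M ⟶ N) (s : M.sections) :
    sectionsEquivTerminal R N (SheafOfModules.sectionsMap p s) =
      sectionsEquivTerminal R M s ≫ (SheafOfModules.toSheaf R ⋙ sheafCompose J (forget AddCommGrpCat.{u})).map p :=
  rfl

/-- The free module on the final object is the unit. -/
noncomputable def freeModRTerminalIso :
    (freeModR R).obj (⊤_ (Sheaf J (Type u))) ≅ SheafOfModules.unit R :=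
  ModSiteLib.isoOfHomEquiv
    (fun Z => (((freeModRAdj R).homEquiv _ Z).trans (sectionsEquivTerminal R Z).symm).trans
      (SheafOfModules.unitHomEquiv Z).symm)
    (fun {Z Z'} x f => by
      apply (SheafOfModules.unitHomEquiv Z').injective
      simp only [Equiv.trans_apply]
      rw [Equiv.apply_symm_apply, SheafOfModules.unitHomEquiv_comp_apply, Equiv.apply_symm_apply]
      apply (sectionsEquivTerminal R Z').injective
      rw [Equiv.apply_symm_apply, sectionsEquivTerminal_comp, Equiv.apply_symm_apply]
      exact (freeModRAdj R).homEquiv_naturality_right x f)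

/-- Global sections of a module from the constant sheaf. -/
noncomputable def unitConstEquiv (M : SheafOfModules.{u} R) :
    (SheafOfModules.unit R ⟶ M) ≃+
      ((constantSheaf J AddCommGrpCat.{u}).obj (AddCommGrpCat.of (ULift.{u} ℤ)) ⟶
        (SheafOfModules.toSheaf R).obj M) :=
  AddEquiv.ofBijective
    (AddMonoidHom.mk' (fun y : SheafOfModules.unit R ⟶ M => (constIsoZ J).hom ≫
      (toFreeModR R).app _ ≫ (SheafOfModules.toSheaf R).map ((freeModRTerminalIso R).hom ≫ y))
      (fun y y' => by rw [Preadditive.comp_add, Functor.map_add, Preadditive.comp_add, Preadditive.comp_add]))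
    ((constIsoZ J).symm.homFromEquiv.bijective.comp ((toFreeModR_bijective R _ M).comp
      (freeModRTerminalIso R).symm.homFromEquiv.bijective))

lemma unitConstEquiv_comp {M N : SheafOfModules.{u} R} (p : M ⟶ N) (y : SheafOfModules.unit R ⟶ M) :
    unitConstEquiv R N (y ≫ p) = unitConstEquiv R M y ≫ (SheafOfModules.toSheaf R).map p := by
  change (constIsoZ J).hom ≫ _ ≫ (SheafOfModules.toSheaf R).map (_ ≫ y ≫ p) =
    ((constIsoZ J).hom ≫ _ ≫ (SheafOfModules.toSheaf R).map (_ ≫ y)) ≫ (SheafOfModules.toSheaf R).map p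
  simp only [Functor.map_comp, Category.assoc]

/-- `Ext_O(O, M) = H(C, M)`. -/
theorem nonempty_ext_unit_iso_H [HasExt.{u} (SheafOfModules.{u} R)] (M : SheafOfModules.{u} R) (n : ℕ) :
    Nonempty (Ext.{u} (SheafOfModules.unit R) M n ≃+ Sheaf.H.{u} ((SheafOfModules.toSheaf R).obj M) n) := by
  haveI : PreservesFiniteLimits (SheafOfModules.toSheaf.{u} R) := inferInstance
  haveI : PreservesFiniteColimits (SheafOfModules.toSheaf.{u} R) := inferInstance
  let cZ := (constantSheaf J AddCommGrpCat.{u}).obj (AddCommGrpCat.of (ULift.{u} ℤ))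
  let S := preadditiveCoyoneda.obj (op cZ)
  obtain ⟨i⟩ := nonempty_rightDerived_iso_ext (SheafOfModules.toSheaf R ⋙ S) (SheafOfModules.unit R)
    (fun I => (unitConstEquiv R I).symm)
    (fun {I I'} g x => (unitConstEquiv R I').symm_apply_eq.2 (by
      refine Eq.trans ?_ (unitConstEquiv_comp R g _).symm
      exact (congrArg (· ≫ (SheafOfModules.toSheaf R).map g) ((unitConstEquiv R I).apply_symm_apply x)).symm)) M n
  obtain ⟨j⟩ := SpSeqLib.nonempty_rightDerived_comp_iso S (SheafOfModules.toSheaf R)
    (fun Q hQ q hq => by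
      obtain ⟨q, rfl⟩ := Nat.exists_eq_succ_of_ne_zero hq.ne'
      haveI := hQ
      haveI : Subsingleton (Ext.{u} ((Z J).obj (⊤_ (Sheaf J (Type u))))
          ((SheafOfModules.toSheaf R).obj Q) (q + 1)) := isTotallyAcyclic_toSheaf R Q _ q
      obtain ⟨k⟩ := nonempty_rightDerived_coyoneda_iso_ext cZ ((SheafOfModules.toSheaf R).obj Q) (q + 1)
      exact ((AddCommGrpCat.isZero_of_subsingleton _).of_iso (extIsoOfIso (constIsoZ J) _ _)).of_iso k)
    M n
  obtain ⟨k⟩ := nonempty_rightDerived_coyoneda_iso_ext cZ ((SheafOfModules.toSheaf R).obj M) n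
  exact ⟨(i.symm ≪≫ j ≪≫ k).addCommGroupIsoToAddEquiv⟩

end CohLib
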