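import Mathlib.CategoryTheory.Abelian.GrothendieckCategory.EnoughInjectives
import Groth.Agent.CohLib.Sections

/-!
# Baer's criterion with respect to a separating family
-/

universe w v u

set_option linter.style.haveILetI false
set_option backward.defeqAttrib.useBackward true

open CategoryTheory CategoryTheory.Limits ZeroObject

namespace CohLib

namespace Baer

variable {C : Type u} [Category.{v} C] [Abelian C] (I : C)

/-- Maps to `I` extend along the morphism. -/
def extendsTo : MorphismProperty C := fun A _ i => ∀ φ : A ⟶ I, ∃ ψ, i ≫ ψ = φ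

instance : (extendsTo I).RespectsIso :=
  MorphismProperty.RespectsIso.mk _
    (fun {X Y Z} e f hf φ => by
      obtain ⟨ψ, hψ⟩ := hf (e.inv ≫ φ)
      exact ⟨ψ, by rw [Category.assoc, hψ, Iso.hom_inv_id_assoc]⟩)
    (fun {X Y Z} e f hf φ => by
      obtain ⟨ψ, hψ⟩ := hf φ
      exact ⟨e.inv ≫ ψ, by rw [Category.assoc, Iso.hom_inv_id_assoc, hψ]⟩)

variable {P : ObjectProperty C} (hP : P.IsDetecting)
  (hext : ∀ (G : C), P G → ∀ (S : C) (i : S ⟶ G) [Mono i], extendsTo I i)

include hP hext

lemma exists_extendsTo {X Y : C} (p : X ⟶ Y) [Mono p] (hp : ¬ IsIso p) :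
    ∃ (X' : C) (i : X ⟶ X') (p' : X' ⟶ Y) (_ : extendsTo I i) (_ : ¬ IsIso i) (_ : Mono p'),
      i ≫ p' = p := by
  rw [hP.isIso_iff_of_mono] at hp
  simp only [Function.Surjective, not_forall, not_exists] at hp
  obtain ⟨G, hG, f, hf⟩ := hp
  replace hf : ∀ a : G ⟶ X, a ≫ p ≠ f := hf
  change G ⟶ Y at f
  refine ⟨pushout (pullback.fst p f) (pullback.snd p f), pushout.inl _ _,
    pushout.desc p f pullback.condition, ?_, ?_, ?_, pushout.inl_desc _ _ _⟩
  · intro φ
    obtain ⟨ψ, hψ⟩ := hext G hG _ (pullback.snd p f) (pullback.fst p f ≫ φ)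
    exact ⟨pushout.desc φ ψ hψ.symm, pushout.inl_desc _ _ _⟩
  · intro h
    rw [isIso_iff_yoneda_map_bijective] at h
    obtain ⟨a, ha⟩ := (h G).2 (pushout.inr _ _)
    have ha' : a ≫ pushout.inl (pullback.fst p f) (pullback.snd p f) = pushout.inr _ _ := ha
    have h2 := ha' =≫ pushout.desc p f pullback.condition
    rw [Category.assoc, pushout.inl_desc, pushout.inr_desc] at h2
    exact hf a h2
  · exact (IsPushout.of_hasPushout _ _).mono_of_isPullback_of_mono
      (IsPullback.of_hasPullback p f) _ (pushout.inl_desc _ _ _) (pushout.inr_desc _ _ _)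

lemma exists_larger {X : C} (A : Subobject X) (hA : A ≠ ⊤) :
    ∃ (A' : Subobject X) (h : A < A'), extendsTo I (Subobject.ofLE A A' h.le) := by
  induction A using Subobject.ind with | _ f
  obtain ⟨X', i, p', hi, hi', hp', fac⟩ := exists_extendsTo I hP hext f
    (by simpa only [Subobject.isIso_iff_mk_eq_top] using hA)
  refine ⟨Subobject.mk p', Subobject.mk_lt_mk_of_comm i fac hi',
    (MorphismProperty.arrow_mk_iso_iff _ ?_).2 hi⟩
  refine Arrow.isoMk (Subobject.underlyingIso f) (Subobject.underlyingIso p') ?_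
  dsimp
  simp only [← cancel_mono p', Category.assoc, fac,
    Subobject.underlyingIso_hom_comp_eq_mk, Subobject.ofLE_arrow]

variable {X : C}

open scoped Classical in
/-- A strictly larger subobject to which maps to `I` extend. -/
noncomputable def larger (A : Subobject X) : Subobject X :=
  if hA : A = ⊤ then ⊤ else (exists_larger I hP hext A hA).choose

lemma larger_top : larger I hP hext (⊤ : Subobject X) = ⊤ := dif_pos rfl

lemma lt_larger (A : Subobject X) (hA : A ≠ ⊤) : A < larger I hP hext A := by
  dsimp only [larger]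
  rw [dif_neg hA]
  exact (exists_larger I hP hext A hA).choose_spec.choose

lemma le_larger (A : Subobject X) : A ≤ larger I hP hext A := by
  by_cases hA : A = ⊤
  · subst hA; rw [larger_top]
  · exact (lt_larger I hP hext A hA).le

lemma extendsTo_ofLE (A : Subobject X) :
    extendsTo I (Subobject.ofLE _ _ (le_larger I hP hext A)) := by
  by_cases hA : A = ⊤
  · subst hA
    intro φ
    haveI : IsIso (Subobject.ofLE _ _ (le_larger I hP hext (⊤ : Subobject X))) :=
      ⟨Subobject.ofLE _ _ (le_top), by simp, by simp⟩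
    exact ⟨inv (Subobject.ofLE _ _ (le_larger I hP hext (⊤ : Subobject X))) ≫ φ, by simp⟩
  · refine (MorphismProperty.arrow_mk_iso_iff _ ?_).1
      (exists_larger I hP hext A hA).choose_spec.choose_spec
    exact Arrow.isoMk (Iso.refl _)
      (Subobject.isoOfEq _ _ ((by simp [larger, dif_neg hA]))) (by simp)

variable [IsGrothendieckAbelian.{w} C]

lemma exists_ordinal (A₀ : Subobject X) :
    ∃ (o : Ordinal.{w}) (j : o.ToType), transfiniteIterate (larger I hP hext) j A₀ = ⊤ := by
  let κ := Order.succ (Cardinal.mk (Shrink.{w} (Subobject X)))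
  have : Nonempty κ.ord.ToType := by simp [κ]
  have := WellFoundedLT.toOrderBot κ.ord.ToType
  have hJ : HasCardinalLT (Subobject X) (Cardinal.mk κ.ord.ToType) :=
    lt_of_lt_of_le (Order.lt_succ _) (by simp [κ])
  exact ⟨κ.ord, top_mem_range_transfiniteIterate (larger I hP hext) A₀ (lt_larger I hP hext)
    (larger_top I hP hext)
    (fun h ↦ by simpa [hasCardinalLT_iff_cardinal_mk_lt] using hJ.of_injective _ h)⟩

variable (A₀ : Subobject X) (J : Type w) [LinearOrder J] [OrderBot J] [SuccOrder J]
  [WellFoundedLT J]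

/-- The iteration as a diagram of subobjects. -/
@[simps]
noncomputable def functorToMonoOver : J ⥤ MonoOver X where
  obj j := MonoOver.mk (transfiniteIterate (larger I hP hext) j A₀).arrow
  map {j j'} f := MonoOver.homMk (Subobject.ofLE _ _
      (monotone_transfiniteIterate _ _ (le_larger I hP hext) (leOfHom f)))

/-- The iteration as a diagram. -/
noncomputable abbrev functor : J ⥤ C :=
  functorToMonoOver I hP hext A₀ J ⋙ MonoOver.forget _ ⋙ Over.forget _

instance : (functor I hP hext A₀ J).IsWellOrderContinuous where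
  nonempty_isColimit m hm := ⟨by
    have := hm.nonempty_Iio.to_subtype
    let c := (Set.principalSegIio m).cocone (functorToMonoOver I hP hext A₀ J ⋙ MonoOver.forget _)
    have : Mono c.pt.hom := by dsimp [c]; infer_instance
    apply IsGrothendieckAbelian.isColimitMapCoconeOfSubobjectMkEqISup
      ((Set.principalSegIio m).monotone.functor ⋙ functorToMonoOver I hP hext A₀ J) c
    dsimp [c]
    simp only [Subobject.mk_arrow]
    exact transfiniteIterate_limit (larger I hP hext) A₀ m hm⟩

/-- The composition from the bottom. -/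
noncomputable def transfiniteCompositionOfShape (j : J) :
    (extendsTo I).TransfiniteCompositionOfShape (Set.Iic j)
    ((functor I hP hext A₀ J).map (homOfLE bot_le : ⊥ ⟶ j)) where
  F := (Set.initialSegIic j).monotone.functor ⋙ functor I hP hext A₀ J
  isoBot := Iso.refl _
  incl :=
    { app k := (functor I hP hext A₀ J).map (homOfLE k.2)
      naturality k k' h := by
        simp [MonoOver.forget] }
  isColimit := colimitOfDiagramTerminal isTerminalTop _
  map_mem k hk := by
    dsimp [MonoOver.forget]
    convert!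
      extendsTo_ofLE I hP hext (transfiniteIterate (larger I hP hext) k.1 A₀) using 2
    all_goals
      rw [Set.Iic.succ_eq_of_not_isMax hk,
        transfiniteIterate_succ _ _ _ (Set.not_isMax_coe _ hk)]

omit [LinearOrder J] [OrderBot J] [SuccOrder J] [WellFoundedLT J] in
theorem injective : Injective I := by
  constructor
  intro A B φ f _
  obtain ⟨o, j, hj⟩ := exists_ordinal I hP hext (Subobject.mk f)
  haveI : Nonempty o.ToType := ⟨j⟩
  letI : OrderBot o.ToType := WellFoundedLT.toOrderBot _
  have hl := (transfiniteCompositionOfShape I hP hext (Subobject.mk f) o.ToType j).mem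
  have hle : (extendsTo I).transfiniteCompositionsOfShape (Set.Iic j) ≤
      (extendsTo I).rlp.llp := MorphismProperty.transfiniteCompositionsOfShape_le_llp_rlp _ _
  have hp : (extendsTo I).rlp (0 : I ⟶ (0 : C)) := fun A' B' i hi =>
    ⟨fun {g h} sq => by
      obtain ⟨ψ, hψ⟩ := hi g
      exact ⟨⟨{ l := ψ, fac_left := hψ, fac_right := (isZero_zero C).eq_of_tgt _ _ }⟩⟩⟩
  let e : A ⟶ ((functor I hP hext (Subobject.mk f) o.ToType).obj ⊥) :=
    (Subobject.underlyingIso f).inv ≫
      (Subobject.isoOfEq _ _ (transfiniteIterate_bot _ _).symm).hom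
  have hiso := (Subobject.isIso_arrow_iff_eq_top _).2 hj
  have hlift := hle _ hl _ hp
  let eB : B ⟶ (functor I hP hext (Subobject.mk f) o.ToType).obj j :=
    @inv _ _ _ _ (transfiniteIterate (larger I hP hext) j (Subobject.mk f)).arrow hiso
  have sq : CommSq ((Subobject.isoOfEq _ _ (transfiniteIterate_bot _ _)).hom ≫
      (Subobject.underlyingIso f).hom ≫ φ)
      ((functor I hP hext (Subobject.mk f) o.ToType).map (homOfLE bot_le : ⊥ ⟶ j))
      (0 : I ⟶ (0 : C)) 0 := ⟨(isZero_zero C).eq_of_tgt _ _⟩
  obtain ⟨⟨l, hl', -⟩⟩ := (hlift.sq_hasLift sq).exists_lift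
  refine ⟨eB ≫ l, ?_⟩
  have he : f ≫ eB = e ≫ (functor I hP hext (Subobject.mk f) o.ToType).map
      (homOfLE bot_le : ⊥ ⟶ j) := by
    simp [eB, e, functorToMonoOver, MonoOver.forget, ← cancel_mono
      (transfiniteIterate (larger I hP hext) j (Subobject.mk f)).arrow]
  rw [← Category.assoc, he, Category.assoc, hl']
  simp [e]

end Baer

end CohLib
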