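import Groth.Agent.CohLib.CechExt
import Groth.Agent.CohLib.PresheafSS
import Groth.Agent.SpSeqLib.Degenerate

/-!
# Čech cohomology of an acyclic covering
-/

universe u

set_option linter.style.haveILetI false

open CategoryTheory CategoryTheory.Limits Opposite CategoryTheory.Abelian

namespace CohLib

variable {C : Type u} [SmallCategory C] [HasPullbacks C] (J : GrothendieckTopology C)

/-- For an acyclic covering, Čech cohomology is cohomology. -/
theorem nonempty_cechH_equiv_HU (F : Sheaf J AddCommGrpCat.{u}) {U : C} {ι : Type u} (Y : ι → Over U)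
    (hY : Sieve.ofArrows (fun i => (Y i).left) (fun i => (Y i).hom) ∈ J U)
    (h : ∀ (p : ℕ) (a : Fin (p + 1) → ι) (q : ℕ),
      Subsingleton (CohSite.HU F (q + 1) (∏ᶜ fun k => Y (a k)).left))
    (p : ℕ) : Nonempty (CohCx.cechH F.obj Y p ≃+ CohSite.HU F p U) := by
  obtain ⟨E, a, h₁, h₂, h₃, h₄⟩ := exists_presheaf_spectralSequence (J := J)
    ((famSieve Y).functor ⋙ AddCommGrpCat.free.{u}) F
    (fun n : ℤ => if 0 ≤ n then AddCommGrpCat.of (CohSite.HU F n.toNat U) else AddCommGrpCat.of PUnit.{u + 1})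
    (fun n => ⟨eqToIso (if_pos (Int.natCast_nonneg n)) ≪≫
      (extIsoOfIso (freeSieveIso J (famSieve Y) hY) F n).symm⟩)
    (fun n hn => (AddCommGrpCat.isZero_of_subsingleton (AddCommGrpCat.of PUnit.{u + 1})).of_iso
      (eqToIso (if_neg (by lia))))
  have hz : ∀ p' q : ℤ, q ≠ 0 → IsZero ((E.page 2 le_rfl).X (p', q)) := by
    intro p' q hq
    by_cases hpq : 0 ≤ p' ∧ 0 ≤ q
    · obtain ⟨p', rfl⟩ := Int.eq_ofNat_of_zero_le hpq.1
      obtain ⟨q, rfl⟩ := Int.eq_ofNat_of_zero_le hpq.2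
      obtain ⟨q, rfl⟩ := Nat.exists_eq_succ_of_ne_zero (show q ≠ 0 by simpa using hq)
      obtain ⟨i⟩ := nonempty_cechH_iso_ext Y (F.cohomologyPresheaf (q + 1)) p'
      refine IsZero.of_iso ?_ ((h₃ p' (q + 1)).some ≪≫ i.symm)
      refine ShortComplex.isZero_homology_of_isZero_X₂ _ ?_
      rw [IsZero.iff_id_eq_zero]
      refine Pi.hom_ext _ _ fun b => ?_
      exact (@AddCommGrpCat.isZero_of_subsingleton
        ((F.cohomologyPresheaf (q + 1)).obj _) (h p' b q)).eq_of_tgt _ _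
    · exact h₄ p' q (by lia)
  have hst : SpSeq.StationaryAt E ((p : ℤ), (p : ℤ) - p) 2 := by
    refine ⟨le_rfl, fun r h₀ hr => ⟨?_, ?_⟩⟩
    · exact (SpSeqLib.isZero_page_of_le E 2 le_rfl _ (hz ((p : ℤ) - r) ((p : ℤ) - p - (1 - r)) (by lia))
        r hr).eq_of_src _ _
    · exact (SpSeqLib.isZero_page_of_le E 2 le_rfl _ (hz ((p : ℤ) + r) ((p : ℤ) - p + (1 - r)) (by lia))
        r hr).eq_of_tgt _ _
  obtain ⟨b, hb⟩ := (h₁ p).2
  obtain ⟨c, hc⟩ := (h₁ p).1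
  obtain ⟨e⟩ := SpSeqLib.nonempty_iso_of_single E 2 le_rfl a p p
    (fun p' hp' => hz p' _ (by lia)) ⟨b, hb⟩
    ⟨by rintro _ ⟨x, rfl⟩; exact le_top, fun s hs => hc ▸ hs ⟨c, rfl⟩⟩ hst
  haveI : (botIncl J).Additive := inferInstance
  haveI : PreservesLimitsOfSize.{0, 0} (botIncl J) := (botInclAdj J).rightAdjoint_preservesLimits
  haveI : PreservesFiniteLimits (botIncl J) := PreservesLimitsOfSize.preservesFiniteLimits _
  obtain ⟨e₂⟩ := nonempty_rightDerived_botIncl_iso J F 0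
  obtain ⟨i⟩ := nonempty_cechH_iso_ext Y F.obj p
  let e' : (⟨F.cohomologyPresheaf 0, Presheaf.isSheaf_bot _⟩ :
      Sheaf (⊥ : GrothendieckTopology C) AddCommGrpCat.{u}) ≅ ⟨F.obj, Presheaf.isSheaf_bot _⟩ :=
    e₂.symm ≪≫ (botIncl J).rightDerivedZeroIsoSelf.app F
  let eh : AddCommGrpCat.of (CohSite.HU F p U) ≅ CohCx.cechH F.obj Y p :=
    eqToIso (if_pos (Int.natCast_nonneg p)).symm ≪≫ e ≪≫
      eqToIso (by rw [sub_self]; rfl) ≪≫ (h₃ p 0).some ≪≫
      ((extFunctor.{u} p).obj (op _)).mapIso e' ≪≫ i.symm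
  exact ⟨eh.symm.addCommGroupIsoToAddEquiv⟩

end CohLib
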