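import Mathlib.CategoryTheory.Abelian.Projective.Ext
import Mathlib.Algebra.Homology.ShortComplex.Ab
import Mathlib.Algebra.Category.Grp.Abelian

/-!
# Ext groups as cohomology of maps out of a projective resolution
-/

universe u v

open CategoryTheory CategoryTheory.Limits CategoryTheory.Abelian CochainComplex.HomComplex

namespace CohLib

variable {A : Type v} [Category.{u} A] [Abelian A] [HasExt.{u} A] {X Y : A}
  (R : ProjectiveResolution X)

lemma extMk_eq_zero_iff₀ (f : R.complex.X 0 ⟶ Y) (hf : R.complex.d 1 0 ≫ f = 0) :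
    R.extMk f 1 rfl hf = 0 ↔ f = 0 := by
  refine ⟨fun h => ?_, fun h => by subst h; exact R.extMk_zero 1 rfl⟩
  simp only [← R.extEquivCohomologyClass.apply_eq_iff_eq,
    ProjectiveResolution.extEquivCohomologyClass_extMk,
    ProjectiveResolution.extEquivCohomologyClass_zero, CohomologyClass.mk_eq_zero_iff] at h
  rw [Cocycle.toSingleMk_mem_coboundaries_iff _ _ _ _ _ (1 : ℤ) (by norm_num)] at h
  obtain ⟨g, hg⟩ := h
  rw [← cancel_epi (R.cochainComplexXIso (-((0 : ℕ) : ℤ)) 0 rfl).hom, comp_zero, ← hg]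
  have : g = 0 := (CochainComplex.isZero_of_isStrictlyLE R.cochainComplex 0 1 (by norm_num)).eq_of_src _ _
  rw [this, comp_zero]

theorem nonempty_homology_iso_ext (K : CochainComplex AddCommGrpCat.{u} ℕ)
    (e : ∀ n, K.X n ≃+ (R.complex.X n ⟶ Y))
    (he : ∀ n x, e (n + 1) (K.d n (n + 1) x) = R.complex.d (n + 1) n ≫ e n x) (n : ℕ) :
    Nonempty (K.homology n ≅ AddCommGrpCat.of (Ext.{u} X Y n)) := by
  let S := K.sc n
  have hcyc : ∀ x : K.X n, S.g x = 0 ↔ R.complex.d (n + 1) n ≫ e n x = 0 := by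
    intro x
    change K.d n ((ComplexShape.up ℕ).next n) x = 0 ↔ _
    rw [CochainComplex.next, ← he]
    exact (map_eq_zero_iff (e (n + 1)) (e (n + 1)).injective).symm
  let φ : AddMonoidHom.ker S.g.hom →+ Ext.{u} X Y n :=
    AddMonoidHom.mk' (fun x => R.extMk (e n x.1) (n + 1) rfl ((hcyc x.1).1 x.2)) (fun x y => by
      rw [ProjectiveResolution.add_extMk]
      congr 1
      exact map_add (e n) x.1 y.1)
  have hsurj : Function.Surjective φ := by
    intro α
    obtain ⟨f, hf, rfl⟩ := R.extMk_surjective α (n + 1) rfl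
    refine ⟨⟨(e n).symm f, (hcyc _).2 (by rw [AddEquiv.apply_symm_apply]; exact hf)⟩, ?_⟩
    simp [φ]
  have hker : AddMonoidHom.range S.abToCycles = φ.ker := by
    ext x
    obtain ⟨x, hx⟩ := x
    change (∃ y, S.abToCycles y = ⟨x, hx⟩) ↔ R.extMk (e n x) (n + 1) rfl ((hcyc x).1 hx) = 0
    cases n with
    | zero =>
      rw [extMk_eq_zero_iff₀]
      constructor
      · rintro ⟨y, hy⟩
        have h1 : K.d ((ComplexShape.up ℕ).prev 0) 0 y = x := congrArg Subtype.val hy
        rw [K.shape _ _ (by simp)] at h1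
        rw [← h1]
        exact map_zero (e 0)
      · intro h
        refine ⟨0, Subtype.ext ?_⟩
        change K.d _ 0 0 = x
        rw [map_zero]
        exact ((map_eq_zero_iff (e 0) (e 0).injective).1 h).symm
    | succ p =>
      rw [R.extMk_eq_zero_iff _ _ _ _ p rfl]
      constructor
      · rintro ⟨y, hy⟩
        have h1 : K.d ((ComplexShape.up ℕ).prev (p + 1)) (p + 1) y = x := congrArg Subtype.val hy
        have hp : (ComplexShape.up ℕ).prev (p + 1) = p := by simp
        have h2 : ∃ z : K.X ((ComplexShape.up ℕ).prev (p + 1)),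
            K.d ((ComplexShape.up ℕ).prev (p + 1)) (p + 1) z = x := ⟨y, h1⟩
        rw [hp] at h2
        obtain ⟨z, hz⟩ := h2
        exact ⟨e p z, by rw [← he, hz]⟩
      · rintro ⟨g, hg⟩
        have h2 : ∃ y : K.X ((ComplexShape.up ℕ).prev (p + 1)),
            K.d ((ComplexShape.up ℕ).prev (p + 1)) (p + 1) y = x := by
          rw [show (ComplexShape.up ℕ).prev (p + 1) = p by simp]
          exact ⟨(e p).symm g, (e (p + 1)).injective (by rw [he, AddEquiv.apply_symm_apply, hg])⟩
        obtain ⟨y, hy⟩ := h2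
        exact ⟨y, Subtype.ext hy⟩
  exact ⟨S.abHomologyIso ≪≫ ((QuotientAddGroup.quotientAddEquivOfEq hker).trans
    (QuotientAddGroup.quotientKerEquivOfSurjective φ hsurj)).toAddCommGrpIso⟩

end CohLib
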