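import Groth.Agent.CohLib.CechApply
import Groth.Agent.CohLib.ExtResolution
import Mathlib.CategoryTheory.Limits.Shapes.FunctorToTypes

/-!
# Čech cohomology as Ext out of the sieve in presheaves
-/

universe u

set_option linter.style.haveILetI false

open CategoryTheory CategoryTheory.Limits Opposite Simplicial AlgebraicTopology CategoryTheory.Abelian

namespace CohLib

variable {C : Type u} [SmallCategory C]

lemma projective_freeOf {X : C} (E : FormalCoproduct.{u} (Over X)) :
    Projective ((freeOf X).obj E) := by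
  constructor
  intro P Q s g _
  obtain ⟨t, ht⟩ := exists_lift_freeOf E g (fun i =>
    (AddCommGrpCat.epi_iff_surjective _).1 inferInstance) s
  exact ⟨t, ht⟩

variable [HasPullbacks C] {X : C} {ι : Type u} (Y : ι → Over X)

/-- Abbreviation for sheafification in the trivial topology. -/
noncomputable abbrev botSh : (Cᵒᵖ ⥤ AddCommGrpCat.{u}) ⥤ Sheaf (⊥ : GrothendieckTopology C) AddCommGrpCat.{u} :=
  presheafToSheaf (⊥ : GrothendieckTopology C) AddCommGrpCat.{u}

instance : (sheafToPresheaf (⊥ : GrothendieckTopology C) AddCommGrpCat.{u}).EssSurj :=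
  ⟨fun P => ⟨⟨P, Presheaf.isSheaf_bot P⟩, ⟨Iso.refl _⟩⟩⟩

instance : (sheafToPresheaf (⊥ : GrothendieckTopology C) AddCommGrpCat.{u}).IsEquivalence where

/-- The projective resolution of the free sheaf of a sieve given by the Čech nerve. -/
noncomputable def cechResolution :
    ProjectiveResolution (botSh.obj ((famSieve Y).functor ⋙ AddCommGrpCat.free.{u})) :=
  haveI : (botSh (C := C)).Additive :=
    (sheafificationAdjunction (⊥ : GrothendieckTopology C) AddCommGrpCat.{u}).left_adjoint_additive
  haveI : PreservesFiniteColimits (botSh (C := C)) :=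
    haveI := (sheafificationAdjunction (⊥ : GrothendieckTopology C)
      AddCommGrpCat.{u}).leftAdjoint_preservesColimits
    inferInstance
  { complex := ((botSh (C := C)).mapHomologicalComplex _).obj (cechChain Y)
    projective := fun n =>
      (sheafificationAdjunction (⊥ : GrothendieckTopology C) AddCommGrpCat.{u}).map_projective _
        (projective_freeOf _)
    π := ((botSh (C := C)).mapHomologicalComplex _).map (cechChainε Y) ≫
      ((HomologicalComplex.singleMapHomologicalComplex (botSh (C := C)) _ 0).app _).hom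
    quasiIso := inferInstance }

theorem nonempty_cechH_iso_ext (M : Cᵒᵖ ⥤ AddCommGrpCat.{u}) (q : ℕ) :
    Nonempty (CohCx.cechH M Y q ≅ AddCommGrpCat.of (Ext.{u}
      (botSh.obj ((famSieve Y).functor ⋙ AddCommGrpCat.free.{u}))
      (⟨M, Presheaf.isSheaf_bot M⟩ : Sheaf (⊥ : GrothendieckTopology C) AddCommGrpCat.{u}) q)) := by
  haveI : (botSh (C := C)).Additive :=
    (sheafificationAdjunction (⊥ : GrothendieckTopology C) AddCommGrpCat.{u}).left_adjoint_additive
  let adj := sheafificationAdjunction (⊥ : GrothendieckTopology C) AddCommGrpCat.{u}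
  let Ms : Sheaf (⊥ : GrothendieckTopology C) AddCommGrpCat.{u} := ⟨M, Presheaf.isSheaf_bot M⟩
  let e : ∀ n, ((homCx (cechSimp Y) M).X n : Type u) ≃+ ((cechResolution Y).complex.X n ⟶ Ms) :=
    fun n => show ((cechChain Y).X n ⟶ M) ≃+ (botSh.obj ((cechChain Y).X n) ⟶ Ms) from
      (adj.homAddEquiv ((cechChain Y).X n) Ms).symm
  obtain ⟨i⟩ := nonempty_homology_iso_ext (cechResolution Y) (homCx (cechSimp Y) M) e
    (fun n (x : (cechChain Y).X n ⟶ M) => by
      refine (congrArg (e (n + 1)) (homCx_d_apply (cechSimp Y) M n x)).trans ?_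
      exact adj.homEquiv_naturality_left_symm (Y := Ms) ((cechChain Y).d (n + 1) n) x) q
  exact ⟨((HomologicalComplex.homologyFunctor _ _ q).mapIso (cechComplexIso M Y)).symm ≪≫ i⟩

end CohLib
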