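import Groth.Prelude.Def_CohCx
import Mathlib.AlgebraicTopology.SimplicialObject.ChainHomotopy

/-!
# Refinement maps of Čech complexes are homotopic
-/

universe w v u v' u'

set_option autoImplicit false
set_option backward.isDefEq.respectTransparency false
set_option backward.isDefEq.respectTransparency.types false

open CategoryTheory CategoryTheory.Limits Opposite Simplicial AlgebraicTopology

namespace CohLib

namespace CechHtpy

variable {C : Type u} [Category.{v} C] [HasFiniteProducts C] {X Y : FormalCoproduct.{w} C}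

lemma power_hom_ext {T : FormalCoproduct.{w} C} {α : Type} [Finite α] {a b : T ⟶ Y.power α}
    (h : ∀ i, a ≫ Y.powerπ i = b ≫ Y.powerπ i) : a = b :=
  Fan.IsLimit.hom_ext (Y.isLimitPowerFan α) _ _ h

lemma powerMap_π (f : X ⟶ Y) {α : Type} [Finite α] (a : α) :
    FormalCoproduct.powerMap f α ≫ Y.powerπ a = X.powerπ a ≫ f := by
  refine FormalCoproduct.hom_ext ?_ ?_
  · rfl
  · intro i
    simp only [eqToHom_refl, Category.comp_id, FormalCoproduct.category_comp_φ]
    exact Limits.Pi.map_π (fun a => f.φ (i a)) a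

section Comb

variable {n : ℕ}

local macro "finTac" : tactic => `(tactic| (
  simp only [Fin.predAbove, Fin.succAbove, Fin.le_def, Fin.lt_def, Fin.ext_iff, Fin.val_castSucc,
    Fin.val_succ, Fin.val_pred, Fin.coe_castPred, apply_dite Fin.val, apply_ite Fin.val] at *
  repeat' split_ifs at *
  all_goals omega))

lemma comb₁ (i : Fin (n + 2)) (j : Fin (n + 1)) (l : Fin (n + 2)) (h : i ≤ j.castSucc) :
    j.succ.predAbove (i.castSucc.succAbove l) = i.succAbove (j.predAbove l) ∧
      (i.castSucc.succAbove l ≤ j.succ.castSucc ↔ l ≤ j.castSucc) := by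
  constructor <;> finTac

lemma comb₂ (j : Fin (n + 1)) (l : Fin (n + 2)) :
    j.succ.predAbove (j.castSucc.succ.succAbove l) =
        j.castSucc.predAbove (j.castSucc.succ.succAbove l) ∧
      (j.castSucc.succ.succAbove l ≤ j.succ.castSucc ↔
        j.castSucc.succ.succAbove l ≤ j.castSucc.castSucc) := by
  constructor <;> finTac

lemma comb₃ (i : Fin (n + 2)) (j : Fin (n + 1)) (l : Fin (n + 2)) (h : j.castSucc < i) :
    j.castSucc.predAbove (i.succ.succAbove l) = i.succAbove (j.predAbove l) ∧
      (i.succ.succAbove l ≤ j.castSucc.castSucc ↔ l ≤ j.castSucc) := by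
  constructor <;> finTac

lemma comb₄ (i j : Fin (n + 1)) (l : Fin (n + 3)) (h : i ≤ j) :
    j.predAbove (i.castSucc.predAbove l) = i.predAbove (j.succ.predAbove l) ∧
      (i.castSucc.predAbove l ≤ j.castSucc ↔ l ≤ j.succ.castSucc) := by
  constructor <;> finTac

lemma comb₅ (i j : Fin (n + 1)) (l : Fin (n + 3)) (h : j ≤ i) :
    j.predAbove (i.succ.predAbove l) = i.predAbove (j.castSucc.predAbove l) ∧
      (i.succ.predAbove l ≤ j.castSucc ↔ l ≤ j.castSucc.castSucc) := by
  constructor <;> finTac

end Comb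

variable (f g : X ⟶ Y)

/-- The simplicial homotopy. -/
noncomputable def hMap {n : ℕ} (i : Fin (n + 1)) :
    X.power (Fin (n + 1)) ⟶ Y.power (Fin (n + 2)) :=
  Fan.IsLimit.lift (Y.isLimitPowerFan (Fin (n + 2))) fun j =>
    X.powerπ (i.predAbove j) ≫ if j ≤ i.castSucc then f else g

lemma hMap_π {n : ℕ} (i : Fin (n + 1)) (j : Fin (n + 2)) :
    hMap f g i ≫ Y.powerπ j = X.powerπ (i.predAbove j) ≫ (if j ≤ i.castSucc then f else g) :=
  Fan.IsLimit.fac _ _ _

lemma hMap_mapPower_π {n m : ℕ} (i : Fin (n + 1)) (θ : Fin (m + 1) → Fin (n + 2)) (j : Fin (m + 1)) :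
    (hMap f g i ≫ Y.mapPower θ) ≫ Y.powerπ j =
      X.powerπ (i.predAbove (θ j)) ≫ (if θ j ≤ i.castSucc then f else g) := by
  rw [Category.assoc, FormalCoproduct.mapPower_π, hMap_π]

lemma mapPower_hMap_π {n m : ℕ} (φ : Fin (n + 1) → Fin (m + 1)) (i : Fin (n + 1)) (j : Fin (n + 2)) :
    (X.mapPower φ ≫ hMap f g i) ≫ Y.powerπ j =
      X.powerπ (φ (i.predAbove j)) ≫ (if j ≤ i.castSucc then f else g) := by
  rw [Category.assoc, hMap_π, FormalCoproduct.mapPower_π_assoc]

lemma hMap_ext {n m l : ℕ} (i : Fin (n + 1)) (θ : Fin (m + 1) → Fin (n + 2))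
    (k : Fin (l + 1)) (θ' : Fin (m + 1) → Fin (l + 2)) (φ : Fin (l + 1) → Fin (n + 1))
    (h₁ : ∀ j, i.predAbove (θ j) = φ (k.predAbove (θ' j)))
    (h₂ : ∀ j, θ j ≤ i.castSucc ↔ θ' j ≤ k.castSucc) :
    hMap f g i ≫ Y.mapPower θ = X.mapPower φ ≫ hMap f g k ≫ Y.mapPower θ' := by
  refine power_hom_ext fun j => ?_
  rw [hMap_mapPower_π, Category.assoc, hMap_mapPower_π, FormalCoproduct.mapPower_π_assoc, h₁]
  simp only [h₂]

/-- Two maps of formal coproducts induce homotopic maps of Čech objects. -/
noncomputable def homotopy : SimplicialObject.Homotopy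
    (FormalCoproduct.cechFunctor.map f) (FormalCoproduct.cechFunctor.map g) where
  h i := hMap f g i
  h_zero_comp_δ_zero n := power_hom_ext fun j => by
    refine (hMap_mapPower_π f g 0 _ j).trans (Eq.trans ?_ (powerMap_π g j).symm)
    change X.powerπ ((0 : Fin (n + 1)).predAbove (Fin.succ j)) ≫
      (if Fin.succ j ≤ (0 : Fin (n + 2)) then f else g) = _
    rw [if_neg (fun h => Fin.succ_ne_zero _ (le_antisymm h (Fin.zero_le _))), Fin.predAbove_zero_succ]
  h_last_comp_δ_last n := power_hom_ext fun j => by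
    refine (hMap_mapPower_π f g _ _ j).trans (Eq.trans ?_ (powerMap_π f j).symm)
    change X.powerπ ((Fin.last n).predAbove ((Fin.last (n + 1)).succAbove j)) ≫ _ = _
    rw [if_pos (by simp [SimplexCategory.δ, Fin.succAboveOrderEmb, Fin.le_last]), Fin.succAbove_last]
    simp
  h_succ_comp_δ_castSucc_of_lt {n} i j hij := power_hom_ext fun l => by
    refine (hMap_mapPower_π f g _ _ l).trans (Eq.trans ?_ (mapPower_hMap_π f g _ _ l).symm)
    change X.powerπ (j.succ.predAbove (i.castSucc.succAbove l)) ≫
      (if i.castSucc.succAbove l ≤ j.succ.castSucc then f else g) =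
        X.powerπ (i.succAbove (j.predAbove l)) ≫ _
    obtain ⟨h₁, h₂⟩ := comb₁ i j l hij
    rw [h₁]
    simp only [h₂]
  h_succ_comp_δ_castSucc_succ {n} j := power_hom_ext fun l => by
    refine (hMap_mapPower_π f g _ _ l).trans (Eq.trans ?_ (hMap_mapPower_π f g _ _ l).symm)
    change X.powerπ (j.succ.predAbove (j.castSucc.succ.succAbove l)) ≫
      (if j.castSucc.succ.succAbove l ≤ j.succ.castSucc then f else g) =
        X.powerπ (j.castSucc.predAbove (j.castSucc.succ.succAbove l)) ≫
          (if j.castSucc.succ.succAbove l ≤ j.castSucc.castSucc then f else g)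
    obtain ⟨h₁, h₂⟩ := comb₂ j l
    rw [h₁]
    simp only [h₂]
  h_castSucc_comp_δ_succ_of_lt {n} i j hji := power_hom_ext fun l => by
    refine (hMap_mapPower_π f g _ _ l).trans (Eq.trans ?_ (mapPower_hMap_π f g _ _ l).symm)
    change X.powerπ (j.castSucc.predAbove (i.succ.succAbove l)) ≫
      (if i.succ.succAbove l ≤ j.castSucc.castSucc then f else g) =
        X.powerπ (i.succAbove (j.predAbove l)) ≫ _
    obtain ⟨h₁, h₂⟩ := comb₃ i j l hji
    rw [h₁]
    simp only [h₂]
  h_comp_σ_castSucc_of_le {n} i j hij := power_hom_ext fun l => by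
    refine (hMap_mapPower_π f g _ _ l).trans (Eq.trans ?_ (mapPower_hMap_π f g _ _ l).symm)
    change X.powerπ (j.predAbove (i.castSucc.predAbove l)) ≫
      (if i.castSucc.predAbove l ≤ j.castSucc then f else g) =
        X.powerπ (i.predAbove (j.succ.predAbove l)) ≫ _
    obtain ⟨h₁, h₂⟩ := comb₄ i j l hij
    rw [h₁]
    simp only [h₂]
  h_comp_σ_succ_of_lt {n} i j hji := power_hom_ext fun l => by
    refine (hMap_mapPower_π f g _ _ l).trans (Eq.trans ?_ (mapPower_hMap_π f g _ _ l).symm)
    change X.powerπ (j.predAbove (i.succ.predAbove l)) ≫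
      (if i.succ.predAbove l ≤ j.castSucc then f else g) =
        X.powerπ (i.predAbove (j.castSucc.predAbove l)) ≫ _
    obtain ⟨h₁, h₂⟩ := comb₅ i j l hji
    rw [h₁]
    simp only [h₂]

end CechHtpy

section Cosimplicial

variable {A : Type u'} [Category.{v'} A] [Preadditive A]

/-- The simplicial object in the opposite category. -/
abbrev simpOp (S : CosimplicialObject A) : SimplicialObject Aᵒᵖ :=
  (cosimplicialSimplicialEquiv A).functor.obj (op S)

/-- A homotopy of the simplicial objects in the opposite category gives a homotopy of cochains. -/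
noncomputable def cochainHomotopy {S T : CosimplicialObject A} {p q : S ⟶ T}
    (H : SimplicialObject.Homotopy ((cosimplicialSimplicialEquiv A).functor.map p.op)
      ((cosimplicialSimplicialEquiv A).functor.map q.op)) :
    _root_.Homotopy ((alternatingCofaceMapComplex A).map p) ((alternatingCofaceMapComplex A).map q) where
  hom i j := ((H.toChainHomotopy).hom j i).unop
  zero i j hij := by
    rw [(H.toChainHomotopy).zero j i hij]
    rfl
  comm n := by
    have h := congrArg Quiver.Hom.unop ((H.toChainHomotopy).comm n)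
    have d_eq : ∀ (U : CosimplicialObject A) (m : ℕ),
        (((alternatingFaceMapComplex Aᵒᵖ).obj (simpOp U)).d (m + 1) m).unop =
          ((alternatingCofaceMapComplex A).obj U).d m (m + 1) := by
      intro U m
      rw [alternatingFaceMapComplex_obj_d]
      change _ = (CochainComplex.of (fun k => U.obj ⦋k⦌) (AlternatingCofaceMapComplex.objD U)
        (AlternatingCofaceMapComplex.d_squared U)).d m (m + 1)
      refine Eq.trans ?_ (CochainComplex.of_d (fun k : ℕ => U.obj ⦋k⦌) (AlternatingCofaceMapComplex.objD U) m).symm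
      exact (AlternatingCofaceMapComplex.d_eq_unop_d U m).symm
    cases n with
    | zero =>
      rw [dNext_eq (i' := 1) (w := by simp), prevD_eq_zero _ _ (by simp), add_zero]
      rw [prevD_eq (j' := 1) (w := by simp), dNext_eq_zero _ _ (by simp), zero_add,
        unop_add, unop_comp, d_eq] at h
      exact h
    | succ n =>
      rw [dNext_eq (i' := n + 2) (w := by simp), prevD_eq (j' := n) (w := by simp)]
      rw [dNext_eq (i' := n) (w := by simp), prevD_eq (j' := n + 2) (w := by simp),
        unop_add, unop_add, unop_comp, unop_comp, d_eq, d_eq] at h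
      refine h.trans ?_
      change _ + _ + ((alternatingCofaceMapComplex A).map q).f (n + 1) = _
      abel

theorem cechRefine_homotopic {D : Type u} [SmallCategory D] [HasPullbacks D]
    (P : Dᵒᵖ ⥤ AddCommGrpCat.{u}) {U : D}
    {𝒰 𝒰' : FormalCoproduct.{u} (Over U)} (f g : 𝒰 ⟶ 𝒰') :
    Nonempty (_root_.Homotopy (CohCx.cechRefine P f) (CohCx.cechRefine P g)) :=
  ⟨cochainHomotopy ((CechHtpy.homotopy f g).whiskerRight
    ((FormalCoproduct.evalOp.{u} (Over U) AddCommGrpCat.{u}).obj ((Over.forget U).op ⋙ P)).rightOp)⟩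

end Cosimplicial

end CohLib
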