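import Mathlib.AlgebraicTopology.ExtraDegeneracy
import Mathlib.CategoryTheory.Types.Basic

/-!
# Augmented simplicial sets which are Čech nerves of a surjection have an extra degeneracy
-/

universe u

open CategoryTheory Opposite Simplicial

namespace CohLib

namespace NerveType

variable (X : SimplicialObject.Augmented (Type u))

/-- The `k`-th projection to the vertices. -/
def proj (n : ℕ) (k : Fin (n + 1)) : X.left.obj (op ⦋n⦌) → X.left.obj (op ⦋0⦌) :=
  fun x => X.left.map (SimplexCategory.const ⦋0⦌ ⦋n⦌ k).op x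

/-- The augmentation on vertices. -/
def aug : X.left.obj (op ⦋0⦌) → X.right := fun x => X.hom.app (op ⦋0⦌) x

/-- `X` is the Čech nerve of its augmentation. -/
structure IsNerve : Prop where
  surjective : Function.Surjective (aug X)
  ext : ∀ (n : ℕ) {x y : X.left.obj (op ⦋n⦌)}, (∀ k, proj X n k x = proj X n k y) → x = y
  exists_mk : ∀ (n : ℕ) (t : Fin (n + 1) → X.left.obj (op ⦋0⦌)),
    (∀ k, aug X (t k) = aug X (t 0)) → ∃ x, ∀ k, proj X n k x = t k

variable {X}

lemma proj_map {n m : ℕ} (θ : ⦋m⦌ ⟶ ⦋n⦌) (k : Fin (m + 1)) (x : X.left.obj (op ⦋n⦌)) :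
    proj X m k (X.left.map θ.op x) = proj X n (θ.toOrderHom k) x :=
  (ConcreteCategory.congr_hom (X.left.map_comp θ.op (SimplexCategory.const ⦋0⦌ ⦋m⦌ k).op) x).symm

lemma aug_proj {n : ℕ} (k : Fin (n + 1)) (x : X.left.obj (op ⦋n⦌)) :
    aug X (proj X n k x) = X.hom.app (op ⦋n⦌) x :=
  ConcreteCategory.congr_hom (X.hom.naturality (SimplexCategory.const ⦋0⦌ ⦋n⦌ k).op) x

lemma proj_zero (k : Fin 1) (x : X.left.obj (op ⦋0⦌)) : proj X 0 k x = x := by
  have h : SimplexCategory.const ⦋0⦌ ⦋0⦌ k = 𝟙 _ := by ext i; simp [Subsingleton.elim k i]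
  change X.left.map (SimplexCategory.const ⦋0⦌ ⦋0⦌ k).op x = x
  rw [h, op_id, X.left.map_id]
  rfl

namespace IsNerve

variable (hX : IsNerve X)

/-- A chosen section of the augmentation. -/
noncomputable def sect (y : X.right) : X.left.obj (op ⦋0⦌) := (hX.surjective y).choose

lemma aug_sect (y : X.right) : aug X (hX.sect y) = y := (hX.surjective y).choose_spec

/-- Adding the chosen vertex in front. -/
noncomputable def deg (n : ℕ) (x : X.left.obj (op ⦋n⦌)) : X.left.obj (op ⦋n + 1⦌) :=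
  (hX.exists_mk (n + 1) (Fin.cons (hX.sect (X.hom.app (op ⦋n⦌) x)) (fun k => proj X n k x))
    (fun k => by
      rw [Fin.cons_zero]
      refine Fin.cases ?_ (fun j => ?_) k
      · rw [Fin.cons_zero]
      · rw [Fin.cons_succ, hX.aug_sect, aug_proj]
        )).choose

lemma proj_deg (n : ℕ) (x : X.left.obj (op ⦋n⦌)) (k : Fin (n + 2)) :
    proj X (n + 1) k (hX.deg n x) =
      (Fin.cons (hX.sect (X.hom.app (op ⦋n⦌) x)) (fun j => proj X n j x) :
        Fin (n + 2) → X.left.obj (op ⦋0⦌)) k :=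
  Exists.choose_spec (p := fun z => ∀ k, proj X (n + 1) k z = _) _ k

lemma app_map {n m : ℕ} (θ : ⦋m⦌ ⟶ ⦋n⦌) (x : X.left.obj (op ⦋n⦌)) :
    X.hom.app (op ⦋m⦌) (X.left.map θ.op x) = X.hom.app (op ⦋n⦌) x := by
  rw [← aug_proj 0, proj_map, aug_proj]

/-- The extra degeneracy. -/
noncomputable def extraDegeneracy : SimplicialObject.Augmented.ExtraDegeneracy X where
  s' := ↾fun y => hX.sect y
  s n := ↾fun x => hX.deg n x
  s'_comp_ε := by
    ext y
    exact hX.aug_sect y
  s₀_comp_δ₁ := by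
    ext x
    apply hX.ext 0
    intro k
    refine (proj_map (SimplexCategory.δ 1) k (hX.deg 0 x)).trans ?_
    rw [hX.proj_deg]
    refine Eq.trans ?_ (proj_zero k _).symm
    fin_cases k
    rfl
  s_comp_δ₀ n := by
    ext x
    apply hX.ext n
    intro k
    refine (proj_map (SimplexCategory.δ 0) k (hX.deg n x)).trans ?_
    rw [hX.proj_deg]
    rfl
  s_comp_δ n i := by
    ext x
    apply hX.ext (n + 1)
    intro j
    refine (proj_map (SimplexCategory.δ i.succ) j (hX.deg (n + 1) x)).trans ?_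
    refine Eq.trans ?_ (hX.proj_deg n _ j).symm
    rw [hX.proj_deg]
    refine Fin.cases ?_ (fun k => ?_) j
    · change Fin.cons (α := fun _ => X.left.obj (op ⦋0⦌)) _ _ (i.succ.succAbove 0) =
        Fin.cons (α := fun _ => X.left.obj (op ⦋0⦌)) _ _ 0
      rw [Fin.succ_succAbove_zero, Fin.cons_zero, Fin.cons_zero]
      exact congrArg hX.sect (app_map (SimplexCategory.δ i) x).symm
    · change Fin.cons (α := fun _ => X.left.obj (op ⦋0⦌)) _ _ (i.succ.succAbove k.succ) = _
      rw [Fin.succ_succAbove_succ, Fin.cons_succ, Fin.cons_succ]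
      exact (proj_map (SimplexCategory.δ i) k x).symm
  s_comp_σ n i := by
    ext x
    apply hX.ext (n + 2)
    intro j
    refine (proj_map (SimplexCategory.σ i.succ) j (hX.deg n x)).trans ?_
    refine Eq.trans ?_ (hX.proj_deg (n + 1) _ j).symm
    rw [hX.proj_deg]
    refine Fin.cases ?_ (fun k => ?_) j
    · change Fin.cons (α := fun _ => X.left.obj (op ⦋0⦌)) _ _ (i.succ.predAbove 0) =
        Fin.cons (α := fun _ => X.left.obj (op ⦋0⦌)) _ _ 0
      rw [show i.succ.predAbove 0 = 0 by simp [Fin.predAbove], Fin.cons_zero, Fin.cons_zero]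
      exact congrArg hX.sect (app_map (SimplexCategory.σ i) x).symm
    · change Fin.cons (α := fun _ => X.left.obj (op ⦋0⦌)) _ _ (i.succ.predAbove k.succ) = _
      rw [Fin.succ_predAbove_succ, Fin.cons_succ, Fin.cons_succ]
      exact (proj_map (SimplexCategory.σ i) k x).symm

end IsNerve

end NerveType

end CohLib
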