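import Groth.Agent.CohLib.Cech
import Groth.Agent.CohLib.Sections
import Groth.Agent.CohLib.NerveType
import Mathlib.CategoryTheory.Limits.Shapes.ConcreteCategory

/-!
# The Čech complex of a family as maps out of a resolution of the sieve it generates
-/

universe u

set_option linter.style.haveILetI false

open CategoryTheory CategoryTheory.Limits Opposite Simplicial AlgebraicTopology

namespace CohLib

section Coface

variable {A : Type (u + 1)} [Category.{u} A] [Preadditive A]

/-- Maps out of a simplicial object, as a cosimplicial abelian group. -/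
noncomputable abbrev homCx (N : SimplicialObject A) (F : A) : CochainComplex AddCommGrpCat.{u} ℕ :=
  (alternatingCofaceMapComplex AddCommGrpCat.{u}).obj (N.rightOp ⋙ preadditiveYoneda.obj F)

lemma homCx_d_apply (N : SimplicialObject A) (F : A) (n : ℕ)
    (x : ((alternatingFaceMapComplex A).obj N).X n ⟶ F) :
    (homCx N F).d n (n + 1) x = ((alternatingFaceMapComplex A).obj N).d (n + 1) n ≫ x := by
  rw [show ((alternatingFaceMapComplex A).obj N).d (n + 1) n =
      ∑ i : Fin (n + 2), (-1 : ℤ) ^ (i : ℕ) • N.δ i from AlternatingFaceMapComplex.obj_d_eq _ n]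
  rw [show (homCx N F).d n (n + 1) = ∑ i : Fin (n + 2), (-1 : ℤ) ^ (i : ℕ) •
      CosimplicialObject.δ (N.rightOp ⋙ preadditiveYoneda.obj F) i from
      CochainComplex.of_d _ (AlternatingCofaceMapComplex.objD
        (N.rightOp ⋙ preadditiveYoneda.obj F)) n]
  rw [Preadditive.sum_comp]
  change AddCommGrpCat.homAddEquiv (∑ i : Fin (n + 2), (-1 : ℤ) ^ (i : ℕ) •
      CosimplicialObject.δ (N.rightOp ⋙ preadditiveYoneda.obj F) i) x = _
  rw [map_sum, AddMonoidHom.finsetSum_apply]
  refine Finset.sum_congr rfl fun i _ => ?_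
  rw [Preadditive.zsmul_comp]
  rfl

theorem isZero_homCx_iff (N : SimplicialObject A) (F : A) (q : ℕ) :
    IsZero ((homCx N F).homology (q + 1)) ↔ HomExact ((alternatingFaceMapComplex A).obj N) F q := by
  rw [← HomologicalComplex.exactAt_iff_isZero_homology,
    (homCx N F).exactAt_iff' q (q + 1) (q + 2) (by simp) (by simp),
    ShortComplex.ab_exact_iff]
  constructor
  · intro h x hx
    obtain ⟨y, hy⟩ := h x ((homCx_d_apply N F (q + 1) x).trans hx)
    exact ⟨y, (homCx_d_apply N F q y).symm.trans hy⟩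
  · intro h x hx
    obtain ⟨y, hy⟩ := h x ((homCx_d_apply N F (q + 1) x).symm.trans hx)
    exact ⟨y, (homCx_d_apply N F q y).trans hy⟩

end Coface

variable {C : Type u} [SmallCategory C] {X : C}

/-- The presheaf on `C` of a formal coproduct of objects over `X`. -/
noncomputable def pshOf (X : C) : FormalCoproduct.{u} (Over X) ⥤ (Cᵒᵖ ⥤ Type u) where
  obj E :=
    { obj := fun V => Σ i : E.I, (V.unop ⟶ (E.obj i).left)
      map := fun g => ↾fun x => ⟨x.1, g.unop ≫ x.2⟩
      map_id := fun V => by ext ⟨i, x⟩ <;> simp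
      map_comp := fun g h => by ext ⟨i, x⟩ <;> simp }
  map f := { app := fun V => ↾fun x => ⟨f.f x.1, x.2 ≫ (f.φ x.1).left⟩
             naturality := fun V W g => by
               ext ⟨i, x⟩
               · rfl
               · exact heq_of_eq (Category.assoc _ _ _) }
  map_id E := by
    ext V ⟨i, x⟩
    · rfl
    · exact heq_of_eq (Category.comp_id x)
  map_comp f g := by
    ext V ⟨i, x⟩
    · rfl
    · exact heq_of_eq (Category.assoc _ _ _).symm

/-- The free abelian presheaf of a formal coproduct. -/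
noncomputable abbrev freeOf (X : C) : FormalCoproduct.{u} (Over X) ⥤ (Cᵒᵖ ⥤ AddCommGrpCat.{u}) :=
  pshOf X ⋙ (Functor.whiskeringRight _ _ _).obj AddCommGrpCat.free.{u}

variable (M : Cᵒᵖ ⥤ AddCommGrpCat.{u})

/-- Evaluation of a map out of `freeOf` at the generators. -/
noncomputable def evalGen (E : FormalCoproduct.{u} (Over X)) :
    AddCommGrpCat.of ((freeOf X).obj E ⟶ M) ⟶
      ∏ᶜ fun i : E.I => M.obj (op (E.obj i).left) :=
  Pi.lift fun i => AddCommGrpCat.ofHom
    { toFun := fun φ => φ.app (op (E.obj i).left) (FreeAbelianGroup.of ⟨i, 𝟙 _⟩)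
      map_zero' := rfl
      map_add' := fun _ _ => rfl }

lemma π_evalGen (E : FormalCoproduct.{u} (Over X)) (φ : (freeOf X).obj E ⟶ M) (i : E.I) :
    Pi.π (fun i : E.I => M.obj (op (E.obj i).left)) i (evalGen M E φ) =
      φ.app (op (E.obj i).left) (FreeAbelianGroup.of ⟨i, 𝟙 _⟩) :=
  by
  unfold evalGen
  rw [← ConcreteCategory.comp_apply, Pi.lift_π]
  rfl

lemma bijective_evalGen (E : FormalCoproduct.{u} (Over X)) :
    Function.Bijective (evalGen M E) := by
  constructor
  · intro φ ψ h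
    apply (freePshEquiv _ _).injective
    ext V ⟨i, g⟩
    change φ.app V (FreeAbelianGroup.of ⟨i, g⟩) = ψ.app V (FreeAbelianGroup.of ⟨i, g⟩)
    have e : ∀ χ : (freeOf X).obj E ⟶ M, χ.app V (FreeAbelianGroup.of ⟨i, g⟩) =
        M.map g.op (χ.app (op (E.obj i).left) (FreeAbelianGroup.of ⟨i, 𝟙 _⟩)) := fun χ => by
      refine Eq.trans ?_ (NatTrans.naturality_apply χ g.op _)
      refine congrArg (χ.app V) ?_
      refine Eq.trans ?_ (FreeAbelianGroup.map_of_apply _).symm
      exact congrArg FreeAbelianGroup.of (Sigma.ext rfl (heq_of_eq (Category.comp_id g).symm))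
    rw [e φ, e ψ, ← π_evalGen, ← π_evalGen, h]
  · intro x
    let σ : (pshOf X).obj E ⟶ M ⋙ forget AddCommGrpCat.{u} :=
      { app := fun V => ↾fun p => M.map p.2.op
          (Pi.π (fun i : E.I => M.obj (op (E.obj i).left)) p.1 x)
        naturality := fun V W g => by
          ext ⟨i, p⟩
          exact ConcreteCategory.congr_hom (M.map_comp p.op g)
            (Pi.π (fun i : E.I => M.obj (op (E.obj i).left)) i x) }
    refine ⟨(freePshEquiv _ _).symm σ, Concrete.limit_ext _ _ _ fun ⟨i⟩ => ?_⟩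
    refine (π_evalGen M E _ i).trans ?_
    refine (ConcreteCategory.congr_hom (congr_arg (fun k => k.app (op (E.obj i).left))
      ((freePshEquiv ((pshOf X).obj E) M).apply_symm_apply σ)) ⟨i, 𝟙 _⟩).trans ?_
    change M.map (𝟙 _).op _ = _
    rw [op_id, M.map_id]
    rfl

lemma evalGen_naturality {E E' : FormalCoproduct.{u} (Over X)} (f : E ⟶ E')
    (φ : (freeOf X).obj E' ⟶ M) :
    evalGen M E ((freeOf X).map f ≫ φ) =
      ((FormalCoproduct.evalOp.{u} (Over X) AddCommGrpCat.{u}).obj ((Over.forget X).op ⋙ M)).map f.op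
        (evalGen M E' φ) := by
  refine Concrete.limit_ext _ _ _ fun ⟨i⟩ => ?_
  refine (π_evalGen M E _ i).trans ?_
  refine Eq.trans ?_ (ConcreteCategory.congr_hom (Pi.lift_π
    (f := fun i : E.I => M.obj (op (E.obj i).left))
    (fun i => Pi.π (fun j : E'.I => M.obj (op (E'.obj j).left)) (f.f i) ≫ M.map (f.φ i).left.op) i)
    (evalGen M E' φ)).symm
  refine Eq.trans ?_ (congrArg (M.map (f.φ i).left.op) (π_evalGen M E' φ (f.f i))).symm
  refine Eq.trans ?_ (NatTrans.naturality_apply φ (f.φ i).left.op _)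
  refine congrArg (φ.app _) ?_
  refine (FreeAbelianGroup.map_of_apply _).trans (Eq.trans ?_ (FreeAbelianGroup.map_of_apply _).symm)
  exact congrArg FreeAbelianGroup.of
    (Sigma.ext rfl (heq_of_eq ((Category.id_comp _).trans (Category.comp_id _).symm)))

/-- Evaluation of a presheaf on formal coproducts is maps out of free presheaves. -/
noncomputable def dualIso :
    (freeOf X).op ⋙ preadditiveYoneda.obj M ≅
      (FormalCoproduct.evalOp.{u} (Over X) AddCommGrpCat.{u}).obj ((Over.forget X).op ⋙ M) :=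
  NatIso.ofComponents (fun E => @asIso _ _ _ _ (evalGen M E.unop)
    ((ConcreteCategory.isIso_iff_bijective _).2 (bijective_evalGen M E.unop))) (fun {E E'} f => by
    ext φ
    exact evalGen_naturality M f.unop φ)

section Family

variable [HasPullbacks C] {ι : Type u} (Y : ι → Over X)

/-- The family as a formal coproduct. -/
abbrev famCop : FormalCoproduct.{u} (Over X) := ⟨ι, Y⟩

/-- The simplicial free presheaf of a family. -/
noncomputable abbrev cechSimp : SimplicialObject (Cᵒᵖ ⥤ AddCommGrpCat.{u}) :=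
  (famCop Y).cech ⋙ freeOf X

/-- The chain complex of free presheaves of a family. -/
noncomputable abbrev cechChain : ChainComplex (Cᵒᵖ ⥤ AddCommGrpCat.{u}) ℕ :=
  (alternatingFaceMapComplex _).obj (cechSimp Y)

/-- The Čech complex is the complex of maps out of the free presheaves. -/
noncomputable def cechComplexIso :
    homCx (cechSimp Y) M ≅ (cechComplexFunctor Y).obj ((Over.forget X).op ⋙ M) :=
  (alternatingCofaceMapComplex AddCommGrpCat.{u}).mapIso
    (NatIso.ofComponents (fun n => (dualIso M).app (op ((famCop Y).cech.obj (op n))))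
      (fun θ => (dualIso M).hom.naturality ((famCop Y).cech.map θ.op).op) :
      (cechSimp Y).rightOp ⋙ preadditiveYoneda.obj M ≅
        (famCop Y).cech.rightOp ⋙ (FormalCoproduct.evalOp.{u} (Over X) AddCommGrpCat.{u}).obj
          ((Over.forget X).op ⋙ M))

theorem isZero_cechH_iff (q : ℕ) :
    IsZero (CohCx.cechH M Y (q + 1)) ↔ HomExact (cechChain Y) M q :=
  (Iso.isZero_iff ((HomologicalComplex.homologyFunctor _ _ (q + 1)).mapIso
    (cechComplexIso M Y))).symm.trans (isZero_homCx_iff _ _ _)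

/-- The sieve generated by the family. -/
abbrev famSieve : Sieve X := Sieve.ofArrows (fun i => (Y i).left) (fun i => (Y i).hom)

/-- A vertex in coordinates. -/
noncomputable def coord {V : Cᵒᵖ} (n : ℕ) (k : Fin (n + 1))
    (x : ((pshOf X).obj ((famCop Y).cech.obj (op ⦋n⦌))).obj V) : Σ i : ι, (V.unop ⟶ (Y i).left) :=
  ⟨x.1 k, x.2 ≫ (Pi.π (fun j => Y (x.1 j)) k).left⟩

lemma coord_hom {V : Cᵒᵖ} (n : ℕ) (k : Fin (n + 1))
    (x : ((pshOf X).obj ((famCop Y).cech.obj (op ⦋n⦌))).obj V) :
    (coord Y n k x).2 ≫ (Y (coord Y n k x).1).hom =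
      x.2 ≫ (((famCop Y).cech.obj (op ⦋n⦌)).obj x.1).hom :=
  (Category.assoc _ _ _).trans (congrArg (x.2 ≫ ·) (Over.w (Pi.π (fun j => Y (x.1 j)) k)))

/-- The augmented simplicial presheaf of the family over its sieve. -/
noncomputable def sieveNerve : SimplicialObject.Augmented (Cᵒᵖ ⥤ Type u) where
  left := (famCop Y).cech ⋙ pshOf X
  right := (famSieve Y).functor
  hom :=
    { app := fun n =>
        { app := fun V => ↾fun x => ⟨x.2 ≫ (((famCop Y).cech.obj n).obj x.1).hom,
            (Sieve.mem_ofArrows_iff _ _ _).2 ⟨x.1 0, x.2 ≫ (Pi.π (fun j => Y (x.1 j)) 0).left,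
              ((Category.assoc _ _ _).trans
                (congrArg (x.2 ≫ ·) (Over.w (Pi.π (fun j => Y (x.1 j)) 0)))).symm⟩⟩
          naturality := fun V W g => by
            ext x
            exact Subtype.ext (Category.assoc _ _ _) }
      naturality := fun n m θ => by
        apply NatTrans.ext; funext V; ext x
        apply Subtype.ext
        exact (Category.assoc _ _ _).trans
          (congrArg (x.2 ≫ ·) (Over.w (((famCop Y).cech.map θ).φ x.1))) }

lemma coord_map {V : Cᵒᵖ} {n m : ℕ} (θ : ⦋m⦌ ⟶ ⦋n⦌) (k : Fin (m + 1))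
    (x : ((pshOf X).obj ((famCop Y).cech.obj (op ⦋n⦌))).obj V) :
    coord Y m k (((pshOf X).map ((famCop Y).cech.map θ.op)).app V x) =
      coord Y n (θ.toOrderHom k) x := by
  refine Sigma.ext rfl (heq_of_eq ?_)
  refine (Category.assoc _ _ _).trans (congrArg (x.2 ≫ ·) ?_)
  refine (Over.comp_left _ _ _ _ _).symm.trans (congrArg (fun (k : (∏ᶜ fun l => Y (x.1 l)) ⟶ Y (x.1 (θ.toOrderHom k))) => k.left) ?_)
  exact Pi.lift_π (fun j => Pi.π (fun l => Y (x.1 l)) (θ.toOrderHom j)) k

lemma coord_ext {V : Cᵒᵖ} (n : ℕ) {x y : ((pshOf X).obj ((famCop Y).cech.obj (op ⦋n⦌))).obj V}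
    (h : ∀ k, coord Y n k x = coord Y n k y) : x = y := by
  obtain ⟨a, g⟩ := x
  obtain ⟨b, g'⟩ := y
  obtain rfl : a = b := funext fun k => congrArg Sigma.fst (h k)
  have hk : ∀ k, g ≫ (Pi.π (fun j => Y (a j)) k).left = g' ≫ (Pi.π (fun j => Y (a j)) k).left :=
    fun k => eq_of_heq (Sigma.mk.inj_iff.1 (h k)).2
  have h0 : g ≫ (∏ᶜ fun j => Y (a j)).hom = g' ≫ (∏ᶜ fun j => Y (a j)).hom := by
    exact (congrArg (g ≫ ·) (Over.w (Pi.π (fun j => Y (a j)) 0)).symm).trans
      ((Category.assoc _ _ _).symm.trans ((congrArg (· ≫ (Y (a 0)).hom) (hk 0)).trans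
        ((Category.assoc _ _ _).trans (congrArg (g' ≫ ·) (Over.w (Pi.π (fun j => Y (a j)) 0))))))
  let G : Over.mk (g' ≫ (∏ᶜ fun j => Y (a j)).hom) ⟶ ∏ᶜ fun j => Y (a j) := Over.homMk g h0
  let G' : Over.mk (g' ≫ (∏ᶜ fun j => Y (a j)).hom) ⟶ ∏ᶜ fun j => Y (a j) := Over.homMk g' rfl
  have : G = G' := Pi.hom_ext _ _ fun k => Over.OverMorphism.ext (hk k)
  exact Sigma.ext rfl (heq_of_eq (congrArg (fun t => t.left) this))

lemma exists_coord {V : Cᵒᵖ} (n : ℕ) (t : Fin (n + 1) → Σ i : ι, (V.unop ⟶ (Y i).left))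
    (ht : ∀ k, (t k).2 ≫ (Y (t k).1).hom = (t 0).2 ≫ (Y (t 0).1).hom) :
    ∃ x : ((pshOf X).obj ((famCop Y).cech.obj (op ⦋n⦌))).obj V, ∀ k, coord Y n k x = t k := by
  let G : Over.mk ((t 0).2 ≫ (Y (t 0).1).hom) ⟶ ∏ᶜ fun k => Y (t k).1 :=
    Pi.lift fun k => Over.homMk (t k).2 (ht k)
  refine ⟨⟨fun k => (t k).1, G.left⟩, fun k => Sigma.ext rfl (heq_of_eq ?_)⟩
  exact congrArg (fun s => s.left) (Pi.lift_π (f := fun k => Y (t k).1)
    (fun k => Over.homMk (U := Over.mk ((t 0).2 ≫ (Y (t 0).1).hom)) (t k).2 (ht k)) k)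

lemma isNerve_sieveNerve (V : Cᵒᵖ) :
    NerveType.IsNerve (((SimplicialObject.Augmented.whiskering _ _).obj
      ((evaluation Cᵒᵖ (Type u)).obj V)).obj (sieveNerve Y)) where
  surjective := fun h => by
    obtain ⟨i, a, ha⟩ := (Sieve.mem_ofArrows_iff _ _ _).1 h.2
    obtain ⟨x, hx⟩ := exists_coord Y (V := V) 0 (fun _ => ⟨i, a⟩) (fun _ => rfl)
    refine ⟨x, Subtype.ext ?_⟩
    refine (coord_hom Y 0 0 x).symm.trans ?_
    rw [hx 0]
    exact ha.symm
  ext n x y h := coord_ext Y n fun k => by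
    have e := congrArg (coord Y 0 0) (h k)
    exact (coord_map Y _ 0 x).symm.trans (e.trans (coord_map Y _ 0 y))
  exists_mk n t ht := by
    obtain ⟨x, hx⟩ := exists_coord Y (V := V) n (fun k => coord Y 0 0 (t k)) (fun k =>
      (coord_hom Y 0 0 (t k)).trans ((congrArg Subtype.val (ht k)).trans (coord_hom Y 0 0 (t 0)).symm))
    refine ⟨x, fun k => coord_ext Y 0 fun l => ?_⟩
    obtain rfl : l = 0 := Fin.eq_zero l
    exact (coord_map Y _ 0 x).trans (hx k)

/-- The augmentation of the chain complex of a family. -/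
noncomputable def cechChainε :
    cechChain Y ⟶ (ChainComplex.single₀ _).obj ((famSieve Y).functor ⋙ AddCommGrpCat.free.{u}) :=
  AlternatingFaceMapComplex.ε.app (((SimplicialObject.Augmented.whiskering _ _).obj
    ((Functor.whiskeringRight Cᵒᵖ (Type u) AddCommGrpCat.{u}).obj AddCommGrpCat.free.{u})).obj
      (sieveNerve Y))

instance quasiIso_cechChainε : QuasiIso (cechChainε Y) := by
  rw [HomologicalComplex.quasiIso_iff_evaluation]
  intro V
  have ed := (isNerve_sieveNerve Y V).extraDegeneracy.map AddCommGrpCat.free.{u}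
  let A := ((SimplicialObject.Augmented.whiskering _ _).obj
    ((Functor.whiskeringRight Cᵒᵖ (Type u) AddCommGrpCat.{u}).obj AddCommGrpCat.free.{u})).obj
      (sieveNerve Y)
  haveI : QuasiIso (AlternatingFaceMapComplex.ε.app
      (((SimplicialObject.Augmented.whiskering _ _).obj
        ((evaluation Cᵒᵖ AddCommGrpCat.{u}).obj V)).obj A)) :=
    inferInstanceAs (QuasiIso ed.homotopyEquiv.hom)
  exact quasiIso_of_arrowIso (mapεArrowIso ((evaluation Cᵒᵖ AddCommGrpCat.{u}).obj V) A).symm

end Family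

end CohLib
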