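import Groth.Agent.CohLib.Sections
import Mathlib.CategoryTheory.Sites.Types
import Mathlib.CategoryTheory.Abelian.Images
import Mathlib.CategoryTheory.Abelian.Exact

/-!
# Acyclicity on objects and cohomology of covering sieves in presheaves
-/

universe u

set_option linter.style.haveILetI false

open CategoryTheory CategoryTheory.Limits Opposite CategoryTheory.Abelian

namespace CohLib

variable {C : Type u} [SmallCategory C] {J : GrothendieckTopology C}

/-- A sheaf as a sheaf for the trivial topology. -/
noncomputable def botIncl (J : GrothendieckTopology C) :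
    Sheaf J AddCommGrpCat.{u} ⥤ Sheaf (⊥ : GrothendieckTopology C) AddCommGrpCat.{u} where
  obj F := ⟨F.obj, Presheaf.isSheaf_bot _⟩
  map φ := ⟨φ.hom⟩

/-- Left adjoint to `botIncl`. -/
noncomputable def botInclAdj (J : GrothendieckTopology C) :
    sheafToPresheaf (⊥ : GrothendieckTopology C) AddCommGrpCat.{u} ⋙
      presheafToSheaf J AddCommGrpCat.{u} ⊣ botIncl J :=
  (sheafificationAdjunction J AddCommGrpCat.{u}).restrictFullyFaithful
    (fullyFaithfulSheafToPresheaf _ _) (Functor.FullyFaithful.id _) (Iso.refl _) (Iso.refl _)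

instance : (botIncl J).Additive where

lemma injective_botIncl (I : Sheaf J AddCommGrpCat.{u}) [Injective I] :
    Injective ((botIncl J).obj I) :=
  Injective.injective_of_adjoint (botInclAdj J) I

lemma shortExact_botIncl {S : ShortComplex (Sheaf J AddCommGrpCat.{u})} (hS : S.ShortExact)
    (h : ∀ U, Function.Surjective (S.g.hom.app (op U))) : (S.map (botIncl J)).ShortExact := by
  haveI := hS.mono_f
  haveI : PreservesLimitsOfSize.{0, 0} (botIncl J) := (botInclAdj J).rightAdjoint_preservesLimits
  exact
    { exact := hS.exact.map_of_mono_of_preservesKernel _ ‹_› inferInstance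
      mono_f := (botIncl J).map_mono S.f
      epi_g := epi_of_surjective_sections _ h }

/-- The free sheaf on a presheaf of sets for the trivial topology, as in `CohCx.HK`. -/
noncomputable abbrev botFree (L : Cᵒᵖ ⥤ Type u) : Sheaf (⊥ : GrothendieckTopology C) AddCommGrpCat.{u} :=
  (presheafToSheaf (⊥ : GrothendieckTopology C) AddCommGrpCat.{u}).obj (L ⋙ AddCommGrpCat.free.{u})

/-- Maps out of `botFree`. -/
noncomputable def botFreeEquiv (L : Cᵒᵖ ⥤ Type u) (P : Sheaf (⊥ : GrothendieckTopology C) AddCommGrpCat.{u}) :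
    (botFree L ⟶ P) ≃ (L ⟶ P.obj ⋙ forget AddCommGrpCat.{u}) :=
  ((sheafificationAdjunction _ AddCommGrpCat.{u}).homEquiv _ _).trans (freePshEquiv _ _)

lemma botFreeEquiv_comp (L : Cᵒᵖ ⥤ Type u) {P Q : Sheaf (⊥ : GrothendieckTopology C) AddCommGrpCat.{u}}
    (φ : P ⟶ Q) (t : botFree L ⟶ P) :
    botFreeEquiv L Q (t ≫ φ) = botFreeEquiv L P t ≫ Functor.whiskerRight φ.hom _ := by
  change freePshEquiv _ _ ((sheafificationAdjunction _ _).homEquiv _ _ (t ≫ φ)) = _
  rw [Adjunction.homEquiv_naturality_right]
  unfold freePshEquiv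
  erw [Adjunction.homEquiv_naturality_right]
  rfl

lemma isSheafFor_forget (F : Sheaf J AddCommGrpCat.{u}) {U : C} (R : Sieve U) (hR : R ∈ J U) :
    Presieve.IsSheafFor (F.obj ⋙ forget AddCommGrpCat.{u}) (R : Presieve U) :=
  (isSheaf_iff_isSheaf_of_type J _).1 ((sheafCompose J (forget AddCommGrpCat.{u})).obj F).property R hR

/-- Lifting maps out of covering sieves, given surjectivity on sections. -/
lemma exists_lift_sieve {S : ShortComplex (Sheaf J AddCommGrpCat.{u})} {U : C} (R : Sieve U)
    (hR : R ∈ J U) (h : Function.Surjective (S.g.hom.app (op U)))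
    (s : botFree R.functor ⟶ (botIncl J).obj S.X₃) :
    ∃ t : botFree R.functor ⟶ (botIncl J).obj S.X₂, t ≫ (botIncl J).map S.g = s := by
  let σ := botFreeEquiv _ _ s
  obtain ⟨G, hG, -⟩ := Presieve.isSheafFor_iff_yonedaSheafCondition.1 (isSheafFor_forget S.X₃ R hR) σ
  obtain ⟨t₀, ht₀⟩ := h (yonedaEquiv G)
  refine ⟨(botFreeEquiv _ _).symm (R.functorInclusion ≫
    (yonedaEquiv (F := S.X₂.obj ⋙ forget AddCommGrpCat.{u})).symm t₀), (botFreeEquiv _ _).injective ?_⟩
  rw [botFreeEquiv_comp, Equiv.apply_symm_apply, Category.assoc]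
  refine Eq.trans ?_ hG
  refine congrArg (R.functorInclusion ≫ ·) (yonedaEquiv.injective ?_)
  rw [yonedaEquiv_comp]
  erw [Equiv.apply_symm_apply]
  exact ht₀

lemma subsingleton_HK_bot_of_acyclic (U : C) (R : Sieve U) (hR : R ∈ J U) (q : ℕ) :
    ∀ F : Sheaf J AddCommGrpCat.{u}, (∀ (X : C) (q : ℕ), Subsingleton (CohSite.HU F (q + 1) X)) →
      Subsingleton (Ext (botFree R.functor) ((botIncl J).obj F) (q + 1)) := by
  induction q with
  | zero =>
    intro F hF
    haveI := fun X => hF X 0
    have hS := injSC_shortExact F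
    have hsurj := fun X => surjective_sections_of_HU hS X
    have hS' := shortExact_botIncl hS hsurj
    haveI : Subsingleton (Ext (botFree R.functor) ((injSC F).map (botIncl J)).X₂ 1) :=
      haveI := injective_botIncl (J := J) (Injective.under F)
      subsingleton_ext_injective _ ((botIncl J).obj (Injective.under F)) 0
    exact subsingleton_ext_one_of_lift hS' fun s => exists_lift_sieve R hR (hsurj U) s
  | succ q ih =>
    intro F hF
    haveI := fun X => hF X 0
    have hS := injSC_shortExact F
    have hS' := shortExact_botIncl hS fun X => surjective_sections_of_HU hS X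
    haveI : Subsingleton (Ext (botFree R.functor) ((injSC F).map (botIncl J)).X₂ (q + 1 + 1)) :=
      haveI := injective_botIncl (J := J) (Injective.under F)
      subsingleton_ext_injective _ ((botIncl J).obj (Injective.under F)) (q + 1)
    haveI : Subsingleton (Ext (botFree R.functor) ((injSC F).map (botIncl J)).X₃ (q + 1)) :=
      ih _ fun X p => by
        let Xu := (presheafToSheaf J AddCommGrpCat.{u}).obj (yoneda.obj X ⋙ AddCommGrpCat.free.{u})
        haveI : Subsingleton (Ext Xu (injSC F).X₂ (p + 1)) :=
          subsingleton_ext_injective _ (Injective.under F) p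
        haveI : Subsingleton (Ext Xu (injSC F).X₁ (p + 1 + 1)) := hF X (p + 1)
        exact subsingleton_ext_of_shift' hS (X := Xu) (n := p + 1)
    exact subsingleton_ext_of_shift hS' (X := botFree R.functor) (n := q + 1)

lemma injective_app_of_mono {P Q : Sheaf (⊥ : GrothendieckTopology C) AddCommGrpCat.{u}} (φ : P ⟶ Q)
    [Mono φ] (U : Cᵒᵖ) : Function.Injective (φ.hom.app U) := by
  haveI : Mono φ.hom :=
    (sheafToPresheaf (⊥ : GrothendieckTopology C) AddCommGrpCat.{u}).map_mono φ
  exact (AddCommGrpCat.mono_iff_injective _).1 inferInstance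

/-- Surjectivity on sections from vanishing of the first sieve cohomology of the kernel. -/
lemma surjective_sections_of_sieve {S : ShortComplex (Sheaf J AddCommGrpCat.{u})} (hS : S.ShortExact)
    (U : C) (h : ∀ R : Sieve U, R ∈ J U →
      Subsingleton (Ext (botFree R.functor) ((botIncl J).obj S.X₁) 1)) :
    Function.Surjective (S.g.hom.app (op U)) := by
  intro s
  haveI := hS.mono_f
  haveI := hS.epi_g
  haveI : Sheaf.IsLocallySurjective S.g :=
    (Sheaf.isLocallySurjective_iff_epi' AddCommGrpCat.{u} S.g).2 inferInstance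
  let R : Sieve U := Presheaf.imageSieve S.g.hom s
  have hR : R ∈ J U := Presheaf.imageSieve_mem J S.g.hom (U := op U) s
  haveI := h R hR
  haveI : PreservesLimitsOfSize.{0, 0} (botIncl J) := (botInclAdj J).rightAdjoint_preservesLimits
  let g' := (botIncl J).map S.g
  let M := Abelian.image g'
  let e := Abelian.factorThruImage g'
  let T : ShortComplex (Sheaf (⊥ : GrothendieckTopology C) AddCommGrpCat.{u}) :=
    ShortComplex.mk ((botIncl J).map S.f) e (by
      rw [← cancel_mono (Abelian.image.ι g'), Category.assoc, Abelian.image.fac, zero_comp]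
      exact (S.map (botIncl J)).zero)
  let φ : T ⟶ S.map (botIncl J) :=
    { τ₁ := 𝟙 _
      τ₂ := 𝟙 _
      τ₃ := Abelian.image.ι g'
      comm₁₂ := (Category.id_comp _).trans (Category.comp_id _).symm
      comm₂₃ := (Category.id_comp _).trans (Abelian.image.fac g').symm }
  haveI : Epi φ.τ₁ := inferInstanceAs (Epi (𝟙 _))
  haveI : IsIso φ.τ₂ := inferInstanceAs (IsIso (𝟙 _))
  haveI : Mono φ.τ₃ := inferInstanceAs (Mono (Abelian.image.ι g'))
  have hT : T.ShortExact :=
    { exact := (ShortComplex.exact_iff_of_epi_of_isIso_of_mono φ).2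
        (hS.exact.map_of_mono_of_preservesKernel _ ‹Mono S.f› inferInstance)
      mono_f := (botIncl J).map_mono S.f
      epi_g := inferInstanceAs (Epi (Abelian.factorThruImage g')) }
  have hex : ∀ (V : Cᵒᵖ) (g : R.functor.obj V),
      ∃ m : M.obj.obj V, (Abelian.image.ι g').hom.app V m = S.X₃.obj.map g.1.op s := by
    intro V g
    obtain ⟨t, ht⟩ := g.2
    refine ⟨e.hom.app V t, ?_⟩
    refine Eq.trans ?_ ht
    exact ConcreteCategory.congr_hom (congr_arg (fun k => k.hom.app V) (Abelian.image.fac g')) t
  choose m hm using hex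
  let σ : R.functor ⟶ M.obj ⋙ forget AddCommGrpCat.{u} :=
    { app := fun V => ↾(m V)
      naturality := fun V W k => by
        ext g
        apply injective_app_of_mono (Abelian.image.ι g') W
        refine (hm W _).trans ?_
        refine Eq.trans ?_ (NatTrans.naturality_apply (Abelian.image.ι g').hom k (m V g)).symm
        refine Eq.trans ?_ (congrArg (S.X₃.obj.map k) (hm V g)).symm
        exact (ConcreteCategory.congr_hom (S.X₃.obj.map_comp g.1.op k) s) }
  obtain ⟨t, ht⟩ := exists_lift_of_subsingleton_ext_one hT ((botFreeEquiv _ M).symm σ)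
  let τ := botFreeEquiv _ _ t
  have hτ : τ ≫ Functor.whiskerRight e.hom _ = σ := by
    rw [← botFreeEquiv_comp, ht, Equiv.apply_symm_apply]
  obtain ⟨G, hG, -⟩ :=
    Presieve.isSheafFor_iff_yonedaSheafCondition.1 (isSheafFor_forget S.X₂ R hR) τ
  refine ⟨yonedaEquiv G, (isSheafFor_forget S.X₃ R hR).isSeparatedFor.ext fun V g hg => ?_⟩
  refine (NatTrans.naturality_apply S.g.hom g.op (yonedaEquiv G)).symm.trans ?_
  refine Eq.trans ?_ (hm (op V) ⟨g, hg⟩)
  have e1 : S.X₂.obj.map g.op (yonedaEquiv G) = τ.app (op V) ⟨g, hg⟩ := by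
    rw [← hG]
    exact ((yonedaEquiv_naturality G g).trans (by simp [yonedaEquiv]; rfl))
  have e2 : e.hom.app (op V) (τ.app (op V) ⟨g, hg⟩) = m (op V) ⟨g, hg⟩ :=
    ConcreteCategory.congr_hom (congr_arg (fun k => k.app (op V)) hτ) ⟨g, hg⟩
  rw [e1, ← e2]
  exact (ConcreteCategory.congr_hom (congr_arg (fun k => k.hom.app (op V)) (Abelian.image.fac g')) _).symm

lemma subsingleton_HU_of_sieve (U : C) (q : ℕ) :
    ∀ F : Sheaf J AddCommGrpCat.{u}, (∀ (X : C) (R : Sieve X), R ∈ J X → ∀ q : ℕ,
      Subsingleton (Ext (botFree R.functor) ((botIncl J).obj F) (q + 1))) →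
      Subsingleton (CohSite.HU F (q + 1) U) := by
  induction q with
  | zero =>
    intro F hF
    have hS := injSC_shortExact F
    haveI : Subsingleton (CohSite.HU (injSC F).X₂ 1 U) :=
      subsingleton_ext_injective _ (Injective.under F) 0
    exact subsingleton_HU_one_of_surjective hS U
      (surjective_sections_of_sieve hS U fun R hR => hF U R hR 0)
  | succ q ih =>
    intro F hF
    have hS := injSC_shortExact F
    have hS' := shortExact_botIncl hS
      fun X => surjective_sections_of_sieve hS X fun R hR => hF X R hR 0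
    let Xu := (presheafToSheaf J AddCommGrpCat.{u}).obj (yoneda.obj U ⋙ AddCommGrpCat.free.{u})
    haveI : Subsingleton (Ext Xu (injSC F).X₂ (q + 1 + 1)) :=
      subsingleton_ext_injective _ (Injective.under F) _
    haveI : Subsingleton (Ext Xu (injSC F).X₃ (q + 1)) :=
      ih _ fun X R hR p => by
        haveI : Subsingleton (Ext (botFree R.functor) ((injSC F).map (botIncl J)).X₂ (p + 1)) :=
          haveI := injective_botIncl (J := J) (Injective.under F)
          subsingleton_ext_injective _ ((botIncl J).obj (Injective.under F)) p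
        haveI : Subsingleton (Ext (botFree R.functor) ((injSC F).map (botIncl J)).X₁ (p + 1 + 1)) :=
          hF X R hR (p + 1)
        exact subsingleton_ext_of_shift' hS' (X := botFree R.functor) (n := p + 1)
    exact subsingleton_ext_of_shift hS (X := Xu) (n := q + 1)

end CohLib
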