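import Groth.Agent.CohLib.Leray
import Groth.Agent.CohLib.SieveCoh

/-!
# The presheaves `H^q(-, M)` as derived functors of the inclusion in presheaves
-/

universe u

set_option linter.style.haveILetI false

open CategoryTheory CategoryTheory.Limits Opposite CategoryTheory.Abelian

namespace CohLib

variable {C : Type u} [SmallCategory C] {J : GrothendieckTopology C}

/-- The free sheaf on a representable. -/
noncomputable abbrev freeSh (J : GrothendieckTopology C) (U : C) : Sheaf J AddCommGrpCat.{u} :=
  (presheafToSheaf J AddCommGrpCat.{u}).obj (yoneda.obj U ⋙ AddCommGrpCat.free.{u})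

/-- The map of free sheaves induced by a morphism. -/
noncomputable abbrev freeShMap (J : GrothendieckTopology C) {U V : C} (f : V ⟶ U) :
    freeSh J V ⟶ freeSh J U :=
  (presheafToSheaf J AddCommGrpCat.{u}).map (Functor.whiskerRight (yoneda.map f) AddCommGrpCat.free.{u})

lemma secEquiv_precomp {U V : C} (f : V ⟶ U) (F : Sheaf J AddCommGrpCat.{u}) (t : freeSh J U ⟶ F) :
    secEquiv V F (freeShMap J f ≫ t) = F.obj.map f.op (secEquiv U F t) := by
  change yonedaEquiv (freePshEquiv _ _ ((sheafificationAdjunction J _).homEquiv _ _ (_ ≫ t))) = _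
  rw [Adjunction.homEquiv_naturality_left]
  unfold freePshEquiv
  erw [Adjunction.homEquiv_naturality_left]
  exact (yonedaEquiv_naturality _ f).symm

variable {M : Sheaf J AddCommGrpCat.{u}} (R : InjectiveResolution M)

/-- The complex of presheaves of sections of an injective resolution. -/
noncomputable abbrev secCx : CochainComplex (Cᵒᵖ ⥤ AddCommGrpCat.{u}) ℕ :=
  ((sheafToPresheaf J AddCommGrpCat.{u}).mapHomologicalComplex _).obj R.cocomplex

lemma cycle_cond (q : ℕ) (U : Cᵒᵖ) (x : ((secCx R).cycles q).obj U) :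
    (secAddEquiv J U.unop (R.cocomplex.X q)).symm (((secCx R).iCycles q).app U x) ≫
      R.cocomplex.d q (q + 1) = 0 := by
  apply (secEquiv U.unop _).injective
  rw [secEquiv_comp, ← secAddEquiv_eq, AddEquiv.apply_symm_apply]
  have h := ConcreteCategory.congr_hom (NatTrans.congr_app ((secCx R).iCycles_d q (q + 1)) U) x
  refine Eq.trans ?_ (map_zero (secAddEquiv J U.unop (R.cocomplex.X (q + 1)))).symm
  exact h

/-- The class of a cycle. -/
noncomputable def cycleClass (q : ℕ) : (secCx R).cycles q ⟶ M.cohomologyPresheaf q where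
  app U := AddCommGrpCat.ofHom (AddMonoidHom.mk' (fun x => R.extMk
      ((secAddEquiv J U.unop (R.cocomplex.X q)).symm (((secCx R).iCycles q).app U x)) (q + 1) rfl
      (cycle_cond R q U x)) (fun x y => by
    rw [InjectiveResolution.add_extMk]
    congr 1
    rw [map_add]; exact map_add (secAddEquiv J U.unop (R.cocomplex.X q)).symm _ _))
  naturality U V f := by
    ext x
    refine Eq.trans ?_ (R.mk₀_comp_extMk _ (q + 1) rfl (cycle_cond R q U x) (freeShMap J f.unop)).symm
    change R.extMk _ (q + 1) rfl (cycle_cond R q V (((secCx R).cycles q).map f x)) = _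
    congr 1
    apply (secEquiv V.unop _).injective
    rw [secEquiv_precomp]
    refine ((secAddEquiv J V.unop (R.cocomplex.X q)).apply_symm_apply _).trans ?_
    refine Eq.trans ?_ (congrArg ((R.cocomplex.X q).obj.map f)
      ((secAddEquiv J U.unop (R.cocomplex.X q)).apply_symm_apply _)).symm
    exact ConcreteCategory.congr_hom (((secCx R).iCycles q).naturality f) x

lemma cycleClass_apply_eq_zero_iff (q : ℕ) (U : Cᵒᵖ) (x : ((secCx R).cycles q).obj U) :
    (cycleClass R q).app U x = 0 ↔
      ∃ y, ((secCx R).toCycles ((ComplexShape.up ℕ).prev q) q).app U y = x := by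
  haveI : Mono (((secCx R).iCycles q).app U) := inferInstance
  have hinj := (AddCommGrpCat.mono_iff_injective (((secCx R).iCycles q).app U)).1 inferInstance
  change R.extMk _ (q + 1) rfl (cycle_cond R q U x) = 0 ↔ _
  cases q with
  | zero =>
    rw [extMkInj_eq_zero_iff₀, AddEquiv.map_eq_zero_iff]
    constructor
    · intro h
      exact ⟨0, hinj ((congrArg (((secCx R).iCycles 0).app U) (map_zero _)).trans
        ((map_zero _).trans h.symm))⟩
    · rintro ⟨y, rfl⟩
      have h := ConcreteCategory.congr_hom
        (NatTrans.congr_app ((secCx R).toCycles_i ((ComplexShape.up ℕ).prev 0) 0) U) y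
      refine h.trans ?_
      rw [(secCx R).shape _ _ (by simp)]
      rfl
  | succ p =>
    have hp : (ComplexShape.up ℕ).prev (p + 1) = p := by simp
    rw [R.extMk_eq_zero_iff _ _ _ _ p rfl, hp]
    constructor
    · rintro ⟨g, hg⟩
      refine ⟨secAddEquiv J U.unop _ g, hinj ?_⟩
      refine (ConcreteCategory.congr_hom
        (NatTrans.congr_app ((secCx R).toCycles_i p (p + 1)) U) _).trans ?_
      refine ((secEquiv_comp U.unop (R.cocomplex.d p (p + 1)) g).symm.trans ?_)
      rw [hg]
      exact (secAddEquiv J U.unop _).apply_symm_apply _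
    · rintro ⟨y, rfl⟩
      refine ⟨(secAddEquiv J U.unop _).symm y, (secEquiv U.unop _).injective ?_⟩
      rw [secEquiv_comp, ← secAddEquiv_eq, ← secAddEquiv_eq, AddEquiv.apply_symm_apply,
        AddEquiv.apply_symm_apply]
      exact (ConcreteCategory.congr_hom
        (NatTrans.congr_app ((secCx R).toCycles_i p (p + 1)) U) y).symm

lemma surjective_cycleClass (q : ℕ) (U : Cᵒᵖ) : Function.Surjective ((cycleClass R q).app U) := by
  intro α
  obtain ⟨f, hf, rfl⟩ := R.extMk_surjective α (q + 1) rfl
  let ev := (evaluation Cᵒᵖ AddCommGrpCat.{u}).obj U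
  let S : ShortComplex (Cᵒᵖ ⥤ AddCommGrpCat.{u}) := ShortComplex.mk _ _ ((secCx R).iCycles_d q (q + 1))
  have hS : (S.map ev).Exact :=
    (ShortComplex.exact_of_f_is_kernel S ((secCx R).cyclesIsKernel q (q + 1) (by simp))).map ev
  obtain ⟨x, hx⟩ := (ShortComplex.ab_exact_iff _).1 hS (secAddEquiv J U.unop _ f) (by
    refine (secEquiv_comp U.unop (R.cocomplex.d q (q + 1)) f).symm.trans ?_
    rw [hf]
    exact map_zero (secAddEquiv J U.unop _))
  refine ⟨x, ?_⟩
  change R.extMk _ (q + 1) rfl (cycle_cond R q U x) = R.extMk f (q + 1) rfl hf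
  congr 1
  exact ((congrArg (secAddEquiv J U.unop _).symm hx)).trans ((secAddEquiv J U.unop _).symm_apply_apply f)

/-- The homology presheaves of an injective resolution are the cohomology presheaves. -/
theorem nonempty_secCx_homology_iso (q : ℕ) :
    Nonempty ((secCx R).homology q ≅ M.cohomologyPresheaf q) := by
  let i := (ComplexShape.up ℕ).prev q
  have zero : (secCx R).toCycles i q ≫ cycleClass R q = 0 := by
    ext U x
    exact (cycleClass_apply_eq_zero_iff R q U _).2 ⟨x, rfl⟩
  let S : ShortComplex (Cᵒᵖ ⥤ AddCommGrpCat.{u}) := ShortComplex.mk _ _ zero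
  haveI : ∀ U, Epi ((cycleClass R q).app U) := fun U =>
    (AddCommGrpCat.epi_iff_surjective _).2 (surjective_cycleClass R q U)
  haveI : Epi S.g := NatTrans.epi_of_epi_app _
  have hS : S.Exact := by
    rw [ShortComplex.exact_iff_isZero_homology, Functor.isZero_iff]
    intro U
    have : (S.map ((evaluation Cᵒᵖ AddCommGrpCat.{u}).obj U)).Exact :=
      (ShortComplex.ab_exact_iff _).2 fun x hx => (cycleClass_apply_eq_zero_iff R q U x).1 hx
    exact ((ShortComplex.exact_iff_isZero_homology _).1 this).of_iso
      (S.mapHomologyIso ((evaluation Cᵒᵖ AddCommGrpCat.{u}).obj U)).symm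
  exact ⟨IsColimit.coconePointUniqueUpToIso ((secCx R).homologyIsCokernel i q rfl) hS.gIsCokernel⟩

end CohLib
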