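import Groth.Agent.ModSiteLib.TensorSheaf
import Groth.Prelude.Def_ExtSupp
import Mathlib.Algebra.Category.ModuleCat.Presheaf.Free

/-!
# Collapsing free presheaves of modules: maps vanishing on an open
-/

universe u

set_option linter.style.haveILetI false

open CategoryTheory CategoryTheory.Limits Opposite MonoidalCategory
open ModSiteLib (PMod aP jP adjP)

namespace CohLib

variable {C : Type u} [SmallCategory C] {J : GrothendieckTopology C} {O : Sheaf J CommRingCat.{u}}

/-- The map to the unit presheaf sending every generator to `1`. -/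
noncomputable def oneDesc (O : Sheaf J CommRingCat.{u}) (K : Cᵒᵖ ⥤ Type u) :
    (PresheafOfModules.free (O.obj ⋙ forget₂ CommRingCat.{u} RingCat.{u})).obj K ⟶ 𝟙_ (PMod O) :=
  PresheafOfModules.freeObjDesc
    { app := fun X => ↾fun _ => (1 : O.obj.obj X)
      naturality := fun X Y f => by
        ext x
        exact ((O.obj.map f).hom.map_one).symm }

/-- `free K ⊗ G ⟶ G`, collapsing the generators. -/
noncomputable def clp (K : Cᵒᵖ ⥤ Type u) (G : PMod O) :
    (PresheafOfModules.free (O.obj ⋙ forget₂ CommRingCat.{u} RingCat.{u})).obj K ⊗ G ⟶ G :=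
  oneDesc O K ▷ G ≫ (λ_ G).hom

@[reassoc]
lemma clp_naturality (K : Cᵒᵖ ⥤ Type u) {G G' : PMod O} (φ : G ⟶ G') :
    (_ ◁ φ) ≫ clp K G' = clp K G ≫ φ := by
  simp only [clp, Category.assoc, ← leftUnitor_naturality, whisker_exchange_assoc]

lemma clp_app_tmul (K : Cᵒᵖ ⥤ Type u) (G : PMod O) (X : Cᵒᵖ) (x : K.obj X) (m : G.obj X) :
    (clp K G).app X (ModuleCat.freeMk x ⊗ₜ[O.obj.obj X] m) = m := by
  refine Eq.trans ?_ (one_smul (O.obj.obj X) m)
  change (λ_ (G.obj X)).hom (((oneDesc O K).app X ▷ G.obj X) (ModuleCat.freeMk x ⊗ₜ[O.obj.obj X] m)) = _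
  erw [ModuleCat.MonoidalCategory.whiskerRight_apply, ModuleCat.MonoidalCategory.leftUnitor_hom_apply]
  congr 1
  erw [ModuleCat.freeDesc_apply]
  rfl

/-- A map kills the collapse of `K` iff it vanishes on every object over which `K` has a section. -/
theorem clp_comp_eq_zero_iff (K : Cᵒᵖ ⥤ Type u) {G G' : PMod O} (φ : G ⟶ G') :
    clp K G ≫ φ = 0 ↔ ∀ X : Cᵒᵖ, Nonempty (K.obj X) → ∀ m : G.obj X, φ.app X m = 0 := by
  constructor
  · rintro h X ⟨x⟩ m
    have h' := congrArg (fun t => (PresheafOfModules.Hom.app t X) (ModuleCat.freeMk x ⊗ₜ[O.obj.obj X] m)) h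
    refine ((congrArg (φ.app X) (clp_app_tmul K G X x m)).symm.trans ?_)
    exact h'
  · intro h
    ext1 X
    refine ModuleCat.MonoidalCategory.tensor_ext (fun m₁ m₂ => ?_)
    by_cases hX : Nonempty (K.obj X)
    · exact h X hX _
    · haveI : IsEmpty (K.obj X) := not_nonempty_iff.1 hX
      have hm : m₁ = 0 := Finsupp.ext fun x => isEmptyElim x
      subst hm
      rw [TensorProduct.zero_tmul]
      exact map_zero _

end CohLib
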