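import Mathlib

/-!
# Constant sheaves: set-theoretic sections and lifting of global sections
-/

set_option autoImplicit false
set_option backward.isDefEq.respectTransparency false
set_option backward.isDefEq.respectTransparency.types false
set_option linter.style.haveILetI false

universe u

open CategoryTheory CategoryTheory.Limits Opposite

namespace CohLib

variable {C : Type u} [SmallCategory C] {J : GrothendieckTopology C}

/-- A set-theoretic section of `g` gives a natural section of the constant sheaves. -/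
theorem exists_section_constantSheaf {X Y : AddCommGrpCat.{u}} (g : X ⟶ Y) (hg : Function.Surjective g) :
    ∃ r : ((constantSheaf J AddCommGrpCat.{u}).obj Y).obj ⋙ forget AddCommGrpCat.{u} ⟶
        ((constantSheaf J AddCommGrpCat.{u}).obj X).obj ⋙ forget AddCommGrpCat.{u},
      r ≫ Functor.whiskerRight ((constantSheaf J AddCommGrpCat.{u}).map g).hom (forget AddCommGrpCat.{u}) = 𝟙 _ := by
  choose s hs using hg
  let cA := (Functor.const Cᵒᵖ).obj X
  let cB := (Functor.const Cᵒᵖ).obj Y
  let g₀ : cA ⋙ forget AddCommGrpCat.{u} ⟶ cB ⋙ forget AddCommGrpCat.{u} :=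
    Functor.whiskerRight ((Functor.const Cᵒᵖ).map g) (forget AddCommGrpCat.{u})
  let s₀ : cB ⋙ forget AddCommGrpCat.{u} ⟶ cA ⋙ forget AddCommGrpCat.{u} :=
    { app := fun _ => TypeCat.ofHom s
      naturality := fun _ _ _ => rfl }
  let ηA := Functor.whiskerRight (toSheafify J cA) (forget AddCommGrpCat.{u})
  let ηB := Functor.whiskerRight (toSheafify J cB) (forget AddCommGrpCat.{u})
  have hW : J.W ηB := GrothendieckTopology.W_of_preservesSheafification J
    (forget AddCommGrpCat.{u}) _ (J.W_toSheafify cB)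
  let gS : sheafify J cA ⋙ forget AddCommGrpCat.{u} ⟶ sheafify J cB ⋙ forget AddCommGrpCat.{u} :=
    Functor.whiskerRight (sheafifyMap J ((Functor.const Cᵒᵖ).map g)) (forget AddCommGrpCat.{u})
  have hA : Presheaf.IsSheaf J (sheafify J cA ⋙ forget AddCommGrpCat.{u}) :=
    ((sheafCompose J (forget AddCommGrpCat.{u})).obj ((presheafToSheaf J _).obj cA)).property
  have hB : Presheaf.IsSheaf J (sheafify J cB ⋙ forget AddCommGrpCat.{u}) :=
    ((sheafCompose J (forget AddCommGrpCat.{u})).obj ((presheafToSheaf J _).obj cB)).property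
  obtain ⟨r, hr⟩ := (hW _ hA).2 (s₀ ≫ ηA)
  have hnat : ηA ≫ gS = g₀ ≫ ηB := by
    simp only [ηA, ηB, gS, g₀, ← Functor.whiskerRight_comp]
    exact congrArg (Functor.whiskerRight · _) (toSheafify_naturality J _).symm
  refine ⟨r, (hW _ hB).1 ?_⟩
  change ηB ≫ r ≫ gS = ηB ≫ 𝟙 _
  have hr' : ηB ≫ r = s₀ ≫ ηA := hr
  have hsg : s₀ ≫ g₀ = 𝟙 _ := by
    ext V b
    exact hs b
  rw [reassoc_of% hr', hnat, Category.comp_id, ← Category.assoc, hsg, Category.id_comp]

/-- Global sections of a constant sheaf lift along surjections of the values. -/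
theorem exists_lift_global {X Y : AddCommGrpCat.{u}} (g : X ⟶ Y) (hg : Function.Surjective g)
    (y : (constantSheaf J AddCommGrpCat.{u}).obj (AddCommGrpCat.of (ULift.{u} ℤ)) ⟶
      (constantSheaf J AddCommGrpCat.{u}).obj Y) :
    ∃ z, z ≫ (constantSheaf J AddCommGrpCat.{u}).map g = y := by
  obtain ⟨r, hr⟩ := exists_section_constantSheaf (J := J) g hg
  let adj := sheafificationAdjunction J AddCommGrpCat.{u}
  let y₀ : (Functor.const Cᵒᵖ).obj (AddCommGrpCat.of (ULift.{u} ℤ)) ⟶
      ((constantSheaf J AddCommGrpCat.{u}).obj Y).obj := adj.homEquiv _ _ y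
  let m : ∀ U : Cᵒᵖ, ((constantSheaf J AddCommGrpCat.{u}).obj X).obj.obj U := fun U =>
    r.app U (y₀.app U (ULift.up 1))
  let z₀ : (Functor.const Cᵒᵖ).obj (AddCommGrpCat.of (ULift.{u} ℤ)) ⟶
      ((constantSheaf J AddCommGrpCat.{u}).obj X).obj :=
    { app := fun U => AddCommGrpCat.ofHom ((zmultiplesHom _ (m U)).comp AddEquiv.ulift.toAddMonoidHom)
      naturality := fun U V f => by
        ext ⟨k⟩
        have h₁ : y₀.app V (ULift.up 1) = ((constantSheaf J AddCommGrpCat.{u}).obj Y).obj.map f (y₀.app U (ULift.up 1)) :=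
          ConcreteCategory.congr_hom (y₀.naturality f) (ULift.up 1)
        have h₂ : m V = ((constantSheaf J AddCommGrpCat.{u}).obj X).obj.map f (m U) :=
          (congrArg (r.app V) h₁).trans (ConcreteCategory.congr_hom (r.naturality f) _)
        change k • m V = ((constantSheaf J AddCommGrpCat.{u}).obj X).obj.map f (k • m U)
        rw [map_zsmul, h₂] }
  refine ⟨(adj.homEquiv _ _).symm z₀, (adj.homEquiv _ _).injective ?_⟩
  refine (adj.homEquiv_naturality_right _ _).trans ?_
  rw [Equiv.apply_symm_apply]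
  ext U ⟨k⟩
  have hm : ((constantSheaf J AddCommGrpCat.{u}).map g).hom.app U (m U) = y₀.app U (ULift.up 1) :=
    ConcreteCategory.congr_hom (NatTrans.congr_app hr U) _
  change ((constantSheaf J AddCommGrpCat.{u}).map g).hom.app U (k • m U) = y₀.app U (ULift.up k)
  rw [map_zsmul, hm, ← map_zsmul]
  refine congrArg (y₀.app U) (ULift.ext _ _ ?_)
  simp

/-- `H¹` of constant sheaves: injective maps of values give injective maps. -/
theorem injective_H_map_constantSheaf {A B : Type u} [AddCommGroup A] [AddCommGroup B] (f : A →+ B)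
    (hf : Function.Injective f) :
    Function.Injective (Sheaf.H.map ((constantSheaf J AddCommGrpCat.{u}).map (AddCommGrpCat.ofHom f)) 1) := by
  let f' := AddCommGrpCat.ofHom f
  haveI : Mono f' := (AddCommGrpCat.mono_iff_injective _).2 hf
  let S : ShortComplex AddCommGrpCat.{u} := ShortComplex.mk f' (cokernel.π f') (cokernel.condition f')
  have hS : S.ShortExact := { exact := ShortComplex.exact_cokernel f' }
  haveI : (presheafToSheaf J AddCommGrpCat.{u}).Additive :=
    (sheafificationAdjunction J AddCommGrpCat.{u}).left_adjoint_additive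
  haveI : PreservesFiniteLimits (constantSheaf J AddCommGrpCat.{u}) :=
    @comp_preservesFiniteLimits _ _ _ _ _ _ (Functor.const Cᵒᵖ) (presheafToSheaf J AddCommGrpCat.{u}) inferInstance inferInstance
  haveI : PreservesColimitsOfSize.{0, 0} (presheafToSheaf J AddCommGrpCat.{u}) :=
    (sheafificationAdjunction J AddCommGrpCat.{u}).leftAdjoint_preservesColimits
  haveI : PreservesFiniteColimits (constantSheaf J AddCommGrpCat.{u}) :=
    @comp_preservesFiniteColimits _ _ _ _ _ _ (Functor.const Cᵒᵖ) (presheafToSheaf J AddCommGrpCat.{u}) inferInstance inferInstance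
  haveI : (constantSheaf J AddCommGrpCat.{u}).PreservesZeroMorphisms :=
    inferInstanceAs (Functor.const Cᵒᵖ ⋙ presheafToSheaf J AddCommGrpCat.{u}).PreservesZeroMorphisms
  have hS' := hS.map_of_exact (constantSheaf J AddCommGrpCat.{u})
  refine (injective_iff_map_eq_zero _).2 fun x hx => ?_
  obtain ⟨y, hy⟩ := Abelian.Ext.covariant_sequence_exact₁ _ hS' x hx (n₀ := 0) (by omega)
  obtain ⟨t, rfl⟩ := (Abelian.Ext.mk₀_bijective _ _).2 y
  obtain ⟨z, hz⟩ := exists_lift_global (cokernel.π f') ((AddCommGrpCat.epi_iff_surjective _).1 inferInstance) t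
  refine hy.symm.trans ?_
  have hz' : z ≫ (S.map (constantSheaf J AddCommGrpCat.{u})).g = t := hz
  rw [← hz', ← Abelian.Ext.mk₀_comp_mk₀, Abelian.Ext.comp_assoc_of_second_deg_zero,
    ShortComplex.ShortExact.comp_extClass, Abelian.Ext.comp_zero]

end CohLib
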