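import Groth.Agent.CohLib.Cech

/-!
# Transport of `HomExact` along adjunctions
-/

universe u

open CategoryTheory CategoryTheory.Limits Opposite Simplicial AlgebraicTopology

namespace CohLib

variable {A : Type (u + 1)} [Category.{u} A] [Preadditive A]
  {B : Type (u + 1)} [Category.{u} B] [Preadditive B]

lemma homExact_of_adjunction {T : A ⥤ B} {S : B ⥤ A} (adj : T ⊣ S) [T.Additive]
    {P : ChainComplex A ℕ} {G : B} {q : ℕ}
    (h : HomExact ((T.mapHomologicalComplex _).obj P) G q) : HomExact P (S.obj G) q := by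
  intro x hx
  obtain ⟨y, hy⟩ := h ((adj.homEquiv _ _).symm x) (by
    change T.map _ ≫ _ = 0
    rw [← adj.homEquiv_naturality_left_symm, hx]
    simp [Adjunction.homEquiv_symm_apply])
  refine ⟨adj.homEquiv _ _ y, ?_⟩
  rw [← adj.homEquiv_naturality_left]
  exact (Equiv.eq_symm_apply _).1 hy

lemma homExact_of_natTrans {E : Type (u + 1)} [Category.{u} E] {Z₁ : E ⥤ A} {Φ : E ⥤ B}
    (R : B ⥤ A) [R.Additive] (η : Z₁ ⟶ Φ ⋙ R)
    (hη : ∀ (L : E) (H : B), Function.Bijective
      (fun y : Φ.obj L ⟶ H => η.app L ≫ R.map y)) (X : SimplicialObject E) {H : B} {q : ℕ}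
    (h : HomExact ((alternatingFaceMapComplex B).obj (X ⋙ Φ)) H q) :
    HomExact ((alternatingFaceMapComplex A).obj (X ⋙ Z₁)) (R.obj H) q := by
  have hd : ∀ n, ((alternatingFaceMapComplex A).obj (X ⋙ Z₁)).d (n + 1) n ≫ η.app (X _⦋n⦌) =
      η.app (X _⦋n + 1⦌) ≫ R.map (((alternatingFaceMapComplex B).obj (X ⋙ Φ)).d (n + 1) n) := by
    intro n
    rw [alternatingFaceMapComplex_obj_d, alternatingFaceMapComplex_obj_d,
      AlternatingFaceMapComplex.objD, AlternatingFaceMapComplex.objD, Preadditive.sum_comp,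
      R.map_sum]
    refine Eq.trans ?_ (Preadditive.comp_sum _ _ _).symm
    refine Finset.sum_congr rfl fun i _ => ?_
    rw [R.map_zsmul, Preadditive.comp_zsmul, Preadditive.zsmul_comp]
    exact congrArg _ (η.naturality (X.δ i))
  intro x hx
  obtain ⟨x', hx'⟩ := (hη (X _⦋q + 1⦌) H).2 x
  obtain ⟨y, hy⟩ := h x' ((hη (X _⦋q + 2⦌) H).1 (by
    change η.app _ ≫ R.map _ = η.app _ ≫ R.map 0
    rw [R.map_zero, comp_zero, R.map_comp]
    refine ((Category.assoc _ _ _).symm.trans ?_)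
    refine (congrArg (· ≫ _) (hd (q + 1)).symm).trans ((Category.assoc _ _ _).trans ?_)
    exact (congrArg (_ ≫ ·) hx').trans hx))
  refine ⟨η.app (X _⦋q⦌) ≫ R.map y, ?_⟩
  refine ((Category.assoc _ _ _).symm.trans ?_)
  refine (congrArg (· ≫ _) (hd q)).trans ((Category.assoc _ _ _).trans ?_)
  rw [← R.map_comp, hy]
  exact hx'

end CohLib
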