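import Groth.Agent.CohLib.HomExact
import Mathlib.Algebra.Category.ModuleCat.Presheaf.Free
import Mathlib.Algebra.Category.ModuleCat.Sheaf.Abelian
import Mathlib.Algebra.Category.ModuleCat.Presheaf.Sheafification

/-!
# Injective sheaves of modules are totally acyclic
-/

universe u

set_option linter.style.haveILetI false

open CategoryTheory CategoryTheory.Limits Opposite Simplicial AlgebraicTopology

namespace CohLib

variable {C : Type u} [SmallCategory C] {J : GrothendieckTopology C} (R : Sheaf J RingCat.{u})

/-- Sheafification of presheaves of modules. -/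
noncomputable abbrev aR : PresheafOfModules.{u} R.obj ⥤ SheafOfModules.{u} R :=
  PresheafOfModules.sheafification.{u} (𝟙 R.obj)

/-- The sheafification adjunction. -/
noncomputable abbrev adjR : aR R ⊣ SheafOfModules.forget R ⋙ PresheafOfModules.restrictScalars (𝟙 R.obj) :=
  PresheafOfModules.sheafificationAdjunction.{u} (𝟙 R.obj)

/-- Free sheaf of modules on a sheaf of sets. -/
noncomputable abbrev freeModR : Sheaf J (Type u) ⥤ SheafOfModules.{u} R :=
  sheafToPresheaf J (Type u) ⋙ PresheafOfModules.free R.obj ⋙ aR R

/-- Free modules on sheaves of sets are left adjoint to forgetting. -/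
noncomputable def freeModRAdj :
    freeModR R ⊣ SheafOfModules.toSheaf R ⋙ sheafCompose J (forget AddCommGrpCat.{u}) :=
  ((PresheafOfModules.freeAdjunction _).comp (adjR R)).restrictFullyFaithful
    (fullyFaithfulSheafToPresheaf J (Type u)) (Functor.FullyFaithful.id _) (Iso.refl _) (Iso.refl _)

/-- The map from the free abelian sheaf to the free module. -/
noncomputable def toFreeModR : Z J ⟶ freeModR R ⋙ SheafOfModules.toSheaf R where
  app L := ((adjZ J).homEquiv _ _).symm ((freeModRAdj R).unit.app L)
  naturality L M g := by
    apply ((adjZ J).homEquiv _ _).injective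
    rw [Adjunction.homEquiv_naturality_left, Adjunction.homEquiv_naturality_right,
      Equiv.apply_symm_apply, Equiv.apply_symm_apply]
    exact (freeModRAdj R).unit.naturality g

lemma toFreeModR_bijective (L : Sheaf J (Type u)) (H : SheafOfModules.{u} R) :
    Function.Bijective (fun y : (freeModR R).obj L ⟶ H =>
      (toFreeModR R).app L ≫ (SheafOfModules.toSheaf R).map y) := by
  have : (fun y : (freeModR R).obj L ⟶ H =>
      (toFreeModR R).app L ≫ (SheafOfModules.toSheaf R).map y) =
      ((adjZ J).homEquiv _ _).symm ∘ (freeModRAdj R).homEquiv L H := by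
    funext y
    apply ((adjZ J).homEquiv _ _).injective
    change (adjZ J).homEquiv _ _ (((adjZ J).homEquiv L _).symm ((freeModRAdj R).unit.app L) ≫
      (SheafOfModules.toSheaf R).map y) =
      (adjZ J).homEquiv _ _ (((adjZ J).homEquiv _ _).symm ((freeModRAdj R).homEquiv L H y))
    rw [Equiv.apply_symm_apply, Adjunction.homEquiv_naturality_right]
    erw [Equiv.apply_symm_apply]
    exact ((freeModRAdj R).homEquiv_unit L H y).symm
  rw [this]
  exact ((adjZ J).homEquiv _ _).symm.bijective.comp ((freeModRAdj R).homEquiv L H).bijective

variable {K' K : Sheaf J (Type u)} (f : K' ⟶ K)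

lemma quasiIso_freeModNerve :
    QuasiIso (AlternatingFaceMapComplex.ε.app (((SimplicialObject.Augmented.whiskering _ _).obj
      (PresheafOfModules.free R.obj)).obj (presheafNerve f))) := by
  let T := PresheafOfModules.toPresheaf R.obj
  let A := ((SimplicialObject.Augmented.whiskering _ _).obj
      (PresheafOfModules.free R.obj)).obj (presheafNerve f)
  haveI : QuasiIso (AlternatingFaceMapComplex.ε.app
      (((SimplicialObject.Augmented.whiskering _ _).obj T).obj A)) := by
    rw [HomologicalComplex.quasiIso_iff_evaluation]
    intro U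
    have ed := (nerveExtraDegeneracy f U).map
      (ModuleCat.free (R.obj.obj U) ⋙ forget₂ (ModuleCat (R.obj.obj U)) AddCommGrpCat.{u})
    haveI : QuasiIso (AlternatingFaceMapComplex.ε.app
        (((SimplicialObject.Augmented.whiskering _ _).obj
          ((evaluation Cᵒᵖ AddCommGrpCat.{u}).obj U)).obj
          (((SimplicialObject.Augmented.whiskering _ _).obj T).obj A))) :=
      inferInstanceAs (QuasiIso ed.homotopyEquiv.hom)
    exact quasiIso_of_arrowIso (mapεArrowIso ((evaluation Cᵒᵖ AddCommGrpCat.{u}).obj U)
      (((SimplicialObject.Augmented.whiskering _ _).obj T).obj A)).symm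
  have h : QuasiIso ((T.mapHomologicalComplex _).map (AlternatingFaceMapComplex.ε.app A)) :=
    quasiIso_of_arrowIso (mapεArrowIso T A).symm
  exact (HomologicalComplex.quasiIso_map_iff_of_preservesHomology _ T).1 h

theorem allCechExact_toSheaf (I : SheafOfModules.{u} R) [Injective I] :
    AllCechExact ((SheafOfModules.toSheaf R).obj I) := by
  intro K' K f _ q
  refine homExact_of_natTrans (SheafOfModules.toSheaf R) (toFreeModR R)
    (toFreeModR_bijective R) (Arrow.mk f).cechNerve ?_
  haveI : PreservesFiniteLimits (aR R) := inferInstance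
  haveI : PreservesFiniteColimits (aR R) :=
    haveI := (adjR R).leftAdjoint_preservesColimits
    inferInstance
  haveI : (aR R).Additive := (adjR R).left_adjoint_additive
  haveI : (aR R).PreservesHomology := inferInstance
  let A := ((SimplicialObject.Augmented.whiskering _ _).obj
      (PresheafOfModules.free R.obj)).obj (presheafNerve f)
  haveI : QuasiIso (AlternatingFaceMapComplex.ε.app A) := quasiIso_freeModNerve R f
  haveI : QuasiIso (AlternatingFaceMapComplex.ε.app
      (((SimplicialObject.Augmented.whiskering _ _).obj (aR R)).obj A)) :=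
    quasiIso_of_arrowIso (mapεArrowIso (aR R) A)
  exact homExact_of_injective _ (AlternatingFaceMapComplex.ε.app
    (((SimplicialObject.Augmented.whiskering _ _).obj (aR R)).obj A)) I q

theorem isTotallyAcyclic_toSheaf (I : SheafOfModules.{u} R) [Injective I] :
    CohCx.IsTotallyAcyclic ((SheafOfModules.toSheaf R).obj I) :=
  isTotallyAcyclic_of_allCechExact (allCechExact_toSheaf R I)

end CohLib
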