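import Groth.Agent.CohLib.CohPresheaf
import Groth.Agent.CohLib.ExtShift

/-!
# Higher cohomology classes vanish locally; the first cohomology of a product
-/

universe u

set_option autoImplicit false
set_option backward.isDefEq.respectTransparency false
set_option backward.isDefEq.respectTransparency.types false

open CategoryTheory CategoryTheory.Limits Opposite CategoryTheory.Abelian

namespace CohLib

variable {C : Type u} [SmallCategory C] {J : GrothendieckTopology C}

lemma res_apply (F : Sheaf J AddCommGrpCat.{u}) (n : ℕ) {U V : C} (f : V ⟶ U)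
    (x : Ext (freeSh J U) F n) :
    CohSite.res F n f x = ((Ext.mk₀ (freeShMap J f)).comp x (zero_add n) : Ext (freeSh J V) F n) := rfl

/-- Cohomology classes in positive degree vanish on a covering. -/
theorem exists_cover_res_eq_zero (n : ℕ) : ∀ (F : Sheaf J AddCommGrpCat.{u}) (U : C)
    (ξ : Ext (freeSh J U) F (n + 1)), ∃ R ∈ J U, ∀ ⦃V : C⦄ (f : V ⟶ U), R f →
      CohSite.res F (n + 1) f ξ = 0 := by
  induction n with
  | zero =>
    intro F U ξ
    have hS := injSC_shortExact F
    obtain ⟨y, rfl⟩ := Ext.covariant_sequence_exact₁ (freeSh J U) hS ξ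
      (Ext.eq_zero_of_injective _) (n₀ := 0) (by omega)
    obtain ⟨t, rfl⟩ := Ext.mk₀_bijective _ _ |>.2 y
    haveI : Sheaf.IsLocallySurjective (injSC F).g :=
      (Sheaf.isLocallySurjective_iff_epi' AddCommGrpCat.{u} (injSC F).g).2 inferInstance
    refine ⟨_, Presheaf.imageSieve_mem J (injSC F).g.hom (secEquiv U _ t), fun V f hf => ?_⟩
    obtain ⟨s, hs⟩ := hf
    have h : freeShMap J f ≫ t = (secEquiv V (injSC F).X₂).symm s ≫ (injSC F).g := by
      apply (secEquiv V _).injective
      rw [secEquiv_precomp, secEquiv_comp, Equiv.apply_symm_apply]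
      exact hs.symm
    rw [res_apply, ← Ext.comp_assoc (Ext.mk₀ (freeShMap J f)) (Ext.mk₀ t) hS.extClass (zero_add 0)
      (zero_add 1) (by omega), Ext.mk₀_comp_mk₀, h, ← Ext.mk₀_comp_mk₀,
      Ext.comp_assoc_of_second_deg_zero, ShortComplex.ShortExact.comp_extClass, Ext.comp_zero]
  | succ n ih =>
    intro F U ξ
    have hS := injSC_shortExact F
    obtain ⟨y, rfl⟩ := Ext.covariant_sequence_exact₁ (freeSh J U) hS ξ
      (Ext.eq_zero_of_injective _) (n₀ := n + 1) rfl
    obtain ⟨R, hR, h⟩ := ih _ U y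
    refine ⟨R, hR, fun V f hf => ?_⟩
    have h' : ((Ext.mk₀ (freeShMap J f)).comp y (zero_add (n + 1))) = 0 := h f hf
    rw [res_apply, ← Ext.comp_assoc (Ext.mk₀ (freeShMap J f)) y hS.extClass (zero_add (n + 1))
      rfl (by omega), h', Ext.zero_comp]

/-- A class in `Ext¹` of a product vanishes as soon as all its components vanish. -/
theorem ext_one_pi_eq_zero {A : Type*} [Category A] [Abelian A] [HasExt.{u} A] [EnoughInjectives A]
    {I : Type u} (F : I → A) [HasProduct F] [HasProduct fun i => Injective.under (F i)]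
    [HasProduct fun i => cokernel (Injective.ι (F i))]
    (X : A) (x : Ext.{u} X (∏ᶜ F) 1)
    (hx : ∀ i, x.comp (Ext.mk₀ (Pi.π F i)) (add_zero 1) = 0) : x = 0 := by
  let f : ∏ᶜ F ⟶ ∏ᶜ fun i => Injective.under (F i) := Limits.Pi.map fun i => Injective.ι (F i)
  let g : (∏ᶜ fun i => Injective.under (F i)) ⟶ ∏ᶜ fun i => cokernel (Injective.ι (F i)) :=
    Limits.Pi.map fun i => cokernel.π (Injective.ι (F i))
  have hfg : f ≫ g = 0 := by
    ext i
    simp [f, g]
  have hlift : ∀ {T : A} (t : T ⟶ ∏ᶜ fun i => Injective.under (F i)), t ≫ g = 0 →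
      { l : T ⟶ ∏ᶜ F // l ≫ f = t } := fun {T} t ht => by
    have hc : ∀ i, (t ≫ Pi.π _ i) ≫ cokernel.π (Injective.ι (F i)) = 0 := fun i => by
      simpa [g] using congrArg (· ≫ Pi.π _ i) ht
    refine ⟨Pi.lift fun i => (injSC_shortExact (F i)).exact.lift (t ≫ Pi.π _ i) (hc i), ?_⟩
    ext i
    simp [f]
    exact (injSC_shortExact (F i)).exact.lift_f _ (hc i)
  haveI : Mono f := by
    refine ⟨fun a b hab => Pi.hom_ext _ _ fun i => ?_⟩
    rw [← cancel_mono (Injective.ι (F i))]
    simpa [f] using congrArg (· ≫ Pi.π _ i) hab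
  have hfge : (ShortComplex.mk f g hfg).Exact :=
    ShortComplex.exact_of_f_is_kernel _ (KernelFork.IsLimit.ofι' _ hfg hlift)
  let S : ShortComplex A := ShortComplex.mk f (cokernel.π f) (cokernel.condition f)
  have hS : S.ShortExact := { exact := ShortComplex.exact_cokernel f }
  let d : cokernel f ⟶ ∏ᶜ fun i => cokernel (Injective.ι (F i)) := cokernel.desc f g hfg
  haveI : Mono d := hfge.mono_cokernelDesc
  obtain ⟨y, rfl⟩ := Ext.covariant_sequence_exact₁ X hS x (Ext.eq_zero_of_injective _) (n₀ := 0) (by omega)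
  obtain ⟨t, rfl⟩ := Ext.mk₀_bijective _ _ |>.2 y
  have key : ∀ i, ∃ s : X ⟶ Injective.under (F i),
      s ≫ cokernel.π (Injective.ι (F i)) = t ≫ d ≫ Pi.π _ i := fun i => by
    let φ : S ⟶ injSC (F i) :=
      { τ₁ := Pi.π F i
        τ₂ := Pi.π _ i
        τ₃ := d ≫ Pi.π _ i
        comm₁₂ := by simp [S, f]
        comm₂₃ := by simp [S, d, g] }
    have h := hx i
    rw [Ext.comp_assoc_of_third_deg_zero, ShortComplex.ShortExact.extClass_naturality hS
      (injSC_shortExact (F i)) φ, ← Ext.comp_assoc_of_second_deg_zero, Ext.mk₀_comp_mk₀] at h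
    obtain ⟨z, hz⟩ := Ext.covariant_sequence_exact₃ X (injSC_shortExact (F i))
      (Ext.mk₀ (t ≫ φ.τ₃)) (n₁ := 1) (by omega) h
    obtain ⟨s, rfl⟩ := Ext.mk₀_bijective _ _ |>.2 z
    rw [Ext.mk₀_comp_mk₀] at hz
    exact ⟨s, (Ext.mk₀_bijective _ _).1 hz⟩
  choose s hs using key
  have ht : Pi.lift s ≫ S.g = t := by
    rw [← cancel_mono d]
    refine Pi.hom_ext _ _ fun i => ?_
    simp [S, d, g, hs i]
  rw [← ht, ← Ext.mk₀_comp_mk₀, Ext.comp_assoc_of_second_deg_zero,
    ShortComplex.ShortExact.comp_extClass, Ext.comp_zero]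

end CohLib
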