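import Groth.Agent.CohLib.ModHom
import Groth.Agent.CohLib.InjModule
import Groth.Agent.CohLib.ExtSS
import Groth.Agent.CohLib.PresheafSS
import Groth.Agent.ModSiteLib.Grothendieck
import Groth.Agent.ModSiteLib.Colimits

/-!
# Local-to-global spectral sequences for modules on a site
-/

universe u

set_option linter.style.haveILetI false

open CategoryTheory CategoryTheory.Limits Opposite MonoidalCategory CategoryTheory.Abelian
open ModSiteLib (PMod aP jP adjP)

namespace CohLib

variable {C : Type u} [SmallCategory C] {J : GrothendieckTopology C} {O : Sheaf J CommRingCat.{u}}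

instance preservesHomology_toAbF (O : Sheaf J CommRingCat.{u}) :
    (SheafOfModules.toSheaf.{u} (ModSite.ringSh O)).PreservesHomology :=
  haveI : PreservesFiniteLimits (SheafOfModules.toSheaf.{u} (ModSite.ringSh O)) := inferInstance
  haveI : PreservesFiniteColimits (SheafOfModules.toSheaf.{u} (ModSite.ringSh O)) := inferInstance
  inferInstance

/-- The constant abelian sheaf `ℤ`. -/
noncomputable abbrev constZ (J : GrothendieckTopology C) : Sheaf J AddCommGrpCat.{u} :=
  (constantSheaf J AddCommGrpCat.{u}).obj (AddCommGrpCat.of (ULift.{u} ℤ))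

/-- The underlying abelian sheaf functor. -/
noncomputable abbrev toAbF (O : Sheaf J CommRingCat.{u}) :
    ModSite.Mod O ⥤ Sheaf J AddCommGrpCat.{u} :=
  SheafOfModules.toSheaf (ModSite.ringSh O)

lemma subsingleton_ext_constZ {F : Sheaf J AddCommGrpCat.{u}} (h : CohCx.IsTotallyAcyclic F) (q : ℕ) :
    Subsingleton (Ext.{u} (constZ J) F (q + 1)) := by
  haveI : Subsingleton (Ext.{u} ((Z J).obj (⊤_ (Sheaf J (Type u)))) F (q + 1)) :=
    h (⊤_ (Sheaf J (Type u))) q
  exact AddCommGrpCat.subsingleton_of_isZero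
    ((AddCommGrpCat.isZero_of_subsingleton _).of_iso (extIsoOfIso (constIsoZ J) F (q + 1)))

lemma mono_Z_map_ss {K' K : Sheaf J (Type u)} (i : K' ⟶ K) [Mono i] : Mono ((Z J).map i) := by
  haveI : Mono i.hom := (sheafToPresheaf J (Type u)).map_mono i
  haveI : ∀ X, Mono ((Functor.whiskerRight i.hom AddCommGrpCat.free.{u}).app X) := fun X =>
    AddCommGrpCat.free.map_mono (i.hom.app X)
  haveI : Mono (Functor.whiskerRight i.hom AddCommGrpCat.free.{u}) := NatTrans.mono_of_mono_app _
  exact (presheafToSheaf J AddCommGrpCat.{u}).map_mono (Functor.whiskerRight i.hom AddCommGrpCat.free.{u})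

/-- Acyclicity for cohomology with supports. -/
lemma subsingleton_ext_quotZ {F : Sheaf J AddCommGrpCat.{u}} (h : CohCx.IsTotallyAcyclic F)
    (hext : ∀ {K' : Sheaf J (Type u)} (i : K' ⟶ ⊤_ (Sheaf J (Type u))), Mono i →
      ∀ x : (Z J).obj K' ⟶ F, ∃ y, (Z J).map i ≫ y = x)
    (L : Sheaf J (Type u)) (q : ℕ) : Subsingleton (Ext.{u} (ToposFin.quotZ L) F (q + 1)) := by
  let g := terminal.from L
  let i := Sheaf.imageι g
  haveI : Mono ((Z J).map i) := mono_Z_map_ss i
  haveI : Epi ((Z J).map (Sheaf.toImage g)) := by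
    haveI : PreservesColimitsOfSize.{0, 0} (Z J) := (adjZ J).leftAdjoint_preservesColimits
    infer_instance
  let S : ShortComplex (Sheaf J AddCommGrpCat.{u}) :=
    ShortComplex.mk ((Z J).map i) (cokernel.π ((Z J).map i)) (cokernel.condition _)
  have hS : S.ShortExact :=
    { exact := ShortComplex.exact_of_g_is_cokernel _ (cokernelIsCokernel _)
      mono_f := inferInstanceAs (Mono ((Z J).map i))
      epi_g := inferInstanceAs (Epi (cokernel.π _)) }
  have e : ToposFin.quotZ L ≅ S.X₃ :=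
    cokernelIsoOfEq (f := (ToposFin.freeAb J).map g) (g := (Z J).map (Sheaf.toImage g) ≫ (Z J).map i)
        ((congrArg (Z J).map (Sheaf.toImage_ι g).symm).trans ((Z J).map_comp _ _)) ≪≫
      cokernelEpiComp _ _
  suffices Subsingleton (Ext.{u} S.X₃ F (q + 1)) from
    AddCommGrpCat.subsingleton_of_isZero
      ((AddCommGrpCat.isZero_of_subsingleton _).of_iso (extIsoOfIso e F (q + 1)))
  refine subsingleton_of_forall_eq 0 fun x => ?_
  haveI : Subsingleton (Ext.{u} S.X₂ F (q + 1)) := h _ q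
  obtain ⟨x₁, rfl⟩ := Ext.contravariant_sequence_exact₃ hS F x (Subsingleton.elim _ _)
    (n₀ := q) (by omega)
  cases q with
  | zero =>
    obtain ⟨φ, rfl⟩ := Ext.addEquiv₀.symm.surjective x₁
    obtain ⟨y, hy⟩ := hext i inferInstance φ
    have e : Ext.addEquiv₀.symm φ =
        (Ext.mk₀ S.f).comp (Ext.mk₀ (show S.X₂ ⟶ F from y)) (zero_add 0) := by
      rw [Ext.mk₀_comp_mk₀]
      exact congrArg Ext.mk₀ hy.symm
    rw [e, ← Ext.comp_assoc_of_second_deg_zero, hS.extClass_comp, Ext.zero_comp]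
  | succ q =>
    haveI : Subsingleton (Ext.{u} S.X₁ F (q + 1)) := h _ q
    rw [Subsingleton.elim x₁ 0, Ext.comp_zero]

variable (M : ModSite.Mod O)

lemma mono_freeTensor_map {K' K : Cᵒᵖ ⥤ Type u} (i : K' ⟶ K) [∀ X, Mono (i.app X)] :
    Mono ((freeTensorP M ⋙ aP O).map i) := by
  haveI : PreservesFiniteLimits (aP O) :=
    inferInstanceAs (PreservesFiniteLimits (ModSite.sheafify O))
  suffices Mono ((freeTensorP M).map i) from (aP O).map_mono ((freeTensorP M).map i)
  apply (PresheafOfModules.toPresheaf _).mono_of_mono_map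
  apply (config := { allowSynthFailures := true }) NatTrans.mono_of_mono_app
  intro X
  have hinj : Function.Injective (i.app X) := (CategoryTheory.mono_iff_injective (i.app X)).1 inferInstance
  haveI : IsSplitMono ((ModuleCat.free (O.obj.obj X)).map (i.app X)) :=
    IsSplitMono.mk' ⟨ModuleCat.ofHom (Finsupp.lcomapDomain (i.app X) hinj), by
      ext x
      exact Finsupp.comapDomain_mapDomain _ hinj _⟩
  exact inferInstanceAs (Mono ((forget₂ _ AddCommGrpCat.{u}).map
    ((tensorRight (ModuleCat.of (O.obj.obj X) (((jP O).obj M).obj X))).map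
      ((ModuleCat.free (O.obj.obj X)).map (i.app X)))))

section
variable [ModSite.HasSheafHom M]

lemma exists_extension_sheafHom (Q : ModSite.Mod O) [Injective Q] {K' : Sheaf J (Type u)}
    (i : K' ⟶ ⊤_ (Sheaf J (Type u))) [Mono i]
    (x : (Z J).obj K' ⟶ ModSite.toAb ((ModSite.sheafHom M).obj Q)) :
    ∃ y, (Z J).map i ≫ y = x := by
  haveI : Mono i.hom := (sheafToPresheaf J (Type u)).map_mono i
  haveI := mono_freeTensor_map M i.hom
  refine ⟨(homSectEquiv M _ Q).symm (Injective.factorThru (homSectEquiv M _ Q x)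
    ((freeTensorP M ⋙ aP O).map i.hom)), ?_⟩
  apply (homSectEquiv M _ Q).injective
  rw [homSectEquiv_naturality_left, AddEquiv.apply_symm_apply, Injective.comp_factorThru]

lemma subsingleton_ext_constZ_sheafHom (Q : ModSite.Mod O) [Injective Q] (q : ℕ) :
    Subsingleton (Ext.{u} (constZ J) (ModSite.toAb ((ModSite.sheafHom M).obj Q)) (q + 1)) :=
  subsingleton_ext_constZ (isTotallyAcyclic_of_allCechExact (allCechExact_sheafHom M Q)) q

lemma subsingleton_ext_quotZ_sheafHom (Q : ModSite.Mod O) [Injective Q] (L : Sheaf J (Type u)) (q : ℕ) :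
    Subsingleton (Ext.{u} (ToposFin.quotZ L) (ModSite.toAb ((ModSite.sheafHom M).obj Q)) (q + 1)) :=
  subsingleton_ext_quotZ (isTotallyAcyclic_of_allCechExact (allCechExact_sheafHom M Q))
    (fun i _ x => exists_extension_sheafHom M Q i x) L q

/-- Global sections of the internal hom, from the constant sheaf. -/
noncomputable def constHomEquiv (R : ModSite.Mod O) :
    (constZ J ⟶ ModSite.toAb ((ModSite.sheafHom M).obj R)) ≃+ (M ⟶ R) :=
  ({ toFun t := (constIsoZ J).inv ≫ t
     invFun t := (constIsoZ J).hom ≫ t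
     left_inv t := (constIsoZ J).hom_inv_id_assoc t
     right_inv t := (constIsoZ J).inv_hom_id_assoc t
     map_add' _ _ := Preadditive.comp_add _ _ _ _ _ _ } :
    (constZ J ⟶ ModSite.toAb ((ModSite.sheafHom M).obj R)) ≃+ _).trans (globalHomEquiv M R)

lemma constHomEquiv_naturality {R R' : ModSite.Mod O} (h : R ⟶ R')
    (y : constZ J ⟶ ModSite.toAb ((ModSite.sheafHom M).obj R)) :
    constHomEquiv M R' (y ≫ (toAbF O).map ((ModSite.sheafHom M).map h)) = constHomEquiv M R y ≫ h :=
  (congrArg (globalHomEquiv M R') (Category.assoc _ _ _).symm).trans (globalHomEquiv_naturality M h _)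

variable {M} in
lemma forall_eps_iff (U : C) {R : ModSite.Mod O} (φ : M ⟶ R) :
    (∀ X : Cᵒᵖ, Nonempty ((ToposFin.eps J U).obj.obj X) → ∀ m : M.val.obj X, φ.val.app X m = 0) ↔
      ∀ X : Cᵒᵖ, Nonempty ((yoneda.obj U).obj X) → ∀ m : M.val.obj X, φ.val.app X m = 0 := by
  constructor
  · rintro h X ⟨g⟩
    exact h X ⟨(toSheafify J (yoneda.obj U)).app X g⟩
  · rintro h X ⟨x⟩ m
    have hS := Presheaf.imageSieve_mem J (toSheafify J (yoneda.obj U)) (U := X) x
    refine Presheaf.IsSheaf.isSeparated R.isSheaf (unop X) _ hS _ _ fun Y f ⟨t, _⟩ => ?_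
    exact ((PresheafOfModules.naturality_apply φ.val f.op m).symm.trans (h (op Y) ⟨t⟩ _)).trans
      (map_zero (R.val.presheaf.map f.op).hom).symm

variable (U : C)

/-- The projection to `ℤ/ℤ_U`. -/
noncomputable abbrev quotZπ : (Z J).obj (⊤_ (Sheaf J (Type u))) ⟶ ToposFin.quotZ (ToposFin.eps J U) :=
  cokernel.π ((ToposFin.freeAb J).map (terminal.from (ToposFin.eps J U)))

lemma counit_comp_globalHomEquiv (R : ModSite.Mod O)
    (y : (Z J).obj (⊤_ (Sheaf J (Type u))) ⟶ ModSite.toAb ((ModSite.sheafHom M).obj R)) :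
    (ModSite.extZeroAdj O U).counit.app M ≫ globalHomEquiv M R y = 0 ↔
      (Z J).map (terminal.from (ToposFin.eps J U)) ≫ y = 0 := by
  rw [map_comp_eq_zero_iff, forall_eps_iff, ← ExtSupp.mem_homZ_iff]
  exact restr_map_eq_zero_iff U _

/-- Sections with supports of the internal hom. -/
noncomputable def quotHomEquiv (R : ModSite.Mod O) :
    (ToposFin.quotZ (ToposFin.eps J U) ⟶ ModSite.toAb ((ModSite.sheafHom M).obj R)) ≃+
      ((ModSite.quotOn O U).obj M ⟶ R) where
  toFun x := cokernel.desc _ (globalHomEquiv M R (quotZπ U ≫ x))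
    ((counit_comp_globalHomEquiv M U R _).2 ((Category.assoc _ _ _).symm.trans
      ((congrArg (· ≫ x) (cokernel.condition _)).trans zero_comp)))
  invFun t := cokernel.desc _ ((globalHomEquiv M R).symm ((ModSite.quotOnπ O U).app M ≫ t))
    ((counit_comp_globalHomEquiv M U R _).1 (by
      rw [AddEquiv.apply_symm_apply]
      exact (Category.assoc _ _ _).symm.trans ((congrArg (· ≫ t) (cokernel.condition _)).trans zero_comp)))
  left_inv x := by
    apply coequalizer.hom_ext
    refine (cokernel.π_desc _ _ _).trans ?_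
    exact (congrArg (globalHomEquiv M R).symm (cokernel.π_desc _ _ _)).trans
      ((globalHomEquiv M R).symm_apply_apply _)
  right_inv t := by
    apply coequalizer.hom_ext
    refine (cokernel.π_desc _ _ _).trans ?_
    exact (congrArg (globalHomEquiv M R) (cokernel.π_desc _ _ _)).trans
      ((globalHomEquiv M R).apply_symm_apply _)
  map_add' x y := by
    apply coequalizer.hom_ext
    refine (cokernel.π_desc _ _ _).trans ?_
    refine ((congrArg (globalHomEquiv M R) (Preadditive.comp_add _ _ _ _ _ _)).trans (map_add _ _ _)).trans ?_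
    exact Eq.trans (congrArg₂ (· + ·) (cokernel.π_desc _ _ _).symm (cokernel.π_desc _ _ _).symm)
      (Preadditive.comp_add _ _ _ _ _ _).symm

lemma quotHomEquiv_naturality {R R' : ModSite.Mod O} (h : R ⟶ R')
    (x : ToposFin.quotZ (ToposFin.eps J U) ⟶ ModSite.toAb ((ModSite.sheafHom M).obj R)) :
    quotHomEquiv M U R' (x ≫ (toAbF O).map ((ModSite.sheafHom M).map h)) = quotHomEquiv M U R x ≫ h := by
  apply coequalizer.hom_ext
  refine (cokernel.π_desc _ _ _).trans ?_
  refine Eq.trans ?_ (Category.assoc _ _ _)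
  refine Eq.trans ?_ (congrArg (· ≫ h) (cokernel.π_desc _ _ _).symm)
  exact (congrArg (globalHomEquiv M R') (Category.assoc _ _ _).symm).trans (globalHomEquiv_naturality M h _)

variable (N : ModSite.Mod O) [HasInjectiveResolutions (ModSite.Mod O)] [HasExt.{u} (ModSite.Mod O)]

/-- The local-to-global spectral sequence of Ext. -/
theorem exists_ext_spectralSequence (H : ℤ → AddCommGrpCat.{u})
    (hH : ∀ n : ℕ, Nonempty (H n ≅ AddCommGrpCat.of (Ext.{u} M N n)))
    (hH' : ∀ n : ℤ, n < 0 → IsZero (H n)) :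
    ∃ (E : E₂CohomologicalSpectralSequence AddCommGrpCat.{u}) (a : SpSeq.Abutment E H),
      (∀ n, a.IsFinite n) ∧ SpSeq.IsBounded E ∧
      (∀ p q : ℕ, Nonempty ((E.page 2 le_rfl).X ((p : ℤ), (q : ℤ)) ≅
        AddCommGrpCat.of (ModSite.HC O ((ModSite.extSh M q).obj N) p))) ∧
      ∀ p q : ℤ, p < 0 ∨ q < 0 → IsZero ((E.page 2 le_rfl).X (p, q)) := by
  obtain ⟨E, a, h₁, h₂, h₃, h₄⟩ := exists_hom_spectralSequence (ModSite.sheafHom M ⋙ toAbF O) (constZ J)
    (fun Q hQ q => haveI := hQ; subsingleton_ext_constZ_sheafHom M Q q) N H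
    (fun n => ⟨(hH n).some ≪≫ (nonempty_rightDerived_iso_ext
      ((ModSite.sheafHom M ⋙ toAbF O) ⋙ preadditiveCoyoneda.obj (op (constZ J))) M
      (constHomEquiv M) (fun g x => constHomEquiv_naturality M g x) N n).some.symm⟩) hH'
  exact ⟨E, a, h₁, h₂, fun p q => ⟨(h₃ p q).some ≪≫ ((extFunctor.{u} p).obj (op (constZ J))).mapIso
    (nonempty_rightDerived_comp_exact_iso (ModSite.sheafHom M) (toAbF O) N q).some⟩, h₄⟩

/-- The local-to-global spectral sequence of Ext with supports. -/
theorem exists_extZ_spectralSequence (H : ℤ → AddCommGrpCat.{u})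
    (hH : ∀ n : ℕ, Nonempty (H n ≅ AddCommGrpCat.of (ExtSupp.ExtZ U M N n)))
    (hH' : ∀ n : ℤ, n < 0 → IsZero (H n)) :
    ∃ (E : E₂CohomologicalSpectralSequence AddCommGrpCat.{u}) (a : SpSeq.Abutment E H),
      (∀ n, a.IsFinite n) ∧ SpSeq.IsBounded E ∧
      (∀ p q : ℕ, Nonempty ((E.page 2 le_rfl).X ((p : ℤ), (q : ℤ)) ≅
        AddCommGrpCat.of (ModSite.HZ U ((ModSite.extSh M q).obj N) p))) ∧
      ∀ p q : ℤ, p < 0 ∨ q < 0 → IsZero ((E.page 2 le_rfl).X (p, q)) := by
  obtain ⟨E, a, h₁, h₂, h₃, h₄⟩ := exists_hom_spectralSequence (ModSite.sheafHom M ⋙ toAbF O)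
    (ToposFin.quotZ (ToposFin.eps J U))
    (fun Q hQ q => haveI := hQ; subsingleton_ext_quotZ_sheafHom M Q _ q) N H
    (fun n => ⟨(hH n).some ≪≫ (nonempty_rightDerived_iso_ext
      ((ModSite.sheafHom M ⋙ toAbF O) ⋙ preadditiveCoyoneda.obj (op (ToposFin.quotZ (ToposFin.eps J U))))
      ((ModSite.quotOn O U).obj M) (quotHomEquiv M U) (fun g x => quotHomEquiv_naturality M U g x)
      N n).some.symm⟩) hH'
  exact ⟨E, a, h₁, h₂, fun p q => ⟨(h₃ p q).some ≪≫
    ((extFunctor.{u} p).obj (op (ToposFin.quotZ (ToposFin.eps J U)))).mapIso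
      (nonempty_rightDerived_comp_exact_iso (ModSite.sheafHom M) (toAbF O) N q).some⟩, h₄⟩

end

section
variable (U : C) [ModSite.HasPushOver O U] (N : ModSite.Mod O) [HasInjectiveResolutions (ModSite.Mod O)]
  [HasExt.{u} (ModSite.Mod O)]

/-- Maps into sections with supports. -/
noncomputable def sectOnHomEquiv (R : ModSite.Mod O) :
    (M ⟶ (ModSite.sectOn O U).obj R) ≃+ ((ModSite.quotOn O U).obj M ⟶ R) :=
  haveI : (ModSite.quotOn O U).Additive := (quotSectAdj U).left_adjoint_additive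
  ((quotSectAdj U).homAddEquiv M R).symm

/-- The spectral sequence `Ext^p(M, ℋ^q_Z N) ⇒ Ext^n_Z(M, N)`. -/
theorem exists_ext_HZsh_spectralSequence (H : ℤ → AddCommGrpCat.{u})
    (hH : ∀ n : ℕ, Nonempty (H n ≅ AddCommGrpCat.of (ExtSupp.ExtZ U M N n)))
    (hH' : ∀ n : ℤ, n < 0 → IsZero (H n)) :
    ∃ (E : E₂CohomologicalSpectralSequence AddCommGrpCat.{u}) (a : SpSeq.Abutment E H),
      (∀ n, a.IsFinite n) ∧ SpSeq.IsBounded E ∧
      (∀ p q : ℕ, Nonempty ((E.page 2 le_rfl).X ((p : ℤ), (q : ℤ)) ≅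
        AddCommGrpCat.of (Ext.{u} M ((ModSite.HZsh O U q).obj N) p))) ∧
      ∀ p q : ℤ, p < 0 ∨ q < 0 → IsZero ((E.page 2 le_rfl).X (p, q)) :=
  exists_hom_spectralSequence (ModSite.sectOn O U) M
    (fun Q hQ q => by
      haveI := hQ
      haveI := injective_sectOn U Q
      exact subsingleton_ext_injective M _ q) N H
    (fun n => ⟨(hH n).some ≪≫ (nonempty_rightDerived_iso_ext
      (ModSite.sectOn O U ⋙ preadditiveCoyoneda.obj (op M)) ((ModSite.quotOn O U).obj M)
      (sectOnHomEquiv M U)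
      (fun g x => (quotSectAdj U).homEquiv_naturality_right_symm x g) N n).some.symm⟩) hH'

end

end CohLib
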