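import Groth.Agent.CohLib.ModSupp

/-!
# Spectral sequences `H^p(ℰxt_Z^q) ⇒ Ext_Z` and `H^p(ℋ_Z^q) ⇒ H_Z`
-/

universe u

set_option linter.style.haveILetI false

open CategoryTheory CategoryTheory.Limits Opposite CategoryTheory.Abelian

namespace CohLib

variable {C : Type u} [SmallCategory C] {J : GrothendieckTopology C} {O : Sheaf J CommRingCat.{u}}
  (U : C) [ModSite.HasPushOver O U] [HasInjectiveResolutions (ModSite.Mod O)]

/-- Naturally isomorphic functors have isomorphic derived functors. -/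
noncomputable def rightDerivedIsoOfIso {A B : Type (u + 1)} [Category.{u} A] [Category.{u} B]
    [Abelian A] [Abelian B] [HasInjectiveResolutions A] {F G : A ⥤ B} [F.Additive] [G.Additive]
    (e : F ≅ G) (q : ℕ) : F.rightDerived q ≅ G.rightDerived q where
  hom := NatTrans.rightDerived e.hom q
  inv := NatTrans.rightDerived e.inv q
  hom_inv_id := by rw [← NatTrans.rightDerived_comp, e.hom_inv_id, NatTrans.rightDerived_id]
  inv_hom_id := by rw [← NatTrans.rightDerived_comp, e.inv_hom_id, NatTrans.rightDerived_id]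

/-- The spectral sequence from the local Ext with supports. -/
theorem exists_extZSh_spectralSequence [HasExt.{u} (ModSite.Mod O)] (M N : ModSite.Mod O)
    [ModSite.HasSheafHom M] (H : ℤ → AddCommGrpCat.{u})
    (hH : ∀ n : ℕ, Nonempty (H n ≅ AddCommGrpCat.of (ExtSupp.ExtZ U M N n)))
    (hH' : ∀ n : ℤ, n < 0 → IsZero (H n)) :
    ∃ (E : E₂CohomologicalSpectralSequence AddCommGrpCat.{u}) (a : SpSeq.Abutment E H),
      (∀ n, a.IsFinite n) ∧ SpSeq.IsBounded E ∧
      (∀ p q : ℕ, Nonempty ((E.page 2 le_rfl).X ((p : ℤ), (q : ℤ)) ≅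
        AddCommGrpCat.of (ModSite.HC O ((ModSite.extZSh U M q).obj N) p))) ∧
      ∀ p q : ℤ, p < 0 ∨ q < 0 → IsZero ((E.page 2 le_rfl).X (p, q)) := by
  haveI := ModSiteLib.hasSheafHom O ((ModSite.quotOn O U).obj M)
  obtain ⟨E, a, h₁, h₂, h₃, h₄⟩ :=
    exists_ext_spectralSequence ((ModSite.quotOn O U).obj M) N H hH hH'
  exact ⟨E, a, h₁, h₂, fun p q => ⟨(h₃ p q).some ≪≫
    ((extFunctor.{u} p).obj (op (constZ J))).mapIso ((toAbF O).mapIso
      ((rightDerivedIsoOfIso (sheafHomSectIso U M) q).symm.app N))⟩, h₄⟩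

variable (O) in
/-- Cohomology with supports through Ext over `O`. -/
theorem nonempty_HZ_iso_ext [HasExt.{u} (ModSite.Mod O)] (M : ModSite.Mod O) (n : ℕ) :
    Nonempty (AddCommGrpCat.of (ModSite.HZ U M n) ≅
      AddCommGrpCat.of (ExtSupp.ExtZ U (ModSite.unit O) M n)) := by
  haveI := ModSiteLib.hasSheafHom O (ModSite.unit O)
  let Zq := ToposFin.quotZ (ToposFin.eps J U)
  let e := sheafHomUnitIso O
  let w : ∀ R : ModSite.Mod O, (Zq ⟶ (toAbF O).obj R) ≃+
      ((ModSite.quotOn O U).obj (ModSite.unit O) ⟶ R) := fun R =>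
    ({ toFun x := x ≫ (toAbF O).map (e.hom.app R)
       invFun y := y ≫ (toAbF O).map (e.inv.app R)
       left_inv x := (Category.assoc _ _ _).trans ((congrArg (x ≫ ·) (((toAbF O).map_comp _ _).symm.trans
         ((congrArg (toAbF O).map (e.hom_inv_id_app R)).trans ((toAbF O).map_id _)))).trans (Category.comp_id x))
       right_inv y := (Category.assoc _ _ _).trans ((congrArg (y ≫ ·) (((toAbF O).map_comp _ _).symm.trans
         ((congrArg (toAbF O).map (e.inv_hom_id_app R)).trans ((toAbF O).map_id _)))).trans (Category.comp_id y))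
       map_add' _ _ := Preadditive.add_comp _ _ _ _ _ _ } :
      (Zq ⟶ (toAbF O).obj R) ≃+ (Zq ⟶ ModSite.toAb ((ModSite.sheafHom (ModSite.unit O)).obj R))).trans
    (quotHomEquiv (ModSite.unit O) U R)
  have hw : ∀ {R R' : ModSite.Mod O} (g : R ⟶ R') (x : Zq ⟶ (toAbF O).obj R),
      w R' (x ≫ (toAbF O).map g) = w R x ≫ g := by
    intro R R' g x
    refine Eq.trans ?_ (quotHomEquiv_naturality (ModSite.unit O) U g _)
    refine congrArg (quotHomEquiv (ModSite.unit O) U R') ?_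
    refine (Category.assoc _ _ _).trans (Eq.trans ?_ (Category.assoc x ((toAbF O).map (e.hom.app R))
      ((toAbF O).map ((ModSite.sheafHom (ModSite.unit O)).map g))).symm)
    exact congrArg (x ≫ ·) (((toAbF O).map_comp _ _).symm.trans
      ((congrArg (toAbF O).map (e.hom.naturality g)).trans ((toAbF O).map_comp _ _)))
  obtain ⟨i⟩ := nonempty_rightDerived_iso_ext (toAbF O ⋙ preadditiveCoyoneda.obj (op Zq))
    ((ModSite.quotOn O U).obj (ModSite.unit O)) w hw M n
  obtain ⟨j⟩ := SpSeqLib.nonempty_rightDerived_comp_iso (preadditiveCoyoneda.obj (op Zq)) (toAbF O)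
    (fun Q hQ q hq => by
      obtain ⟨q, rfl⟩ := Nat.exists_eq_succ_of_ne_zero hq.ne'
      haveI := hQ
      haveI := subsingleton_ext_quotZ_sheafHom (ModSite.unit O) Q (ToposFin.eps J U) q
      obtain ⟨k⟩ := nonempty_rightDerived_coyoneda_iso_ext Zq (ModSite.toAb Q) (q + 1)
      exact ((AddCommGrpCat.isZero_of_subsingleton (AddCommGrpCat.of (Ext.{u} (ToposFin.quotZ (ToposFin.eps J U))
          (ModSite.toAb ((ModSite.sheafHom (ModSite.unit O)).obj Q)) (q + 1)))).of_iso
        (((extFunctor.{u} (q + 1)).obj (op Zq)).mapIso ((toAbF O).mapIso (e.app Q)))).of_iso k)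
    M n
  obtain ⟨k⟩ := nonempty_rightDerived_coyoneda_iso_ext Zq (ModSite.toAb M) n
  exact ⟨k.symm ≪≫ j.symm ≪≫ i⟩

/-- The spectral sequence from local to global cohomology with supports. -/
theorem exists_HZsh_spectralSequence (M : ModSite.Mod O) (H : ℤ → AddCommGrpCat.{u})
    (hH : ∀ n : ℕ, Nonempty (H n ≅ AddCommGrpCat.of (ModSite.HZ U M n)))
    (hH' : ∀ n : ℤ, n < 0 → IsZero (H n)) :
    ∃ (E : E₂CohomologicalSpectralSequence AddCommGrpCat.{u}) (a : SpSeq.Abutment E H),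
      (∀ n, a.IsFinite n) ∧ SpSeq.IsBounded E ∧
      (∀ p q : ℕ, Nonempty ((E.page 2 le_rfl).X ((p : ℤ), (q : ℤ)) ≅
        AddCommGrpCat.of (ModSite.HC O ((ModSite.HZsh O U q).obj M) p))) ∧
      ∀ p q : ℤ, p < 0 ∨ q < 0 → IsZero ((E.page 2 le_rfl).X (p, q)) := by
  haveI : HasExt.{u} (ModSite.Mod O) := IsGrothendieckAbelian.hasExt (ModSite.Mod O)
  haveI := ModSiteLib.hasSheafHom O (ModSite.unit O)
  obtain ⟨E, a, h₁, h₂, h₃, h₄⟩ := exists_extZSh_spectralSequence U (ModSite.unit O) M H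
    (fun n => ⟨(hH n).some ≪≫ (nonempty_HZ_iso_ext O U M n).some⟩) hH'
  exact ⟨E, a, h₁, h₂, fun p q => ⟨(h₃ p q).some ≪≫
    ((extFunctor.{u} p).obj (op (constZ J))).mapIso ((toAbF O).mapIso
      ((rightDerivedIsoOfIso (Functor.isoWhiskerRight (sheafHomUnitIso O).symm (ModSite.sectOn O U) ≪≫
        (ModSite.sectOn O U).leftUnitor) q).app M))⟩, h₄⟩

end CohLib
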