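import Groth.Agent.CohLib.ModSS
import Groth.Agent.ModSiteLib.Flat
import Mathlib.CategoryTheory.Adjunction.Unique

/-!
# Sections with supports of the internal hom: `Γ_Z ℋom(M, -) ≅ ℋom(M ⊗ O_Z, -)`
-/

universe u

set_option linter.style.haveILetI false

open CategoryTheory CategoryTheory.Limits Opposite MonoidalCategory BraidedCategory
open ModSiteLib (PMod aP jP adjP)

namespace CohLib

variable {C : Type u} [SmallCategory C] {J : GrothendieckTopology C} {O : Sheaf J CommRingCat.{u}} (U : C)

/-- The presheaf map of a sheaf tensor map. -/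
noncomputable abbrev tensorAdjunct {G M R : ModSite.Mod O}
    (ψ : ((ModSite.tensorBi O).obj G).obj M ⟶ R) :
    (jP O).obj G ⊗ (jP O).obj M ⟶ (jP O).obj R :=
  (adjP O).homEquiv _ _ ψ

/-- `β(g ⊗ m) = 0` over the objects mapping to `U`. -/
def VanishOn {G M N : PMod O} (β : G ⊗ M ⟶ N) : Prop :=
  ∀ X : Cᵒᵖ, Nonempty ((yoneda.obj U).obj X) → ∀ (g : G.obj X) (m : M.obj X),
    β.app X (g ⊗ₜ[O.obj.obj X] m) = 0

lemma vanishOn_braiding {G M N : PMod O} {β : G ⊗ M ⟶ N} (h : VanishOn U β) :
    VanishOn U ((β_ M G).hom ≫ β) := fun X hX m g => h X hX g m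

lemma counit_app_surjective (G : ModSite.Mod O) (X : Cᵒᵖ) (hX : Nonempty ((yoneda.obj U).obj X))
    (g : G.val.obj X) :
    ∃ g', ((ModSite.extZeroAdj O U).counit.app G).val.app X g' = g := by
  obtain ⟨x⟩ := hX
  let Y : Over U := Over.mk (show unop X ⟶ U from x)
  refine ⟨(((ModSite.extZeroAdj O U).unit.app ((ModSite.restr O U).obj G)).val.app (op Y)).hom g, ?_⟩
  exact congrArg (fun ψ : (ModSite.restr O U).obj G ⟶ (ModSite.restr O U).obj G =>
      (ψ.val.app (op Y)).hom g) ((ModSite.extZeroAdj O U).right_triangle_components G)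

lemma tensor_map_counit_eq_zero_iff {G M R : ModSite.Mod O} [ModSite.HasSheafHom M]
    (ψ : ((ModSite.tensorBi O).obj G).obj M ⟶ R) :
    ((ModSite.tensorBi O).flip.obj M).map ((ModSite.extZeroAdj O U).counit.app G) ≫ ψ = 0 ↔
      VanishOn U (tensorAdjunct ψ) := by
  haveI := (adjP O).isLeftAdjoint
  haveI : (aP O).Additive := additive_of_isLeftAdjoint _
  constructor
  · intro h X hX g m
    obtain ⟨g', hg'⟩ := counit_app_surjective U G X hX g
    have h' : ((jP O).map ((ModSite.extZeroAdj O U).counit.app G) ▷ (jP O).obj M) ≫ tensorAdjunct ψ = 0 := by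
      refine ((adjP O).homEquiv_naturality_left _ _).symm.trans ?_
      exact (congrArg ((adjP O).homEquiv _ _) h).trans ((adjP O).homAddEquiv _ _).map_zero
    have h'' := congrArg (fun t => (PresheafOfModules.Hom.app t X) (g' ⊗ₜ[O.obj.obj X] m)) h'
    refine Eq.trans ?_ h''
    exact congrArg (fun t => (tensorAdjunct ψ).app X (t ⊗ₜ[O.obj.obj X] m)) hg'.symm
  · intro h
    haveI : ((ModSite.tensorBi O).flip.obj M).Additive := additive_of_isLeftAdjoint _
    let φ := (ModSite.sheafHomAdj M).homEquiv G R ψ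
    suffices hφ : (ModSite.extZeroAdj O U).counit.app G ≫ φ = 0 by
      apply ((ModSite.sheafHomAdj M).homEquiv _ R).injective
      refine ((ModSite.sheafHomAdj M).homEquiv_naturality_left _ _).trans (hφ.trans ?_)
      exact ((ModSite.sheafHomAdj M).homAddEquiv _ _).map_zero.symm
    rw [← ExtSupp.mem_homZ_iff]
    refine (restr_map_eq_zero_iff U φ).2 fun X hX g => ?_
    let Q : PMod O := (freeP O).obj (yoneda.obj (unop X))
    let a : yoneda.obj (unop X) ⟶ ((jP O).obj G).presheaf ⋙ forget AddCommGrpCat.{u} :=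
      yonedaEquiv.symm g
    let g₀ : Q ⟶ (jP O).obj G := PresheafOfModules.freeObjDesc a
    let f : (aP O).obj Q ⟶ G := ((adjP O).homEquiv Q G).symm g₀
    have hβ : (g₀ ▷ (jP O).obj M) ≫ tensorAdjunct ψ = 0 := by
      ext1 W
      refine ModuleCat.MonoidalCategory.tensor_ext (fun m₁ m₂ => ?_)
      by_cases hW : Nonempty ((yoneda.obj (unop X)).obj W)
      · obtain ⟨w⟩ := hW
        obtain ⟨x⟩ := hX
        exact h W ⟨(show unop W ⟶ unop X from w) ≫ (show unop X ⟶ U from x)⟩ (g₀.app W m₁) m₂
      · haveI : IsEmpty ((yoneda.obj (unop X)).obj W) := not_nonempty_iff.1 hW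
        have hm : m₁ = 0 := Finsupp.ext fun x => isEmptyElim x
        subst hm
        rw [TensorProduct.zero_tmul]
        exact map_zero _
    have hf : f ≫ φ = 0 := by
      apply ((ModSite.sheafHomAdj M).homEquiv _ R).symm.injective
      refine ((ModSite.sheafHomAdj M).homEquiv_naturality_left_symm _ _).trans ?_
      refine Eq.trans ?_ ((ModSite.sheafHomAdj M).homAddEquiv _ _).symm.map_zero.symm
      rw [Equiv.symm_apply_apply]
      haveI : IsIso ((ModSiteLib.tensorSh O ((jP O).obj M)).map ((adjP O).unit.app Q)) :=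
        ModSiteLib.isIso_tensorSh_map O _ _ (ModSiteLib.W_unit O Q)
      apply (cancel_epi ((ModSiteLib.tensorSh O ((jP O).obj M)).map ((adjP O).unit.app Q))).1
      refine Eq.trans ?_ comp_zero.symm
      refine (Category.assoc _ _ _).symm.trans ?_
      have e : (ModSiteLib.tensorSh O ((jP O).obj M)).map ((adjP O).unit.app Q) ≫
          ((ModSite.tensorBi O).flip.obj M).map f = (aP O).map (g₀ ▷ (jP O).obj M) := by
        refine ((ModSiteLib.tensorSh O ((jP O).obj M)).map_comp _ ((jP O).map f)).symm.trans ?_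
        exact congrArg (ModSiteLib.tensorSh O ((jP O).obj M)).map
          (((adjP O).homEquiv_unit _ _ f).symm.trans (((adjP O).homEquiv Q G).apply_symm_apply g₀))
      refine (congrArg (· ≫ ψ) e).trans ?_
      apply ((adjP O).homEquiv _ _).injective
      exact ((adjP O).homEquiv_naturality_left _ _).trans
        (hβ.trans ((adjP O).homAddEquiv _ _).map_zero.symm)
    have h0 : g₀ ≫ (jP O).map φ = 0 := by
      refine Eq.trans ?_ ((adjP O).homAddEquiv _ _).map_zero
      refine Eq.trans ?_ (congrArg ((adjP O).homEquiv _ _) hf)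
      rw [Adjunction.homEquiv_naturality_right]
      exact congrArg (· ≫ _) (((adjP O).homEquiv Q G).apply_symm_apply g₀).symm
    have h1 := congrArg (fun t => (PresheafOfModules.Hom.app t X) (ModuleCat.freeMk (𝟙 (unop X)))) h0
    refine Eq.trans ?_ h1
    refine congrArg (φ.val.app X) ?_
    refine Eq.symm ((ModuleCat.freeDesc_apply _ _).trans ?_)
    exact (yonedaEquiv (F := ((jP O).obj G).presheaf ⋙ forget AddCommGrpCat.{u}) (X := unop X)).apply_symm_apply g

lemma map_counit_tensor_eq_zero_iff {G M R : ModSite.Mod O}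
    (ψ : ((ModSite.tensorBi O).obj G).obj M ⟶ R) :
    ((ModSite.tensorBi O).obj G).map ((ModSite.extZeroAdj O U).counit.app M) ≫ ψ = 0 ↔
      VanishOn U (tensorAdjunct ψ) := by
  haveI := (adjP O).isLeftAdjoint
  haveI : (aP O).Additive := additive_of_isLeftAdjoint _
  haveI := ModSiteLib.hasSheafHom O G
  let c := (jP O).map ((ModSite.extZeroAdj O U).counit.app M)
  have key : ((ModSite.tensorBi O).obj G).map ((ModSite.extZeroAdj O U).counit.app M) ≫ ψ = 0 ↔
      ((jP O).obj G ◁ c) ≫ tensorAdjunct ψ = 0 := by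
    refine ((adjP O).homEquiv _ _).injective.eq_iff.symm.trans ?_
    exact Eq.congr ((adjP O).homEquiv_naturality_left _ _) ((adjP O).homAddEquiv _ _).map_zero
  rw [key]
  constructor
  · intro h X hX g m
    obtain ⟨m', hm'⟩ := counit_app_surjective U M X hX m
    have h'' := congrArg (fun t => (PresheafOfModules.Hom.app t X) (g ⊗ₜ[O.obj.obj X] m')) h
    refine Eq.trans ?_ h''
    exact congrArg (fun t => (tensorAdjunct ψ).app X (g ⊗ₜ[O.obj.obj X] t)) hm'.symm
  · intro h
    let ψ' : ((ModSite.tensorBi O).obj M).obj G ⟶ R :=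
      ((adjP O).homEquiv _ _).symm ((β_ ((jP O).obj M) ((jP O).obj G)).hom ≫ tensorAdjunct ψ)
    have hψ' : tensorAdjunct ψ' = (β_ ((jP O).obj M) ((jP O).obj G)).hom ≫ tensorAdjunct ψ :=
      ((adjP O).homEquiv _ _).apply_symm_apply _
    have h' := (tensor_map_counit_eq_zero_iff U ψ').2 (hψ' ▸ vanishOn_braiding U h)
    have h'' : (c ▷ (jP O).obj G) ≫ tensorAdjunct ψ' = 0 := by
      refine ((adjP O).homEquiv_naturality_left _ _).symm.trans ?_
      exact (congrArg ((adjP O).homEquiv _ _) h').trans ((adjP O).homAddEquiv _ _).map_zero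
    replace h'' := ((congrArg ((c ▷ (jP O).obj G) ≫ ·) hψ').symm.trans h'')
    have e := (congrArg (· ≫ tensorAdjunct ψ) (braiding_naturality_left c ((jP O).obj G))).symm.trans
      ((Category.assoc _ _ _).trans h'')
    exact (cancel_epi (β_ _ ((jP O).obj G)).hom).1 (((Category.assoc _ _ _).symm.trans e).trans comp_zero.symm)

variable (M : ModSite.Mod O) [ModSite.HasSheafHom M]

/-- `(G ⊗ M) ⟶ (G/G_U) ⊗ M` is a cokernel. -/
noncomputable def isColimitTensorQuot (G : ModSite.Mod O) :
    IsColimit (CokernelCofork.ofπ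
      (((ModSite.tensorBi O).flip.obj M).map ((ModSite.quotOnπ O U).app G))
      (show ((ModSite.tensorBi O).flip.obj M).map ((ModSite.extZeroAdj O U).counit.app G) ≫ _ = 0 by
        haveI : ((ModSite.tensorBi O).flip.obj M).Additive := additive_of_isLeftAdjoint _
        exact (((ModSite.tensorBi O).flip.obj M).map_comp _ _).symm.trans
          ((congrArg ((ModSite.tensorBi O).flip.obj M).map (cokernel.condition _)).trans
            (Functor.map_zero _ _ _)))) :=
  haveI := ModSiteLib.preservesColimits_tensor_flip O M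
  haveI : ((ModSite.tensorBi O).flip.obj M).Additive := additive_of_isLeftAdjoint _
  haveI : PreservesColimitsOfSize.{0, 0} ((ModSite.tensorBi O).flip.obj M) :=
    preservesSmallestColimits_of_preservesColimits _
  isColimitCoforkMapOfIsColimit' ((ModSite.tensorBi O).flip.obj M) (cokernel.condition _)
    (cokernelIsCokernel ((ModSite.extZeroAdj O U).counit.app G))

lemma counit_comp_tensor_map_π (G : ModSite.Mod O) :
    ((ModSite.tensorBi O).flip.obj M).map ((ModSite.extZeroAdj O U).counit.app G) ≫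
      ((ModSite.tensorBi O).obj G).map ((ModSite.quotOnπ O U).app M) = 0 := by
  rw [tensor_map_counit_eq_zero_iff, ← map_counit_tensor_eq_zero_iff U]
  haveI := ModSiteLib.preservesColimits_tensor O G
  haveI : ((ModSite.tensorBi O).obj G).IsLeftAdjoint :=
    haveI := ModSiteLib.hasSheafHom O G
    Functor.isLeftAdjoint_of_iso (ModSiteLib.tensorFlipIso O G)
  haveI : ((ModSite.tensorBi O).obj G).Additive := additive_of_isLeftAdjoint _
  refine (((ModSite.tensorBi O).obj G).map_comp _ _).symm.trans ?_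
  exact (congrArg ((ModSite.tensorBi O).obj G).map (cokernel.condition _)).trans (Functor.map_zero _ _ _)

/-- `(G/G_U) ⊗ M ⟶ G ⊗ (M/M_U)`. -/
noncomputable def quotTensorHom (G : ModSite.Mod O) :
    ((ModSite.tensorBi O).flip.obj M).obj ((ModSite.quotOn O U).obj G) ⟶
      ((ModSite.tensorBi O).flip.obj ((ModSite.quotOn O U).obj M)).obj G :=
  (isColimitTensorQuot U M G).desc (CokernelCofork.ofπ
    (((ModSite.tensorBi O).obj G).map ((ModSite.quotOnπ O U).app M)) (counit_comp_tensor_map_π U M G))

lemma π_quotTensorHom (G : ModSite.Mod O) :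
    ((ModSite.tensorBi O).flip.obj M).map ((ModSite.quotOnπ O U).app G) ≫ quotTensorHom U M G =
      ((ModSite.tensorBi O).obj G).map ((ModSite.quotOnπ O U).app M) :=
  (isColimitTensorQuot U M G).fac _ WalkingParallelPair.one

instance isIso_quotTensorHom (G : ModSite.Mod O) : IsIso (quotTensorHom U M G) := by
  haveI := ModSiteLib.preservesColimits_tensor O G
  haveI : ((ModSite.tensorBi O).obj G).IsLeftAdjoint :=
    haveI := ModSiteLib.hasSheafHom O G
    Functor.isLeftAdjoint_of_iso (ModSiteLib.tensorFlipIso O G)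
  haveI : ((ModSite.tensorBi O).obj G).Additive := additive_of_isLeftAdjoint _
  haveI : PreservesColimitsOfSize.{0, 0} ((ModSite.tensorBi O).obj G) :=
    preservesSmallestColimits_of_preservesColimits _
  haveI : ((ModSite.tensorBi O).flip.obj M).Additive := additive_of_isLeftAdjoint _
  let T := (ModSite.tensorBi O).flip.obj M
  let c := isColimitCoforkMapOfIsColimit' ((ModSite.tensorBi O).obj G) (cokernel.condition _)
    (cokernelIsCokernel ((ModSite.extZeroAdj O U).counit.app M))
  let π₁ := T.map ((ModSite.quotOnπ O U).app G)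
  let π₂ := ((ModSite.tensorBi O).obj G).map ((ModSite.quotOnπ O U).app M)
  have h : ((ModSite.tensorBi O).obj G).map ((ModSite.extZeroAdj O U).counit.app M) ≫ π₁ = 0 := by
    rw [map_counit_tensor_eq_zero_iff, ← tensor_map_counit_eq_zero_iff U]
    refine (T.map_comp _ _).symm.trans ?_
    exact (congrArg T.map (cokernel.condition _)).trans (Functor.map_zero _ _ _)
  let back := c.desc (CokernelCofork.ofπ π₁ h)
  have hb : π₂ ≫ back = π₁ := c.fac _ WalkingParallelPair.one
  refine ⟨back, Cofork.IsColimit.hom_ext (isColimitTensorQuot U M G) ?_,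
    Cofork.IsColimit.hom_ext c ?_⟩
  · change π₁ ≫ quotTensorHom U M G ≫ back = π₁ ≫ 𝟙 _
    rw [reassoc_of% (π_quotTensorHom U M G)]
    exact hb.trans (Category.comp_id _).symm
  · change π₂ ≫ back ≫ quotTensorHom U M G = π₂ ≫ 𝟙 _
    rw [reassoc_of% hb]
    exact (π_quotTensorHom U M G).trans (Category.comp_id _).symm

lemma quotTensorHom_naturality {G G' : ModSite.Mod O} (a : G ⟶ G') :
    (ModSite.quotOn O U ⋙ (ModSite.tensorBi O).flip.obj M).map a ≫ quotTensorHom U M G' =
      quotTensorHom U M G ≫ ((ModSite.tensorBi O).flip.obj ((ModSite.quotOn O U).obj M)).map a := by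
  refine Cofork.IsColimit.hom_ext (isColimitTensorQuot U M G) ?_
  let T := (ModSite.tensorBi O).flip.obj M
  change T.map _ ≫ T.map _ ≫ _ = T.map _ ≫ _ ≫ _
  refine (Category.assoc _ _ _).symm.trans ((congrArg (· ≫ _) ((T.map_comp _ _).symm.trans
    ((congrArg T.map ((ModSite.quotOnπ O U).naturality a).symm).trans (T.map_comp _ _)))).trans
      ((Category.assoc _ _ _).trans ((congrArg (_ ≫ ·) (π_quotTensorHom U M G')).trans ?_)))
  refine Eq.trans ?_ (Category.assoc _ _ _)
  refine Eq.trans ?_ (congrArg (· ≫ _) (π_quotTensorHom U M G).symm)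
  exact (((ModSite.tensorBi O).map a).naturality ((ModSite.quotOnπ O U).app M)).symm

/-- The projection formula. -/
noncomputable def quotTensorIso :
    ModSite.quotOn O U ⋙ (ModSite.tensorBi O).flip.obj M ≅
      (ModSite.tensorBi O).flip.obj ((ModSite.quotOn O U).obj M) :=
  NatIso.ofComponents (fun G => asIso (quotTensorHom U M G)) (fun a => quotTensorHom_naturality U M a)

/-- `Γ_Z ℋom(M, -) ≅ ℋom(M/M_U, -)`. -/
noncomputable def sheafHomSectIso [ModSite.HasPushOver O U]
    [ModSite.HasSheafHom ((ModSite.quotOn O U).obj M)] :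
    ModSite.sheafHom M ⋙ ModSite.sectOn O U ≅ ModSite.sheafHom ((ModSite.quotOn O U).obj M) :=
  ((((quotSectAdj U).comp (ModSite.sheafHomAdj M)).ofNatIsoLeft (quotTensorIso U M)).rightAdjointUniq
    (ModSite.sheafHomAdj ((ModSite.quotOn O U).obj M)))

/-- Tensoring with the unit. -/
noncomputable def tensorUnitIso (O : Sheaf J CommRingCat.{u}) :
    𝟭 (ModSite.Mod O) ≅ (ModSite.tensorBi O).flip.obj (ModSite.unit O) :=
  let e₁ : jP O ⋙ tensorRight (𝟙_ (PMod O)) ⋙ aP O ≅
      (ModSite.tensorBi O).flip.obj (ModSite.unit O) :=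
    NatIso.ofComponents (fun G => Iso.refl _)
  (asIso (adjP O).counit).symm ≪≫
    Functor.isoWhiskerLeft (jP O) (Functor.isoWhiskerRight (rightUnitorNatIso (PMod O)).symm (aP O)) ≪≫ e₁

/-- The internal hom out of the unit. -/
noncomputable def sheafHomUnitIso (O : Sheaf J CommRingCat.{u}) [ModSite.HasSheafHom (ModSite.unit O)] :
    𝟭 (ModSite.Mod O) ≅ ModSite.sheafHom (ModSite.unit O) :=
  (Adjunction.id.ofNatIsoLeft (tensorUnitIso O)).rightAdjointUniq (ModSite.sheafHomAdj (ModSite.unit O))

end CohLib
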