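import Groth.Agent.CohLib.OverRestrict
import Groth.Agent.CohLib.ExtInjective
import Mathlib.CategoryTheory.Sites.SheafCohomology.Basic
import Mathlib.CategoryTheory.Abelian.Injective.Resolution
import Mathlib.Algebra.Homology.ShortComplex.ExactFunctor
import Mathlib.Algebra.Homology.HomotopyCategory.KInjective

/-!
# Cohomology of an object as cohomology of the localized site
-/

universe u

set_option linter.style.haveILetI false

open CategoryTheory CategoryTheory.Limits Opposite CategoryTheory.Abelian

namespace CohLib

variable {C : Type u} [SmallCategory C] (J : GrothendieckTopology C) (X : C)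

instance additive_restrOver : (restrOver J X).Additive where

lemma preservesFiniteLimits_restrOver : PreservesFiniteLimits (restrOver J X) :=
  haveI : PreservesLimitsOfSize.{0, 0} (restrOver J X) := (extOverAdj J X).rightAdjoint_preservesLimits
  PreservesLimitsOfSize.preservesFiniteLimits _

lemma preservesHomology_restrOver : (restrOver J X).PreservesHomology :=
  haveI := preservesFiniteLimits_restrOver J X
  haveI : (restrOver J X).PreservesEpimorphisms := ⟨fun f _ => epi_restrOver_map J X f⟩
  Functor.preservesHomology_of_preservesEpis_and_kernels _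

/-- Sections as maps out of the free sheaf, additively. -/
noncomputable def secAddEquiv (F : Sheaf J AddCommGrpCat.{u}) :
    ((presheafToSheaf J AddCommGrpCat.{u}).obj (yoneda.obj X ⋙ AddCommGrpCat.free.{u}) ⟶ F) ≃+
      F.obj.obj (op X) :=
  haveI : (presheafToSheaf J AddCommGrpCat.{u}).Additive :=
    (sheafificationAdjunction J AddCommGrpCat.{u}).left_adjoint_additive
  ((sheafificationAdjunction J AddCommGrpCat.{u}).homAddEquiv _ _).trans
    (AddEquiv.mk' ((freePshEquiv _ _).trans yonedaEquiv) (fun _ _ => rfl))

lemma secAddEquiv_eq (F : Sheaf J AddCommGrpCat.{u})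
    (x : (presheafToSheaf J AddCommGrpCat.{u}).obj (yoneda.obj X ⋙ AddCommGrpCat.free.{u}) ⟶ F) :
    secAddEquiv J X F x = secEquiv X F x := rfl

/-- Global sections over `C/X`. -/
noncomputable def overGlobalEquiv (F : Sheaf J AddCommGrpCat.{u}) :
    ((constantSheaf (J.over X) AddCommGrpCat.{u}).obj (AddCommGrpCat.of (ULift ℤ)) ⟶
      (restrOver J X).obj F) ≃+ F.obj.obj (op X) :=
  AddEquiv.trans
    ((constantSheafAdj (J.over X) AddCommGrpCat.{u} (Over.mkIdTerminal (X := X))).homAddEquiv _ _)
    (AddCommGrpCat.uliftZMultiplesAddEquiv _)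

lemma overGlobalEquiv_comp {F G : Sheaf J AddCommGrpCat.{u}} (φ : F ⟶ G)
    (x : (constantSheaf (J.over X) AddCommGrpCat.{u}).obj (AddCommGrpCat.of (ULift ℤ)) ⟶
      (restrOver J X).obj F) :
    overGlobalEquiv J X G (x ≫ (restrOver J X).map φ) = φ.hom.app (op X) (overGlobalEquiv J X F x) := by
  simp only [overGlobalEquiv, AddEquiv.trans_apply]
  erw [Adjunction.homEquiv_naturality_right]
  rfl

/-- Cohomology of an object is the cohomology of the localized site. -/
theorem nonempty_HU_equiv_H (F : Sheaf J AddCommGrpCat.{u}) (n : ℕ) :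
    Nonempty (CohSite.HU F n X ≃+ Sheaf.H.{u} ((restrOver J X).obj F) n) := by
  haveI := preservesHomology_restrOver J X
  let R : InjectiveResolution F := injectiveResolution F
  let R' : InjectiveResolution ((restrOver J X).obj F) :=
    { cocomplex := ((restrOver J X).mapHomologicalComplex _).obj R.cocomplex
      injective := fun n => injective_restrOver J X (R.cocomplex.X n)
      ι := ((HomologicalComplex.singleMapHomologicalComplex (restrOver J X) _ 0).app _).inv ≫
        ((restrOver J X).mapHomologicalComplex _).map R.ι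
      quasiIso := inferInstance }
  let Z₀ := (presheafToSheaf J AddCommGrpCat.{u}).obj (yoneda.obj X ⋙ AddCommGrpCat.free.{u})
  let K : CochainComplex AddCommGrpCat.{u} ℕ :=
    ((preadditiveCoyoneda.obj (op Z₀)).mapHomologicalComplex _).obj R.cocomplex
  obtain ⟨i⟩ := nonempty_homology_iso_ext_of_injective R K (X := Z₀)
    (fun m => AddEquiv.refl _) (fun _ _ => rfl) n
  let e : ∀ m, (K.X m : Type u) ≃+
      ((constantSheaf (J.over X) AddCommGrpCat.{u}).obj (AddCommGrpCat.of (ULift ℤ)) ⟶
        R'.cocomplex.X m) :=
    fun m => show (Z₀ ⟶ R.cocomplex.X m) ≃+ _ from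
      (secAddEquiv J X _).trans (overGlobalEquiv J X _).symm
  obtain ⟨i'⟩ := nonempty_homology_iso_ext_of_injective R' K e (fun m (x : Z₀ ⟶ R.cocomplex.X m) => by
    apply (overGlobalEquiv J X _).injective
    refine ((overGlobalEquiv J X _).apply_symm_apply _).trans ?_
    refine Eq.trans ?_ (overGlobalEquiv_comp J X (R.cocomplex.d m (m + 1)) _).symm
    refine Eq.trans ?_ (congrArg ((R.cocomplex.d m (m + 1)).hom.app (op X))
      ((overGlobalEquiv J X _).apply_symm_apply _)).symm
    exact secEquiv_comp X (R.cocomplex.d m (m + 1)) x) n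
  exact ⟨(i.symm ≪≫ i').addCommGroupIsoToAddEquiv⟩

/-- Restriction to `C/X` preserves K-injectivity. -/
theorem isKInjective_restrOver (I : CochainComplex (Sheaf J AddCommGrpCat.{u}) ℤ)
    (hI : I.IsKInjective) :
    CochainComplex.IsKInjective (((restrOver J X).mapHomologicalComplex _).obj I) := by
  haveI : (extOver J X).Additive := (extOverAdj J X).left_adjoint_additive
  haveI : PreservesColimitsOfSize.{0, 0} (extOver J X) := (extOverAdj J X).leftAdjoint_preservesColimits
  haveI : PreservesFiniteColimits (extOver J X) := PreservesColimitsOfSize.preservesFiniteColimits _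
  haveI : PreservesFiniteLimits (extOver J X) := by
    rw [Functor.preservesFiniteLimits_iff_forall_exact_map_and_mono]
    intro S hS
    haveI := hS.mono_f
    haveI := hS.epi_g
    exact ⟨hS.exact.map_of_epi_of_preservesCokernel _ inferInstance inferInstance,
      Functor.map_mono _ S.f⟩
  haveI : (extOver J X).PreservesHomology := inferInstance
  constructor
  intro K f hK
  let adj := extOverAdj J X
  let f' : ((extOver J X).mapHomologicalComplex _).obj K ⟶ I :=
    { f := fun i => (adj.homEquiv _ _).symm (f.f i)
      comm' := fun i j _ => (adj.homEquiv_naturality_right_symm (f.f i) (I.d i j)).symm.trans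
        ((congrArg (fun z => (adj.homEquiv _ _).symm z) (f.comm i j)).trans
          (adj.homEquiv_naturality_left_symm (K.d i j) (f.f j))) }
  obtain ⟨h⟩ := hI.nonempty_homotopy_zero f' (fun i => (hK i).map (extOver J X))
  refine ⟨{ hom := fun i j => adj.homEquiv _ _ (h.hom i j), zero := fun i j hij => ?_, comm := fun i => ?_ }⟩
  · change adj.homEquiv _ _ (h.hom i j) = 0
    rw [h.zero i j hij]
    exact map_zero (adj.homAddEquiv _ _)
  · have hc := h.comm i
    rw [dNext_eq _ (show (ComplexShape.up ℤ).Rel i (i + 1) by simp),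
      prevD_eq _ (show (ComplexShape.up ℤ).Rel (i - 1) i by simp)] at hc ⊢
    simp only [HomologicalComplex.zero_f_apply, add_zero] at hc ⊢
    have h1 : f.f i = adj.homEquiv _ _ (f'.f i) := ((adj.homEquiv _ _).apply_symm_apply _).symm
    rw [h1, hc]
    refine (map_add (adj.homAddEquiv _ _) _ _).trans ?_
    refine congrArg₂ (· + ·) ?_ ?_
    · exact adj.homEquiv_naturality_left (K.d i (i + 1)) (h.hom (i + 1) i)
    · exact adj.homEquiv_naturality_right (h.hom i (i - 1)) (I.d (i - 1) i)

end CohLib
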