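import Groth.Agent.CohLib.Push
import Groth.Agent.CohLib.Sections
import Mathlib.CategoryTheory.Sites.Over
import Mathlib.Algebra.Category.Grp.AB

/-!
# Restriction to the site of objects over `X`
-/

universe u

set_option linter.style.haveILetI false

open CategoryTheory CategoryTheory.Limits Opposite CategoryTheory.Abelian

namespace CohLib

variable {C : Type u} [SmallCategory C] (J : GrothendieckTopology C) (X : C)

/-- The fibre over `g` of a presheaf on `C/X`. -/
abbrev fib (P : (Over X)ᵒᵖ ⥤ AddCommGrpCat.{u}) (V : Cᵒᵖ) (g : V.unop ⟶ X) : AddCommGrpCat.{u} :=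
  P.obj (op (Over.mk g))

lemma fib_congr (P : (Over X)ᵒᵖ ⥤ AddCommGrpCat.{u}) {V W : Cᵒᵖ} {g : V.unop ⟶ X}
    (k : W.unop ⟶ V.unop) {a b : W.unop ⟶ X} (hab : a = b) (ha : k ≫ g = a) (hb : k ≫ g = b) :
    P.map (Over.homMk (U := Over.mk a) (V := Over.mk g) k ha).op ≫ Sigma.ι (fib X P W) a =
      P.map (Over.homMk (U := Over.mk b) (V := Over.mk g) k hb).op ≫ Sigma.ι (fib X P W) b := by
  subst hab
  rfl

/-- Left Kan extension along `C/X → C` of presheaves of abelian groups. -/
noncomputable def overLan : ((Over X)ᵒᵖ ⥤ AddCommGrpCat.{u}) ⥤ (Cᵒᵖ ⥤ AddCommGrpCat.{u}) where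
  obj P :=
    { obj := fun V => ∐ fib X P V
      map := fun {V W} f => Sigma.desc fun g =>
        P.map (Over.homMk (U := Over.mk (f.unop ≫ g)) (V := Over.mk g) f.unop rfl).op ≫
          Sigma.ι (fib X P W) (f.unop ≫ g)
      map_id := fun V => Sigma.hom_ext _ _ fun g => by
        refine (Sigma.ι_desc _ _).trans ((fib_congr X P (𝟙 V.unop) (Category.id_comp g) rfl
          (Category.id_comp g)).trans ?_)
        refine Eq.trans ?_ ((Category.id_comp _).trans (Category.comp_id _).symm)
        refine congrArg (· ≫ _) ((congrArg P.map ?_).trans (P.map_id _))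
        rfl
      map_comp := fun {V W Z} f f' => Sigma.hom_ext _ _ fun g => by
        rw [Sigma.ι_desc, Sigma.ι_desc_assoc, Category.assoc, Sigma.ι_desc]
        refine Eq.trans ?_ (Category.assoc _ _ _)
        rw [← P.map_comp, ← op_comp]
        exact (fib_congr X P (f'.unop ≫ f.unop) (Category.assoc _ _ _) rfl
          (Category.assoc _ _ _)).trans rfl }
  map {P Q} α :=
    { app := fun V => Limits.Sigma.map fun g => α.app (op (Over.mk g))
      naturality := fun V W f => Sigma.hom_ext _ _ fun g => by
        simp only [Sigma.ι_desc_assoc, Category.assoc, Sigma.ι_map, Sigma.ι_map_assoc, Sigma.ι_desc]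
        rw [← Category.assoc, α.naturality, Category.assoc] }
  map_id P := by
    apply NatTrans.ext; funext V
    exact Sigma.hom_ext _ _ fun g => by simp
  map_comp α β := by
    apply NatTrans.ext; funext V
    exact Sigma.hom_ext _ _ fun g => by simp

lemma ι_overLan_map (P : (Over X)ᵒᵖ ⥤ AddCommGrpCat.{u}) {V W : Cᵒᵖ} (f : V ⟶ W) (g : V.unop ⟶ X) :
    Sigma.ι (fib X P V) g ≫ ((overLan X).obj P).map f =
      P.map (Over.homMk (U := Over.mk (f.unop ≫ g)) (V := Over.mk g) f.unop rfl).op ≫
        Sigma.ι (fib X P W) (f.unop ≫ g) :=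
  Sigma.ι_desc _ _

/-- Components of the adjunction. -/
noncomputable def overLanEquiv (P : (Over X)ᵒᵖ ⥤ AddCommGrpCat.{u}) (M : Cᵒᵖ ⥤ AddCommGrpCat.{u}) :
    ((overLan X).obj P ⟶ M) ≃ (P ⟶ (Over.forget X).op ⋙ M) where
  toFun φ :=
    { app := fun W => (Sigma.ι (fib X P (op W.unop.left)) W.unop.hom) ≫ φ.app (op W.unop.left)
      naturality := fun W W' f => by
        have key : P.map f ≫ Sigma.ι (fib X P (op W'.unop.left)) W'.unop.hom =
            Sigma.ι (fib X P (op W.unop.left)) W.unop.hom ≫
              ((overLan X).obj P).map f.unop.left.op := by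
          refine Eq.trans ?_ (ι_overLan_map X P f.unop.left.op W.unop.hom).symm
          exact Eq.trans rfl (fib_congr X P (V := op W.unop.left) (W := op W'.unop.left) f.unop.left
            (Over.w f.unop).symm (Over.w f.unop) rfl)
        exact (Category.assoc _ _ _).symm.trans ((congrArg (· ≫ φ.app (op W'.unop.left)) key).trans
          ((Category.assoc _ _ _).trans ((congrArg (Sigma.ι (fib X P (op W.unop.left)) W.unop.hom ≫ ·)
            (φ.naturality f.unop.left.op)).trans (Category.assoc _ _ _).symm))) }
  invFun ψ :=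
    { app := fun V => Sigma.desc fun g => ψ.app (op (Over.mk g))
      naturality := fun V W f => Sigma.hom_ext _ _ fun g => by
        have h1 : Sigma.ι (fib X P V) g ≫ Sigma.desc (fun g => ψ.app (op (Over.mk g))) =
            ψ.app (op (Over.mk g)) := Sigma.ι_desc _ _
        have h2 : Sigma.ι (fib X P W) (f.unop ≫ g) ≫ Sigma.desc (fun g => ψ.app (op (Over.mk g))) =
            ψ.app (op (Over.mk (f.unop ≫ g))) := Sigma.ι_desc _ _
        exact ((Category.assoc _ _ _).symm.trans ((congrArg (· ≫ _) (ι_overLan_map X P f g)).trans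
          ((Category.assoc _ _ _).trans ((congrArg (_ ≫ ·) h2).trans
            ((ψ.naturality
              (Over.homMk (U := Over.mk (f.unop ≫ g)) (V := Over.mk g) f.unop rfl).op).trans
              ((congrArg (· ≫ M.map f) h1).symm.trans (Category.assoc _ _ _))))))) }
  left_inv φ := by
    apply NatTrans.ext; funext V
    exact Sigma.hom_ext _ _ fun g => Sigma.ι_desc _ _
  right_inv ψ := by
    apply NatTrans.ext; funext W
    exact Sigma.ι_desc _ _

/-- The presheaf adjunction. -/
noncomputable def overLanAdj :
    overLan X ⊣ (Functor.whiskeringLeft _ _ AddCommGrpCat.{u}).obj (Over.forget X).op :=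
  Adjunction.mkOfHomEquiv
    { homEquiv := overLanEquiv X
      homEquiv_naturality_left_symm := fun {P Q M} α ψ => by
        apply NatTrans.ext; funext V
        exact Sigma.hom_ext _ _ fun g => by
          have h1 : Sigma.ι (fib X P V) g ≫ Sigma.desc (fun g => (α ≫ ψ).app (op (Over.mk g))) =
              α.app (op (Over.mk g)) ≫ ψ.app (op (Over.mk g)) := Sigma.ι_desc _ _
          have h2 : Sigma.ι (fib X Q V) g ≫ Sigma.desc (fun g => ψ.app (op (Over.mk g))) =
              ψ.app (op (Over.mk g)) := Sigma.ι_desc _ _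
          have h3 : Sigma.ι (fib X P V) g ≫ ((overLan X).map α).app V =
              α.app (op (Over.mk g)) ≫ Sigma.ι (fib X Q V) g :=
            Limits.Sigma.ι_map (fun g : V.unop ⟶ X => α.app (op (Over.mk g))) g
          exact h1.trans ((congrArg (α.app (op (Over.mk g)) ≫ ·) h2).symm.trans
            ((Category.assoc _ _ _).symm.trans ((congrArg (· ≫ _) h3).symm.trans
              (Category.assoc _ _ _))))
      homEquiv_naturality_right := fun {P M N} φ β => by
        apply NatTrans.ext; funext W
        exact (Category.assoc _ _ _).symm }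

lemma mono_overLan_map {P Q : (Over X)ᵒᵖ ⥤ AddCommGrpCat.{u}} (α : P ⟶ Q) [Mono α] :
    Mono ((overLan X).map α) := by
  haveI : ∀ V, Mono (((overLan X).map α).app V) := fun V => by
    haveI : ∀ g, Mono ((fun g : V.unop ⟶ X => α.app (op (Over.mk g))) g) := fun g => inferInstance
    exact inferInstanceAs (Mono (Limits.Sigma.map fun g : V.unop ⟶ X => α.app (op (Over.mk g))))
  exact NatTrans.mono_of_mono_app _

/-- Restriction of abelian sheaves to `C/X`. -/
noncomputable abbrev restrOver : Sheaf J AddCommGrpCat.{u} ⥤ Sheaf (J.over X) AddCommGrpCat.{u} :=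
  (Over.forget X).sheafPushforwardContinuous AddCommGrpCat.{u} (J.over X) J

/-- Extension by zero. -/
noncomputable abbrev extOver : Sheaf (J.over X) AddCommGrpCat.{u} ⥤ Sheaf J AddCommGrpCat.{u} :=
  sheafToPresheaf _ _ ⋙ overLan X ⋙ presheafToSheaf J AddCommGrpCat.{u}

/-- Extension by zero is left adjoint to restriction. -/
noncomputable def extOverAdj : extOver J X ⊣ restrOver J X :=
  ((overLanAdj X).comp (sheafificationAdjunction J AddCommGrpCat.{u})).restrictFullyFaithful
    (fullyFaithfulSheafToPresheaf _ _) (Functor.FullyFaithful.id _) (Iso.refl _) (Iso.refl _)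

instance : (extOver J X).PreservesMonomorphisms where
  preserves {F G} φ _ := by
    haveI : Mono φ.hom := (sheafToPresheaf _ AddCommGrpCat.{u}).map_mono φ
    haveI := mono_overLan_map X φ.hom
    exact (presheafToSheaf J AddCommGrpCat.{u}).map_mono ((overLan X).map φ.hom)

lemma injective_restrOver (I : Sheaf J AddCommGrpCat.{u}) [Injective I] :
    Injective ((restrOver J X).obj I) :=
  Injective.injective_of_adjoint (extOverAdj J X) I

lemma epi_restrOver_map {F G : Sheaf J AddCommGrpCat.{u}} (φ : F ⟶ G) [Epi φ] :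
    Epi ((restrOver J X).map φ) := by
  haveI : Sheaf.IsLocallySurjective φ :=
    (Sheaf.isLocallySurjective_iff_epi' AddCommGrpCat.{u} φ).2 inferInstance
  refine (Sheaf.isLocallySurjective_iff_epi' AddCommGrpCat.{u} _).1 ⟨fun {W} s => ?_⟩
  rw [GrothendieckTopology.mem_over_iff]
  refine J.superset_covering ?_ (Presheaf.imageSieve_mem J φ.hom (U := op W.left) s)
  intro V g hg
  exact (Sieve.overEquiv_iff _ _).2 hg

lemma shortExact_restrOver {S : ShortComplex (Sheaf J AddCommGrpCat.{u})} (hS : S.ShortExact) :
    (S.map (restrOver J X)).ShortExact := by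
  haveI := hS.mono_f
  haveI := hS.epi_g
  haveI : PreservesLimitsOfSize.{0, 0} (restrOver J X) := (extOverAdj J X).rightAdjoint_preservesLimits
  exact
    { exact := hS.exact.map_of_mono_of_preservesKernel _ ‹Mono S.f› inferInstance
      mono_f := (restrOver J X).map_mono S.f
      epi_g := epi_restrOver_map J X S.g }

theorem isTotallyAcyclic_restrOver (p : ℕ) : ∀ (L : Sheaf (J.over X) (Type u))
    (F : Sheaf J AddCommGrpCat.{u}), CohCx.IsTotallyAcyclic F →
    Subsingleton (CohCx.HK L ((restrOver J X).obj F) (p + 1)) := by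
  induction p with
  | zero =>
    intro L F hF
    have hS := injSC_shortExact F
    have hS' := shortExact_restrOver J X hS
    haveI : Subsingleton (Ext ((Z (J.over X)).obj L) ((injSC F).map (restrOver J X)).X₂ 1) :=
      haveI := injective_restrOver J X (Injective.under F)
      subsingleton_ext_injective _ ((restrOver J X).obj (Injective.under F)) 0
    refine subsingleton_ext_one_of_lift hS' (X := (Z (J.over X)).obj L) fun s => ?_
    let adj := (Over.forget X).sheafAdjunctionContinuous AddCommGrpCat.{u} (J.over X) J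
    let e := (zPullIso J (J.over X) (Over.forget X)).app L
    haveI : Subsingleton (Ext ((Z J).obj (((Over.forget X).sheafPullback (Type u) (J.over X) J).obj L))
        (injSC F).X₁ 1) := hF _ 0
    obtain ⟨t, ht⟩ := exists_lift_of_subsingleton_ext_one hS
      (X := (Z J).obj (((Over.forget X).sheafPullback (Type u) (J.over X) J).obj L))
      (e.inv ≫ (adj.homEquiv _ _).symm s)
    refine ⟨adj.homEquiv _ _ (e.hom ≫ t), ?_⟩
    refine (adj.homEquiv_naturality_right _ _).symm.trans ?_
    rw [Category.assoc, ht, Iso.hom_inv_id_assoc, Equiv.apply_symm_apply]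
  | succ p ih =>
    intro L F hF
    have hS := injSC_shortExact F
    have hS' := shortExact_restrOver J X hS
    haveI : Subsingleton (Ext ((Z (J.over X)).obj L) ((injSC F).map (restrOver J X)).X₂ (p + 1 + 1)) :=
      haveI := injective_restrOver J X (Injective.under F)
      subsingleton_ext_injective _ ((restrOver J X).obj (Injective.under F)) (p + 1)
    have hQ : CohCx.IsTotallyAcyclic (injSC F).X₃ := fun K q =>
      haveI : Subsingleton (Ext ((Z J).obj K) (injSC F).X₂ (q + 1)) :=
        subsingleton_ext_injective _ (Injective.under F) q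
      haveI : Subsingleton (Ext ((Z J).obj K) (injSC F).X₁ (q + 1 + 1)) := hF K (q + 1)
      subsingleton_ext_of_shift' hS (X := (Z J).obj K) (n := q + 1)
    haveI : Subsingleton (Ext ((Z (J.over X)).obj L) ((injSC F).map (restrOver J X)).X₃ (p + 1)) :=
      ih L _ hQ
    exact subsingleton_ext_of_shift hS' (X := (Z (J.over X)).obj L) (n := p + 1)

end CohLib
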