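import Groth.Agent.CohLib.Objects
import Mathlib.CategoryTheory.Sites.Pullback
import Mathlib.CategoryTheory.Adjunction.Unique
import Mathlib.CategoryTheory.Functor.Flat
import Mathlib.CategoryTheory.Preadditive.AdditiveFunctor

/-!
# Direct images of totally acyclic sheaves
-/

universe u

open CategoryTheory CategoryTheory.Limits Opposite Simplicial AlgebraicTopology CategoryTheory.Abelian

namespace CohLib

section Nerve

variable {A : Type*} [Category A] {B : Type*} [Category B] [HasFiniteWidePullbacks A]
  [HasFiniteWidePullbacks B] (G : A ⥤ B) {X' X : A} (f : X' ⟶ X) (n : ℕ)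

/-- The comparison map for the image of a wide pullback. -/
noncomputable def wpComparison :
    G.obj (widePullback X (fun _ : Fin (n + 1) => X') (fun _ => f)) ⟶
      widePullback (G.obj X) (fun _ : Fin (n + 1) => G.obj X') (fun _ => G.map f) :=
  WidePullback.lift (G.map (WidePullback.base _)) (fun i => G.map (WidePullback.π _ i))
    (fun i => by rw [← G.map_comp, WidePullback.π_arrow])

lemma isIso_wpComparison [PreservesLimitsOfShape (WidePullbackShape (Fin (n + 1))) G] :
    IsIso (wpComparison G f n) := by
  let D := WidePullbackShape.wideCospan X (fun _ : Fin (n + 1) => X') (fun _ => f)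
  let hl := isLimitOfPreserves G (limit.isLimit D)
  let c : Cone (D ⋙ G) :=
    { pt := widePullback (G.obj X) (fun _ : Fin (n + 1) => G.obj X') (fun _ => G.map f)
      π :=
        { app := fun j => match j with
            | none => WidePullback.base _
            | some i => WidePullback.π _ i
          naturality := by
            intro a b φ
            rcases φ with _ | i
            · exact (Category.id_comp _).trans
                ((congrArg (_ ≫ ·) (G.map_id _)).trans (Category.comp_id _)).symm
            · exact (Category.id_comp _).trans
                (WidePullback.π_arrow (fun _ : Fin (n + 1) => G.map f) i).symm } }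
  refine ⟨hl.lift c, hl.hom_ext fun j => ?_, ?_⟩
  · rw [Category.assoc, hl.fac, Category.id_comp]
    rcases j with _ | i
    · exact WidePullback.lift_base (arrows := fun _ : Fin (n + 1) => G.map f) _ _ _
    · exact WidePullback.lift_π (arrows := fun _ : Fin (n + 1) => G.map f) _ _ _ i
  · refine WidePullback.hom_ext _ _ _ (fun i => ?_) ?_
    · rw [Category.assoc, wpComparison, WidePullback.lift_π, Category.id_comp]
      exact hl.fac c (some i)
    · rw [Category.assoc, wpComparison, WidePullback.lift_base, Category.id_comp]
      exact hl.fac c none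

/-- A functor preserving finite wide pullbacks commutes with Čech nerves. -/
noncomputable def cechNerveIso [∀ m, PreservesLimitsOfShape (WidePullbackShape (Fin (m + 1))) G] :
    (Arrow.mk f).cechNerve ⋙ G ≅ (Arrow.mk (G.map f)).cechNerve :=
  haveI := fun m => isIso_wpComparison G f m
  NatIso.ofComponents (fun m => asIso (wpComparison G f m.unop.len)) (by
    intro m k θ
    refine WidePullback.hom_ext _ _ _ (fun i => ?_) ?_
    · simp only [wpComparison, Category.assoc, Functor.comp_map, asIso_hom]
      erw [WidePullback.lift_π, WidePullback.lift_π, WidePullback.lift_π]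
      rw [← G.map_comp]
      exact congrArg G.map (WidePullback.lift_π _ _ _ _ i)
    · simp only [wpComparison, Category.assoc, Functor.comp_map, asIso_hom]
      erw [WidePullback.lift_base, WidePullback.lift_base, WidePullback.lift_base]
      rw [← G.map_comp]
      exact congrArg G.map (WidePullback.lift_base _ _ _ _))

end Nerve

variable {C D : Type u} [SmallCategory C] [SmallCategory D] (J : GrothendieckTopology C)
  (K : GrothendieckTopology D) (u : D ⥤ C) [u.IsContinuous K J]

/-- The inverse image of a free sheaf is free. -/
noncomputable def zPullIso :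
    Z K ⋙ u.sheafPullback AddCommGrpCat.{u} K J ≅ u.sheafPullback (Type u) K J ⋙ Z J :=
  Adjunction.leftAdjointUniq
    ((adjZ K).comp (u.sheafAdjunctionContinuous AddCommGrpCat.{u} K J))
    (((u.sheafAdjunctionContinuous (Type u) K J).comp (adjZ J)).ofNatIsoRight (Iso.refl _))

instance additive_pullAb : (u.sheafPullback AddCommGrpCat.{u} K J).Additive :=
  (u.sheafAdjunctionContinuous AddCommGrpCat.{u} K J).left_adjoint_additive

variable [∀ m, PreservesLimitsOfShape (WidePullbackShape (Fin (m + 1)))
  (u.sheafPullback (Type u) K J)]

/-- The inverse image of the free nerve complex. -/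
noncomputable def pullNerveCxIso {L' L : Sheaf K (Type u)} (g : L' ⟶ L) :
    ((u.sheafPullback AddCommGrpCat.{u} K J).mapHomologicalComplex _).obj (nerveCx g) ≅
      nerveCx ((u.sheafPullback (Type u) K J).map g) :=
  eqToIso (Functor.congr_obj (map_alternatingFaceMapComplex
      (u.sheafPullback AddCommGrpCat.{u} K J)) (freeNerve g).left) ≪≫
    (alternatingFaceMapComplex _).mapIso (Functor.associator _ _ _ ≪≫
      Functor.isoWhiskerLeft _ (zPullIso J K u) ≪≫ (Functor.associator _ _ _).symm ≪≫
      Functor.isoWhiskerRight (cechNerveIso (u.sheafPullback (Type u) K J) g) (Z J))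

/-- Čech exactness is preserved by direct images. -/
theorem allCechExact_push {F : Sheaf J AddCommGrpCat.{u}} (hF : AllCechExact F) :
    AllCechExact ((CohSite.push J K u).obj F) := by
  intro L' L g hg q x hx
  let adj := u.sheafAdjunctionContinuous AddCommGrpCat.{u} K J
  have hg' : Epi ((u.sheafPullback (Type u) K J).map g) := by
    haveI := hg
    haveI := Functor.preservesEpimorphisms_of_adjunction
      (u.sheafAdjunctionContinuous (Type u) K J)
    exact Functor.map_epi _ g
  have he := homExact_of_iso (pullNerveCxIso J K u g).symm
    (hF _ _ ((u.sheafPullback (Type u) K J).map g) hg' q)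
  obtain ⟨y, hy⟩ := he ((adj.homEquiv _ _).symm x) (by
    change (u.sheafPullback AddCommGrpCat.{u} K J).map _ ≫ _ = 0
    rw [← adj.homEquiv_naturality_left_symm, hx]
    exact (adj.homAddEquiv _ _).symm.map_zero)
  refine ⟨adj.homEquiv _ _ y, ?_⟩
  rw [← adj.homEquiv_naturality_left]
  exact (Equiv.eq_symm_apply _).1 hy

theorem isTotallyAcyclic_push {F : Sheaf J AddCommGrpCat.{u}} (hF : CohCx.IsTotallyAcyclic F) :
    CohCx.IsTotallyAcyclic ((CohSite.push J K u).obj F) :=
  isTotallyAcyclic_of_allCechExact (allCechExact_push J K u (allCechExact_of_isTotallyAcyclic hF))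

end CohLib
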