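import Groth.Agent.CohLib.Push
import Mathlib.CategoryTheory.Limits.Shapes.FiniteLimits
import Mathlib.CategoryTheory.Sites.PreservesSheafification

/-!
# The inverse image along a morphism of sites
-/

universe u

open CategoryTheory CategoryTheory.Limits Opposite

namespace CohLib

variable {C D : Type u} [SmallCategory C] [SmallCategory D] (J : GrothendieckTopology C)
  (K : GrothendieckTopology D) (u : D ⥤ C) [u.IsContinuous K J]

lemma preservesFiniteLimits_pull_of_flat [RepresentablyFlat u] :
    PreservesFiniteLimits (u.sheafPullback (Type u) K J) :=
  Functor.sheafPullbackConstruction.preservesFiniteLimits u (Type u) K J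

lemma preservesWidePullbacks_pull_of_preservesFiniteLimits
    [PreservesFiniteLimits (u.sheafPullback (Type u) K J)] (m : ℕ) :
    PreservesLimitsOfShape (WidePullbackShape (Fin (m + 1))) (u.sheafPullback (Type u) K J) :=
  PreservesFiniteLimits.preservesFiniteLimits _

lemma preservesWidePullbacks_pull_of_finiteLimits [HasFiniteLimits D] [PreservesFiniteLimits u]
    (m : ℕ) :
    PreservesLimitsOfShape (WidePullbackShape (Fin (m + 1))) (u.sheafPullback (Type u) K J) :=
  haveI := flat_of_preservesFiniteLimits u
  haveI := preservesFiniteLimits_pull_of_flat J K u
  preservesWidePullbacks_pull_of_preservesFiniteLimits J K u m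

end CohLib
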