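import Groth.Agent.CohLib.Objects
import Mathlib.CategoryTheory.Abelian.CommSq
import Mathlib.Algebra.Homology.CommSq

/-!
# Restriction to subsheaves is surjective for totally acyclic sheaves
-/

universe u

set_option linter.style.haveILetI false

open CategoryTheory CategoryTheory.Limits Opposite CategoryTheory.Abelian

namespace CohLib

variable {C : Type u} [SmallCategory C] {J : GrothendieckTopology C}

lemma mono_Z_map {Y X : Sheaf J (Type u)} (ι : Y ⟶ X) [Mono ι] : Mono ((Z J).map ι) := by
  haveI : Mono ι.hom := (sheafToPresheaf J (Type u)).map_mono ι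
  haveI : Mono (Functor.whiskerRight ι.hom AddCommGrpCat.free.{u}) :=
    haveI : ∀ U, Mono ((Functor.whiskerRight ι.hom AddCommGrpCat.free.{u}).app U) :=
      fun U => AddCommGrpCat.free.{u}.map_mono (ι.hom.app U)
    NatTrans.mono_of_mono_app _
  exact (presheafToSheaf J AddCommGrpCat.{u}).map_mono (Functor.whiskerRight ι.hom AddCommGrpCat.free.{u})

theorem exists_extension_of_isTotallyAcyclic {F : Sheaf J AddCommGrpCat.{u}}
    (hF : CohCx.IsTotallyAcyclic F) {Y X : Sheaf J (Type u)} (ι : Y ⟶ X) [Mono ι]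
    (s : (Z J).obj Y ⟶ F) : ∃ t : (Z J).obj X ⟶ F, (Z J).map ι ≫ t = s := by
  haveI := (adjZ J).isLeftAdjoint
  haveI : PreservesColimitsOfSize.{0, 0} (Z J) := (adjZ J).leftAdjoint_preservesColimits
  have h := (IsPushout.of_hasPushout ι ι).map (Z J)
  haveI := mono_Z_map ι
  haveI : Mono h.shortComplex.f := by
    haveI : Mono (biprod.lift ((Z J).map ι) (-(Z J).map ι) ≫ biprod.fst) := by
      rw [biprod.lift_fst]; infer_instance
    exact mono_of_mono (biprod.lift ((Z J).map ι) (-(Z J).map ι)) biprod.fst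
  haveI := h.epi_shortComplex_g
  have hS : h.shortComplex.ShortExact := { exact := h.exact_shortComplex }
  haveI : Subsingleton (Ext h.shortComplex.X₃ F 1) := hF (pushout ι ι) 0
  obtain ⟨x₂, hx₂⟩ := Ext.contravariant_sequence_exact₁ hS F (Ext.mk₀ s) (n₁ := 1) (by omega)
    (Subsingleton.elim _ _)
  obtain ⟨w, rfl⟩ := Ext.addEquiv₀.symm.surjective x₂
  have hw : h.shortComplex.f ≫ w = s := by
    refine Ext.addEquiv₀.symm.injective ?_
    simpa using hx₂
  refine ⟨biprod.inl ≫ w - biprod.inr ≫ w, ?_⟩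
  rw [← hw]
  change _ = biprod.lift ((Z J).map ι) (-(Z J).map ι) ≫ w
  rw [biprod.lift_eq, Preadditive.add_comp, Preadditive.comp_sub, Category.assoc, Category.assoc,
    Preadditive.neg_comp, sub_eq_add_neg]

end CohLib
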