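import Groth.Prelude.Def_CohSite
import Groth.Agent.CohLib.CohPresheaf
import Groth.Agent.LocSuppLib.ExtNat
import Groth.Agent.RightDerCompLib.Basic

/-!
# Higher direct images on sites and colimits, on a cover
-/

set_option linter.unusedSectionVars false
set_option linter.style.haveILetI false
set_option backward.isDefEq.respectTransparency false

universe u
open CategoryTheory CategoryTheory.Limits Opposite CategoryTheory.Abelian

namespace CohLib.RpushColimSite

variable {C D : Type u} [SmallCategory C] [SmallCategory D] (J : GrothendieckTopology C)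
  (K : GrothendieckTopology D) (u' : D ⥤ C) [u'.IsContinuous K J]

/-- `V ↦ ℤ_{f⁻¹V}`. -/
noncomputable abbrev Zf : D ⥤ Sheaf J AddCommGrpCat.{u} :=
  u' ⋙ yoneda ⋙ (Functor.whiskeringRight _ _ _).obj AddCommGrpCat.free.{u} ⋙
    presheafToSheaf J AddCommGrpCat.{u}

/-- Sections of the direct image are maps out of free sheaves. -/
noncomputable def secIso : LocSuppLib.homPre (Zf J u') ≅
    CohSite.push J K u' ⋙ sheafToPresheaf K AddCommGrpCat.{u} :=
  NatIso.ofComponents (fun F => NatIso.ofComponents (fun V =>
      (CohLib.secAddEquiv J (u'.obj V.unop) F).toAddCommGrpIso)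
    (fun {V W} i => by
      ext t
      exact CohLib.secEquiv_precomp (u'.map i.unop) F t))
    (fun {F G} φ => by
      ext V t
      exact CohLib.secEquiv_comp (u'.obj V.unop) φ t)

/-- The direct image as a composite with sheafification. -/
noncomputable def pushIso :
    LocSuppLib.homPre (Zf J u') ⋙ presheafToSheaf K AddCommGrpCat.{u} ≅
      CohSite.push J K u' :=
  Functor.isoWhiskerRight (secIso J K u') _ ≪≫ Functor.associator _ _ _ ≪≫
    Functor.isoWhiskerLeft (CohSite.push J K u')
      (asIso (sheafificationAdjunction K AddCommGrpCat.{u}).counit) ≪≫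
    Functor.rightUnitor _

theorem preservesColimit_Rpush {ι : Type u} [SmallCategory ι] (F : ι ⥤ Sheaf J AddCommGrpCat.{u}) (p : ℕ)
    (h : ∀ V : D, ∃ (κ : Type u) (Y : κ → D) (g : ∀ k, Y k ⟶ V), Sieve.ofArrows Y g ∈ K V ∧
      ∀ k, PreservesColimit F ((Sheaf.cohomologyPresheafFunctor J p).flip.obj (op (u'.obj (Y k))))) :
    PreservesColimit F (CohSite.Rpush J K u' p) := by
  let a := presheafToSheaf K AddCommGrpCat.{u}
  haveI : a.Additive := (sheafificationAdjunction _ AddCommGrpCat.{u}).left_adjoint_additive
  let Q := (LocSuppLib.homPre (Zf J u')).rightDerived p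
  haveI : PreservesColimit F (Q ⋙ a) := by
    let ev := fun V : D => (evaluation Dᵒᵖ AddCommGrpCat.{u}).obj (op V)
    have hev : ∀ V : D, PreservesColimit F ((Sheaf.cohomologyPresheafFunctor J p).flip.obj (op (u'.obj V))) →
        IsIso ((colimit.post F Q).app (op V)) := by
      intro V hV
      haveI : PreservesColimit F (Q ⋙ ev V) := by
        haveI : PreservesColimit F ((extFunctor.{u} p).obj (op ((Zf J u').obj V))) := hV
        exact preservesColimit_of_natIso F ((LocSuppLib.rightDerivedHomIso (Zf J u') (op V) p).symm ≪≫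
          Groth.Agent.RightDerCompLib.rightDerivedCompExact (LocSuppLib.homPre (Zf J u')) (ev V) p)
      have h2 := colimit.post_post F Q (ev V)
      haveI : IsIso (colimit.post F (Q ⋙ ev V)) := inferInstance
      haveI : IsIso (colimit.post (F ⋙ Q) (ev V)) := inferInstance
      haveI : IsIso (colimit.post (F ⋙ Q) (ev V) ≫ (ev V).map (colimit.post F Q)) := by
        rw [h2]; infer_instance
      exact IsIso.of_isIso_comp_left (colimit.post (F ⋙ Q) (ev V)) ((ev V).map (colimit.post F Q))
    haveI : IsIso (a.map (colimit.post F Q)) := by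
      rw [← GrothendieckTopology.W_iff]
      rw [GrothendieckTopology.W_iff_isLocallyBijective]
      refine ⟨⟨fun {U} s s' hs => ?_⟩, ⟨fun {U} s => ?_⟩⟩
      · obtain ⟨κ, YY, g, hcov, hY⟩ := h U.unop
        refine K.superset_covering ?_ hcov
        rintro Z z ⟨W, b, _, ⟨k⟩, rfl⟩
        haveI := hev _ (hY k)
        refine Sieve.downward_closed _ ?_ b
        refine ((AddCommGrpCat.mono_iff_injective ((colimit.post F Q).app (op (YY k)))).mp inferInstance) ?_
        exact (NatTrans.naturality_apply _ _ _).trans ((congrArg _ hs).trans (NatTrans.naturality_apply _ _ _).symm)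
      · obtain ⟨κ, YY, g, hcov, hY⟩ := h U
        refine K.superset_covering ?_ hcov
        rintro Z z ⟨W, b, _, ⟨k⟩, rfl⟩
        haveI := hev _ (hY k)
        refine Sieve.downward_closed _ ?_ b
        exact (AddCommGrpCat.epi_iff_surjective ((colimit.post F Q).app (op (YY k)))).mp inferInstance _
    haveI : PreservesColimit (F ⋙ Q) a :=
      haveI := (sheafificationAdjunction K AddCommGrpCat.{u}).leftAdjoint_preservesColimits
      inferInstance
    haveI : IsIso (colimit.post F (Q ⋙ a)) := by
      rw [← colimit.post_post]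
      infer_instance
    exact preservesColimit_of_isIso_post _ _
  exact preservesColimit_of_natIso F
    ((Groth.Agent.RightDerCompLib.rightDerivedCompExact (LocSuppLib.homPre (Zf J u')) a p).symm ≪≫
      Groth.Agent.RightDerCompLib.rightDerivedCongr (pushIso J K u') p)

end CohLib.RpushColimSite
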