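import Groth.Agent.CohLib.CohPresheaf

/-!
# Higher direct images are sheafified cohomology presheaves
-/

universe u

set_option linter.style.haveILetI false

open CategoryTheory CategoryTheory.Limits Opposite

namespace CohLib

variable {C D : Type u} [SmallCategory C] [SmallCategory D] (J : GrothendieckTopology C)
  (K : GrothendieckTopology D) (u : D ⥤ C) [u.IsContinuous K J]

/-- `R^i f_* F` is the sheafification of `V ↦ H^i(u V, F)`. -/
theorem nonempty_Rpush_iso_sheafify (F : Sheaf J AddCommGrpCat.{u}) (i : ℕ) :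
    Nonempty ((CohSite.Rpush J K u i).obj F ≅
      (presheafToSheaf K AddCommGrpCat.{u}).obj (u.op ⋙ F.cohomologyPresheaf i)) := by
  let R : InjectiveResolution F := injectiveResolution F
  let G := CohSite.push J K u
  let a := presheafToSheaf K AddCommGrpCat.{u}
  haveI : a.Additive := (sheafificationAdjunction K AddCommGrpCat.{u}).left_adjoint_additive
  let W := (Functor.whiskeringLeft Dᵒᵖ Cᵒᵖ AddCommGrpCat.{u}).obj u.op
  obtain ⟨e⟩ := nonempty_secCx_homology_iso R i
  let S := ((G.mapHomologicalComplex _).obj R.cocomplex).sc i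
  exact ⟨R.isoRightDerivedObj G i ≪≫
    (ShortComplex.homologyMapIso ((S.mapNatIso (asIso (sheafificationAdjunction K AddCommGrpCat.{u}).counit)) ≪≫
      Iso.refl _)).symm ≪≫
    (S.map (sheafToPresheaf K AddCommGrpCat.{u})).mapHomologyIso a ≪≫
    a.mapIso (((secCx R).sc i).mapHomologyIso W ≪≫ W.mapIso e)⟩

end CohLib
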