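import Groth.Agent.CohLib.HomExact
import Groth.Agent.ModSiteLib.TensorSheaf
import Mathlib.Algebra.Category.ModuleCat.Presheaf.Free
import Mathlib.Algebra.Category.ModuleCat.Monoidal.Basic

/-!
# Total acyclicity of the internal hom into an injective module
-/

universe u

set_option linter.style.haveILetI false

open CategoryTheory CategoryTheory.Limits Opposite Simplicial AlgebraicTopology MonoidalCategory

namespace CohLib

variable {C : Type u} [SmallCategory C] {J : GrothendieckTopology C} (O : Sheaf J CommRingCat.{u})

open ModSiteLib (PMod aP jP adjP tensorSh)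

/-- Free presheaf of modules. -/
noncomputable abbrev freeP : (Cᵒᵖ ⥤ Type u) ⥤ PMod O := PresheafOfModules.free _

/-- The forgetful functor from modules to sheaves of sets. -/
noncomputable abbrev modForget : ModSite.Mod O ⥤ Sheaf J (Type u) :=
  SheafOfModules.toSheaf (ModSite.ringSh O) ⋙ sheafCompose J (forget AddCommGrpCat.{u})

/-- Free sheaf of modules on a sheaf of sets. -/
noncomputable abbrev freeMod : Sheaf J (Type u) ⥤ ModSite.Mod O :=
  sheafToPresheaf J (Type u) ⋙ freeP O ⋙ aP O

/-- Free modules on sheaves of sets are left adjoint to forgetting. -/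
noncomputable def freeModAdj : freeMod O ⊣ modForget O :=
  ((PresheafOfModules.freeAdjunction _).comp (adjP O)).restrictFullyFaithful
    (fullyFaithfulSheafToPresheaf J (Type u)) (Functor.FullyFaithful.id _) (Iso.refl _) (Iso.refl _)

/-- The map from the free abelian sheaf to the free module. -/
noncomputable def toFreeMod : Z J ⟶ freeMod O ⋙ SheafOfModules.toSheaf (ModSite.ringSh O) where
  app L := ((adjZ J).homEquiv _ _).symm ((freeModAdj O).unit.app L)
  naturality L M g := by
    apply ((adjZ J).homEquiv _ _).injective
    rw [Adjunction.homEquiv_naturality_left, Adjunction.homEquiv_naturality_right,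
      Equiv.apply_symm_apply, Equiv.apply_symm_apply]
    exact (freeModAdj O).unit.naturality g

lemma toFreeMod_bijective (L : Sheaf J (Type u)) (H : ModSite.Mod O) :
    Function.Bijective (fun y : (freeMod O).obj L ⟶ H =>
      (toFreeMod O).app L ≫ (SheafOfModules.toSheaf (ModSite.ringSh O)).map y) := by
  have : (fun y : (freeMod O).obj L ⟶ H =>
      (toFreeMod O).app L ≫ (SheafOfModules.toSheaf (ModSite.ringSh O)).map y) =
      ((adjZ J).homEquiv _ _).symm ∘ (freeModAdj O).homEquiv L H := by
    funext y
    apply ((adjZ J).homEquiv _ _).injective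
    change (adjZ J).homEquiv _ _ (((adjZ J).homEquiv L _).symm ((freeModAdj O).unit.app L) ≫
      (SheafOfModules.toSheaf (ModSite.ringSh O)).map y) =
      (adjZ J).homEquiv _ _ (((adjZ J).homEquiv _ _).symm ((freeModAdj O).homEquiv L H y))
    rw [Equiv.apply_symm_apply, Adjunction.homEquiv_naturality_right]
    erw [Equiv.apply_symm_apply]
    exact ((freeModAdj O).homEquiv_unit L H y).symm
  rw [this]
  exact ((adjZ J).homEquiv _ _).symm.bijective.comp ((freeModAdj O).homEquiv L H).bijective

variable {O} (F : ModSite.Mod O)

/-- Free module tensor `F`, on presheaves. -/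
noncomputable abbrev freeTensorP : (Cᵒᵖ ⥤ Type u) ⥤ PMod O :=
  freeP O ⋙ tensorRight ((jP O).obj F)

/-- The comparison from the presheaf tensor product. -/
noncomputable def freeModTensorHom :
    sheafToPresheaf J (Type u) ⋙ freeTensorP F ⋙ aP O ⟶
      freeMod O ⋙ (ModSite.tensorBi O).flip.obj F where
  app L := (tensorSh O ((jP O).obj F)).map ((adjP O).unit.app ((freeP O).obj L.obj))
  naturality L M g :=
    ((tensorSh O ((jP O).obj F)).map_comp _ _).symm.trans
      ((congrArg (tensorSh O ((jP O).obj F)).map ((adjP O).unit.naturality ((freeP O).map g.hom))).trans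
        ((tensorSh O ((jP O).obj F)).map_comp _ _))

instance : IsIso (freeModTensorHom F) :=
  @NatIso.isIso_of_isIso_app _ _ _ _ _ _ (freeModTensorHom F) fun _ =>
    ModSiteLib.isIso_tensorSh_map O _ _ (ModSiteLib.W_unit O _)

/-- Tensoring free sheaves of modules with `F`. -/
noncomputable def freeModTensorIso :
    freeMod O ⋙ (ModSite.tensorBi O).flip.obj F ≅
      sheafToPresheaf J (Type u) ⋙ freeTensorP F ⋙ aP O :=
  (asIso (freeModTensorHom F)).symm

lemma additive_of_isLeftAdjoint {A B : Type (u + 1)} [Category.{u} A] [Category.{u} B]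
    [Abelian A] [Abelian B] (T : A ⥤ B) [T.IsLeftAdjoint] : T.Additive := by
  haveI : PreservesColimitsOfSize.{0, 0} T := (Adjunction.ofIsLeftAdjoint T).leftAdjoint_preservesColimits
  haveI : T.PreservesZeroMorphisms := Functor.preservesZeroMorphisms_of_isLeftAdjoint T
  haveI := preservesBinaryBiproducts_of_preservesBinaryCoproducts T
  exact Functor.additive_of_preservesBinaryBiproducts T

variable {K' K : Sheaf J (Type u)} (f : K' ⟶ K)

lemma quasiIso_freeTensorNerve :
    QuasiIso (AlternatingFaceMapComplex.ε.app (((SimplicialObject.Augmented.whiskering _ _).obj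
      (freeTensorP F)).obj (presheafNerve f))) := by
  let T := PresheafOfModules.toPresheaf (O.obj ⋙ forget₂ CommRingCat.{u} RingCat.{u})
  have h : QuasiIso ((T.mapHomologicalComplex _).map
      (AlternatingFaceMapComplex.ε.app (((SimplicialObject.Augmented.whiskering _ _).obj
        (freeTensorP F)).obj (presheafNerve f)))) := by
    haveI : QuasiIso (AlternatingFaceMapComplex.ε.app
        (((SimplicialObject.Augmented.whiskering _ _).obj T).obj
          (((SimplicialObject.Augmented.whiskering _ _).obj
            (freeTensorP F)).obj (presheafNerve f)))) := by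
      rw [HomologicalComplex.quasiIso_iff_evaluation]
      intro U
      have ed := (nerveExtraDegeneracy f U).map
        (ModuleCat.free (O.obj.obj U) ⋙
          tensorRight (ModuleCat.of (O.obj.obj U) (((jP O).obj F).obj U)) ⋙
          forget₂ (ModuleCat (O.obj.obj U)) AddCommGrpCat.{u})
      haveI : QuasiIso (AlternatingFaceMapComplex.ε.app
          (((SimplicialObject.Augmented.whiskering _ _).obj
            ((evaluation Cᵒᵖ AddCommGrpCat.{u}).obj U)).obj
            (((SimplicialObject.Augmented.whiskering _ _).obj T).obj
              (((SimplicialObject.Augmented.whiskering _ _).obj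
                (freeTensorP F)).obj (presheafNerve f))))) :=
        inferInstanceAs (QuasiIso ed.homotopyEquiv.hom)
      exact quasiIso_of_arrowIso (mapεArrowIso ((evaluation Cᵒᵖ AddCommGrpCat.{u}).obj U)
        (((SimplicialObject.Augmented.whiskering _ _).obj T).obj
          (((SimplicialObject.Augmented.whiskering _ _).obj
            (freeTensorP F)).obj (presheafNerve f)))).symm
    exact quasiIso_of_arrowIso (mapεArrowIso T _).symm
  exact (HomologicalComplex.quasiIso_map_iff_of_preservesHomology _ T).1 h

theorem allCechExact_sheafHom (G : ModSite.Mod O) [ModSite.HasSheafHom F] [Injective G] :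
    AllCechExact (ModSite.toAb ((ModSite.sheafHom F).obj G)) := by
  intro K' K f _ q
  refine homExact_of_natTrans (SheafOfModules.toSheaf (ModSite.ringSh O)) (toFreeMod O)
    (toFreeMod_bijective O) (Arrow.mk f).cechNerve ?_
  haveI : ((ModSite.tensorBi O).flip.obj F).Additive := additive_of_isLeftAdjoint _
  refine homExact_of_adjunction (ModSite.sheafHomAdj F) ?_
  haveI : PreservesFiniteLimits (aP O) :=
    inferInstanceAs (PreservesFiniteLimits (ModSite.sheafify O))
  haveI : PreservesFiniteColimits (aP O) :=
    haveI := (adjP O).leftAdjoint_preservesColimits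
    inferInstance
  haveI := (adjP O).isLeftAdjoint
  haveI : (aP O).Additive := additive_of_isLeftAdjoint _
  haveI : (aP O).PreservesHomology := inferInstance
  let A := ((SimplicialObject.Augmented.whiskering _ _).obj (freeTensorP F)).obj (presheafNerve f)
  haveI : QuasiIso (AlternatingFaceMapComplex.ε.app A) := quasiIso_freeTensorNerve F f
  haveI : QuasiIso (AlternatingFaceMapComplex.ε.app
      (((SimplicialObject.Augmented.whiskering _ _).obj (aP O)).obj A)) :=
    quasiIso_of_arrowIso (mapεArrowIso (aP O) A)
  refine homExact_of_iso ?_ (homExact_of_injective _ (AlternatingFaceMapComplex.ε.app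
    (((SimplicialObject.Augmented.whiskering _ _).obj (aP O)).obj A)) G q)
  exact (alternatingFaceMapComplex _).mapIso
      (Functor.isoWhiskerLeft (Arrow.mk f).cechNerve (freeModTensorIso F)).symm ≪≫
    (eqToIso (Functor.congr_obj
      (map_alternatingFaceMapComplex ((ModSite.tensorBi O).flip.obj F))
      ((Arrow.mk f).cechNerve ⋙ freeMod O))).symm

end CohLib
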